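import Mathlib
import Cfsg.Agent.H47.WC2
import Cfsg.Agent.H47.Basic2
import Cfsg.Agent.H47.Frat
import Cfsg.Agent.H47.PRed2
import Cfsg.Agent.Cop.Basic
import Cfsg.Agent.H48.CopComm

set_option autoImplicit false
open Subgroup Cfsg.Agent.H47

namespace Cfsg.Agent.H48

variable {G : Type*} [Group G] {p : ℕ}

/-- normal subgroups: `O_p(N) ≤ O_p(L)`. -/
theorem pCoreOf_le_pCoreOf_of_normal {N L : Subgroup G} (hNL : N ≤ L)
    (hn : L ≤ normalizer (N : Set G)) : pCoreOf p N ≤ pCoreOf p L :=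
  le_pCoreOf ((pCoreOf_le p N).trans hNL) (le_normalizer_pCoreOf_of_le hn) (pCoreOf_isPGroup p N)

theorem le_normalizer_cmod {V W X : Subgroup G} (hV : X ≤ normalizer (V : Set G))
    (hW : X ≤ normalizer (W : Set G)) : X ≤ normalizer (cmod V W : Set G) := by
  have key : ∀ g ∈ X, ∀ x ∈ cmod V W, g * x * g⁻¹ ∈ cmod V W := by
    intro g hg x hx
    rw [mem_cmod] at hx ⊢
    refine ⟨mul_mem (mul_mem (hW hg) hx.1) (inv_mem (hW hg)), fun v hv => ?_⟩
    have hv' : g⁻¹ * v * g ∈ V := (mem_normalizer_iff''.1 (hV hg) v).1 hv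
    have := (mem_normalizer_iff.1 (hW hg) _).1 (hx.2 _ hv')
    rw [commutatorElement_def] at this ⊢
    convert this using 1
    group
  intro g hg
  rw [mem_normalizer_iff]
  intro x
  refine ⟨key g hg x, fun h => ?_⟩
  have := key g⁻¹ (inv_mem hg) _ h
  convert this using 1
  group

section fin
variable [Finite G] [Fact p.Prime]

/-- If the `p`-group `A` is normalized by `N` and `[A,N] ≤ A'` then `O^p(N)` centralizes `A`. -/
theorem pRes_le_centralizer_of_cmod_commutator {A N : Subgroup G} (hA : IsPGroup p A)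
    (hN : N ≤ normalizer (A : Set G)) (hc : ⁅A, N⁆ ≤ ⁅A, A⁆) : pRes p N ≤ centralizer (A : Set G) := by
  rw [pRes_le_iff]
  intro x hx hxo
  set B := zpowers x with hB
  have hBN : B ≤ N := (zpowers_le.2 hx)
  have hBA : B ≤ normalizer (A : Set G) := hBN.trans hN
  have hAn : Group.IsNilpotent A := hA.isNilpotent
  have hcop : (Nat.card B).Coprime (Nat.card A) := by
    obtain ⟨k, hk⟩ := hA.exists_card_eq
    rw [hk, hB, Nat.card_zpowers]
    exact Nat.Coprime.pow_right _ hxo
  have h1 := Cfsg.Agent.Cop.commutator_sup_centralizer hBA hcop (Or.inr (inferInstance : Group.IsSolvable A))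
  have h2 : A ⊓ centralizer (B : Set G) = A := by
    apply Fr_nongen inf_le_left
    apply le_antisymm (sup_le inf_le_left (Fr_le A))
    calc A = ⁅A, B⁆ ⊔ (A ⊓ centralizer (B : Set G)) := h1.symm
      _ ≤ Fr A ⊔ (A ⊓ centralizer (B : Set G)) := by
        apply sup_le_sup_right
        exact ((Subgroup.commutator_mono le_rfl hBN).trans hc).trans (commutator_le_Fr_of_isNilpotent hAn)
      _ = _ := sup_comm _ _
  have h3 : A ≤ centralizer (B : Set G) := h2 ▸ inf_le_right
  exact le_centralizer_symm h3 (mem_zpowers x)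

/-- if `[O^p(N), T] ≤ O_p(L)` with `N` normal in `L` and `T` Sylow in `N`, then `T ≤ O_p(L)`. -/
theorem sylIn_le_pCoreOf {N L T O : Subgroup G} (hNL : N ≤ L)
    (hn : L ≤ normalizer (N : Set G)) (hT : SylIn p T N) (hO : O ≤ pCoreOf p L)
    (hNO : N ≤ normalizer (O : Set G)) (h : ⁅pRes p N, T⁆ ≤ O) :
    T ≤ pCoreOf p L := by
  have hOp : IsPGroup p O := (pCoreOf_isPGroup p L).to_le hO
  have hTN := hT.le
  have hTO : T ≤ normalizer (O : Set G) := hTN.trans hNO
  have hsup : IsPGroup p ↥(T ⊔ O) := hT.isPGroup.to_sup_of_normal_right' hOp hTO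
  have hRO : pRes p N ≤ normalizer (O : Set G) := (pRes_le p N).trans hNO
  have hn1 : pRes p N ≤ normalizer ((T ⊔ O : Subgroup G) : Set G) := by
    rw [le_normalizer_iff_commutator_le_right, Subgroup.commutator_comm]
    refine (commutator_le_of_le_cmod (W := O) ?_).trans le_sup_right
    refine le_cmod_sup (le_cmod_iff.2 ⟨hRO, ?_⟩) (le_cmod_self hRO) hTO hTO
    rwa [Subgroup.commutator_comm]
  have hn2 : N ≤ normalizer ((T ⊔ O : Subgroup G) : Set G) := by
    rw [← hT.pRes_sup]
    exact sup_le hn1 (le_sup_left.trans le_normalizer)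
  have h3 : (T ⊔ O) ⊓ N ≤ pCoreOf p N :=
    le_pCoreOf inf_le_right (le_normalizer_inf hn2 le_normalizer) (hsup.to_le inf_le_left)
  exact (le_inf le_sup_left hTN).trans (h3.trans (pCoreOf_le_pCoreOf_of_normal hNL hn))

end fin

end Cfsg.Agent.H48
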