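import Mathlib
import Cfsg.Agent.H48.MSS
import Cfsg.Agent.H47.Sub
import Cfsg.Agent.H47.PCl

set_option autoImplicit false
open Subgroup Cfsg.Agent.H47

namespace Cfsg.Agent.H48

variable {G : Type*} [Group G] {p : ℕ}

theorem exists_normal_of_isSubnormal {K : Subgroup G} (hK : K.IsSubnormal) (hne : K ≠ ⊤) :
    ∃ M : Subgroup G, M.Normal ∧ M ≠ ⊤ ∧ K ≤ M := by
  induction hK with
  | top => exact absurd rfl hne
  | step H K hle hS hN ih =>
    by_cases hKt : K = ⊤
    · subst hKt
      refine ⟨H, ?_, hne, le_rfl⟩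
      exact normal_of_top_le_normalizer' (step_le_normalizer hle hN)
    · obtain ⟨M, h1, h2, h3⟩ := ih hKt
      exact ⟨M, h1, h2, hle.trans h3⟩
where
  normal_of_top_le_normalizer' {N : Subgroup G} (h : ⊤ ≤ normalizer (N : Set G)) : N.Normal :=
    ⟨fun n hn g => (mem_normalizer_iff.1 (h (mem_top g)) n).1 hn⟩

section fin
variable [Finite G] [Fact p.Prime]

omit [Fact p.Prime] in
theorem subnormalClosure_eq_top {A : Subgroup G} (h : ncl A ⊤ = ⊤) : subnormalClosure A = ⊤ := by
  by_contra hne
  obtain ⟨M, h1, h2, h3⟩ := exists_normal_of_isSubnormal (isSubnormal_subnormalClosure A) hne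
  apply h2
  rw [eq_top_iff, ← h]
  exact ncl_le ((le_subnormalClosure A).trans h3) (normalizer_eq_top_iff.2 h1).ge

omit [Finite G] [Fact p.Prime] in
theorem ncl_subgroupOf_eq_top {A W : Subgroup G} (hA : A ≤ W) (h : ncl A W = W) :
    ncl (A.subgroupOf W) ⊤ = ⊤ := by
  have h1 := ncl_eq_map_normalClosure A W hA
  rw [ncl_top]
  apply Subgroup.map_injective W.subtype_injective
  rw [h1, h, ← MonoidHom.range_eq_map, W.range_subtype]

/-- if `W` is generated by the `W`-conjugates of the `p`-group `A` then `W = A O^p(W)`. -/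
theorem sup_pRes_of_ncl {A W : Subgroup G} (hA : A ≤ W) (h : ncl A W = W) :
    A ⊔ pRes p W = W := by
  have h1 := sup_pRes_subnormalClosure (p := p) (A.subgroupOf W)
  rw [subnormalClosure_eq_top (ncl_subgroupOf_eq_top hA h)] at h1
  have h2 := congrArg (Subgroup.map W.subtype) h1
  rwa [Subgroup.map_sup, map_subgroupOf_eq_of_le hA, pRes_map, ← MonoidHom.range_eq_map,
    W.range_subtype] at h2

theorem commutator_pRes_of_ncl {A W : Subgroup G} (hAp : IsPGroup p A) (hA : A ≤ W)
    (h : ncl A W = W) : ⁅pRes p W, A⁆ = pRes p W := by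
  have h1 := commutator_pRes_subnormalClosure (p := p) (A := A.subgroupOf W)
    (hAp.comap_of_injective W.subtype W.subtype_injective)
  rw [subnormalClosure_eq_top (ncl_subgroupOf_eq_top hA h)] at h1
  have h2 := congrArg (Subgroup.map W.subtype) h1
  rwa [Subgroup.map_commutator, map_subgroupOf_eq_of_le hA, pRes_map, ← MonoidHom.range_eq_map,
    W.range_subtype] at h2

/-- conjugates inside the weak closure -/
theorem ncl_weakClosure {Q K : Subgroup G} (h : WCl p Q) (hQK : Q ≤ K) :
    ncl Q (weakClosure Q K) = weakClosure Q K := by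
  rw [← h.weakClosure_eq_ncl (self_le_weakClosure hQK)]
  apply le_antisymm weakClosure_le
  rw [weakClosure_le_iff]
  intro g hg
  exact le_weakClosure (le_weakClosure hg)

end fin

end Cfsg.Agent.H48
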