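import Mathlib
import Cfsg.Agent.H47.Asym
import Cfsg.Agent.H48.MSS
import Cfsg.Agent.H48.WClo
import Cfsg.Agent.H47.PCl

set_option autoImplicit false
open Subgroup Cfsg.Agent.H47

namespace Cfsg.Agent.H48

variable {G : Type*} [Group G] {p : ℕ} [Finite G] [Fact p.Prime]

/-- The abstract situation: `Y ≤ P`, `P` is a `p`-group and normalizers of `p`-groups above `P` normalize `P`;
`N_G(P)` normalizes `Y`. -/
structure ASetup (p : ℕ) (Y P : Subgroup G) : Prop where
  el : Cfsg.IsElementaryAbelian p Y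
  pg : IsPGroup p P
  le : Y ≤ P
  cen : P ≤ centralizer (Y : Set G)
  syl : SylIn p P (centralizer (Y : Set G))
  norm : ∀ L : Subgroup G, IsPGroup p L → P ≤ L → normalizer (L : Set G) ≤ normalizer (P : Set G)
  norm' : normalizer (P : Set G) ≤ normalizer (Y : Set G)
  asym : ¬ Cfsg.IsSymmetricIn Y

theorem ASetup.of {Q M : Subgroup G} {S : Sylow p G} (hQ : IsPGroup p Q) (hL : Cfsg.IsLarge Q)
    (hSM : (S : Subgroup G) ≤ M) (hM : Cfsg.IsInFrakM p M)
    (hasym : ¬ Cfsg.IsSymmetricIn (Cfsg.largestPReducedOf p M)) :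
    ASetup p (Cfsg.largestPReducedOf p M) (pCoreOf p M) := by
  obtain ⟨h1, h2⟩ := asym_facts hQ hL hSM hM hasym
  have hred := pRed_largestPReducedOf p M
  exact ⟨hred.el, pCoreOf_isPGroup p M, hred.le_pCoreOf, hred.pCoreOf_le_centralizer,
    Cfsg.Agent.H47.IsInFrakM.sylIn_centralizer hSM hM, h1, h2.trans (dagger_le_normalizer M), hasym⟩

/-- membership in `ℌ(P)` -/
structure HSet (p : ℕ) (Y P H : Subgroup G) : Prop where
  char : CharP' p H
  le : P ≤ H
  not : ¬ Y ≤ pCoreOf p H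
  min : ∀ X : Subgroup G, P ≤ X → X < H → Y ≤ pCoreOf p X

theorem isInFrakH_iff {M H : Subgroup G} :
    Cfsg.IsInFrakH p M H ↔ HSet p (Cfsg.largestPReducedOf p M) (pCoreOf p M) H := by
  constructor
  · rintro ⟨h1, h2, h3, h4⟩
    exact ⟨charP'_iff.1 h1, h2, h3, h4⟩
  · rintro ⟨h1, h2, h3, h4⟩
    exact ⟨charP'_iff.2 h1, h2, h3, h4⟩

omit [Finite G] [Fact p.Prime] in
/-- `K` normalized by `H` and normalizing `P` normalizes `ncl P H`. -/
theorem le_normalizer_ncl_of_normal {P H K : Subgroup G} (hK : K ≤ normalizer (P : Set G))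
    (hHK : H ≤ normalizer (K : Set G)) : K ≤ normalizer (ncl P H : Set G) := by
  have key : ∀ k ∈ K, ∀ x ∈ ncl P H, k * x * k⁻¹ ∈ ncl P H := by
    intro k hk x hx
    unfold ncl at hx ⊢
    induction hx using closure_induction with
    | mem x hx =>
      obtain ⟨h, hh, y, hy, rfl⟩ := hx
      apply Subgroup.subset_closure
      have h1 : h⁻¹ * k * h ∈ K := (mem_normalizer_iff''.1 (hHK hh) k).1 hk
      exact ⟨h, hh, _, (mem_normalizer_iff.1 (hK h1) y).1 hy, by group⟩
    | one => simp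
    | mul x y _ _ ihx ihy =>
      have := mul_mem ihx ihy
      convert this using 1
      group
    | inv x _ ih =>
      have := inv_mem ih
      convert this using 1
      group
  intro k hk
  rw [mem_normalizer_iff]
  intro x
  refine ⟨key k hk x, fun h => ?_⟩
  have := key k⁻¹ (inv_mem hk) _ h
  convert this using 1
  group

theorem HSet.ncl_eq {Y P H : Subgroup G} (hH : HSet p Y P H) : ncl P H = H := by
  by_contra hne
  have hle : ncl P H ≤ H := ncl_le hH.le Subgroup.le_normalizer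
  exact hH.not ((hH.min _ (le_ncl P H) (lt_of_le_of_ne hle hne)).trans
    (pCoreOf_le_pCoreOf_of_normal hle (le_normalizer_ncl P H)))

omit [Finite G] [Fact p.Prime] in
theorem charP'_of_core_le {L H : Subgroup G} (hL : CharP' p L) (hHL : H ≤ L) (hO : pCoreOf p L ≤ H) :
    CharP' p H := by
  have h1 : pCoreOf p L ≤ pCoreOf p H :=
    le_pCoreOf hO (hHL.trans (le_normalizer_pCoreOf p L)) (pCoreOf_isPGroup p L)
  exact ((inf_le_inf hHL (centralizer_anti h1)).trans hL).trans h1

namespace ASetup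
variable {Y P : Subgroup G}

theorem syl_le (h : ASetup p Y P) {T : Subgroup G} (hT : IsPGroup p T) (hPT : P ≤ T) :
    T ≤ normalizer (P : Set G) := Subgroup.le_normalizer.trans (h.norm T hT hPT)

/-- `O_p(X)` normalizes `P` when `P ≤ X`. -/
theorem core_le (h : ASetup p Y P) {X : Subgroup G} (hPX : P ≤ X) :
    pCoreOf p X ≤ normalizer (P : Set G) := by
  obtain ⟨T, hT, hPT⟩ := SylIn.exists_of_le hPX h.pg
  exact (pCoreOf_le_sylIn hT).trans (h.syl_le hT.isPGroup hPT)

/-- a subgroup `H = ⟨P^H⟩` of `L` is of characteristic `p` if `L` is and `P ≤ H`. -/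
theorem charP' (h : ASetup p Y P) {L H : Subgroup G} (hL : CharP' p L) (hHL : H ≤ L) (hPH : P ≤ H)
    (hn : ncl P H = H) : CharP' p H := by
  have hO : pCoreOf p L ≤ normalizer (P : Set G) := h.core_le (hPH.trans hHL)
  have hHO : H ≤ normalizer (pCoreOf p L : Set G) := hHL.trans (le_normalizer_pCoreOf p L)
  have h1 : pCoreOf p L ≤ normalizer (H : Set G) := by
    conv_rhs => rw [← hn]
    exact le_normalizer_ncl_of_normal hO hHO
  have h2 : CharP' p (H ⊔ pCoreOf p L) :=
    charP'_of_core_le hL (sup_le hHL (pCoreOf_le p L)) le_sup_right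
  exact h2.of_normal le_sup_left (sup_le Subgroup.le_normalizer h1)

theorem exists_hSet (h : ASetup p Y P) {L : Subgroup G} (hL : CharP' p L) (hPL : P ≤ L)
    (hYL : ¬ Y ≤ pCoreOf p L) : ∃ H ≤ L, HSet p Y P H := by
  obtain ⟨H, ⟨hPH, hHL, hYH⟩, hmin⟩ := Set.exists_min_image
    {X : Subgroup G | P ≤ X ∧ X ≤ L ∧ ¬ Y ≤ pCoreOf p X} (fun X => Nat.card X) (Set.toFinite _)
    ⟨L, hPL, le_rfl, hYL⟩
  have hm : ∀ X : Subgroup G, P ≤ X → X < H → Y ≤ pCoreOf p X := by
    intro X hPX hXH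
    by_contra hYX
    have h1 := hmin X ⟨hPX, hXH.le.trans hHL, hYX⟩
    exact hXH.ne (Subgroup.eq_of_le_of_card_ge hXH.le h1)
  have hn : ncl P H = H := by
    by_contra hne
    have hle : ncl P H ≤ H := ncl_le hPH Subgroup.le_normalizer
    exact hYH ((hm _ (le_ncl P H) (lt_of_le_of_ne hle hne)).trans
      (pCoreOf_le_pCoreOf_of_normal hle (le_normalizer_ncl P H)))
  exact ⟨H, hHL, h.charP' hL hHL hPH hn, hPH, hYH, hm⟩

/-- the decomposition of `H` -/
theorem facts (h : ASetup p Y P) {H : Subgroup G} (hH : HSet p Y P H) :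
    ⁅pRes p H, Y⁆ = pRes p H ∧ pRes p H ⊔ P = H ∧ pRes p H ⊔ Y = ncl Y H := by
  have hYH : Y ≤ H := h.le.trans hH.le
  have hRn : H ≤ normalizer (pRes p H : Set G) := le_normalizer_pRes p H
  have hPY : P ≤ normalizer (Y : Set G) := Subgroup.le_normalizer.trans h.norm'
  have h1 : P ⊔ pRes p H = H := sup_pRes_of_ncl hH.le hH.ncl_eq
  set K := ⁅pRes p H, Y⁆ with hK
  have hKR : K ≤ pRes p H := le_normalizer_iff_commutator_le_left.1 (hYH.trans hRn)
  have hPK : P ≤ normalizer (K : Set G) := le_normalizer_commutator (hH.le.trans hRn) hPY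
  have hYK : Y ≤ normalizer (K : Set G) := normalizer_commutator_ge_right _ _
  have hRK : pRes p H ≤ normalizer (K : Set G) := normalizer_commutator_ge_left _ _
  -- K Y is normal in H
  have hncl : ncl Y H = K ⊔ Y := by
    apply le_antisymm
    · apply ncl_le le_sup_right
      rw [← h1]
      apply sup_le (le_normalizer_sup hPK hPY)
      rw [le_normalizer_iff_commutator_le_right]
      refine (commutator_le_of_le_cmod (W := K) (sup_le ?_ ?_)).trans le_sup_left
      · exact le_cmod_iff.2 ⟨Subgroup.le_normalizer, le_normalizer_iff_commutator_le_right.1 hRK⟩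
      · exact le_cmod_iff.2 ⟨hYK, le_rfl⟩
    · refine sup_le ?_ (le_ncl Y H)
      have h2 : pRes p H ≤ normalizer (ncl Y H : Set G) := (pRes_le p H).trans (le_normalizer_ncl Y H)
      exact (commutator_mono le_rfl (le_ncl Y H)).trans (le_normalizer_iff_commutator_le_right.1 h2)
  have hnle : ncl Y H ≤ H := ncl_le hYH Subgroup.le_normalizer
  have h3 : ncl Y H ⊔ P = H := by
    by_contra hne
    have h4 := hH.min _ (le_sup_right : P ≤ ncl Y H ⊔ P) (lt_of_le_of_ne (sup_le hnle hH.le) hne)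
    apply hH.not
    refine le_trans ?_ (pCoreOf_le_pCoreOf_of_normal hnle (le_normalizer_ncl Y H))
    refine (le_inf (le_ncl Y H) h4).trans (le_pCoreOf inf_le_left (le_normalizer_inf Subgroup.le_normalizer
      (le_sup_left.trans (le_normalizer_pCoreOf p _))) ((pCoreOf_isPGroup p _).to_le inf_le_right))
  have h5 : P ⊔ K = H := by
    rw [hncl] at h3
    rw [← h3]
    apply le_antisymm
    · exact sup_le le_sup_right (le_sup_left.trans le_sup_left)
    · exact sup_le (sup_le le_sup_right (h.le.trans le_sup_left)) le_sup_left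
  have h6 : K = pRes p H := by
    apply le_antisymm hKR
    conv_lhs => rw [← h5]
    rw [pRes_sup_of_isPGroup h.pg hPK]
    exact pRes_le _ _
  refine ⟨h6, ?_, ?_⟩
  · rw [sup_comm]; exact h1
  · rw [hncl, ← h6]

theorem pirr_of (h : ASetup p Y P) {H Q : Subgroup G} (hH : HSet p Y P H) (hQ : IsPGroup p Q)
    (hHQ : H ≤ normalizer (Q : Set G)) :
    Q ≤ pCoreOf p (H ⊔ Q) ∧ H ⊔ Q ≤ normalizer (H : Set G) ∧ pRes p (H ⊔ Q) = pRes p H ∧
      PIrr p (H ⊔ Q) := by
  set H₁ := H ⊔ Q with hH₁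
  have hQO : Q ≤ pCoreOf p H₁ := le_pCoreOf le_sup_right (sup_le hHQ Subgroup.le_normalizer) hQ
  have hPH₁ : P ≤ H₁ := hH.le.trans le_sup_left
  have hQP : Q ≤ normalizer (P : Set G) := hQO.trans (h.core_le hPH₁)
  have hQH : Q ≤ normalizer (H : Set G) := by
    conv_rhs => rw [← hH.ncl_eq]
    exact le_normalizer_ncl_of_normal hQP hHQ
  have hHn : H₁ ≤ normalizer (H : Set G) := sup_le Subgroup.le_normalizer hQH
  have hres : pRes p H₁ = pRes p H := by
    rw [hH₁, sup_comm]
    exact pRes_sup_of_isPGroup hQ hQH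
  refine ⟨hQO, hHn, hres, ?_, ?_⟩
  · intro h1
    exact hH.not (isPClosed_iff_le.1 (isPClosed_mono h1 le_sup_left) Y (h.le.trans hH.le)
      (IsElementaryAbelian.isPGroup' h.el))
  · intro N hN hn hNc
    rw [hres]
    obtain ⟨T, hT, hPT⟩ := SylIn.exists_of_le hPH₁ h.pg
    have hQT : Q ≤ T := hQO.trans (pCoreOf_le_sylIn hT)
    have hTN : SylIn p (T ⊓ N) N := hT.inf_normal hN hn
    have hTn : T ≤ normalizer ((T ⊓ N : Subgroup G) : Set G) :=
      le_normalizer_inf Subgroup.le_normalizer (hT.le.trans hn)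
    set X := H ⊓ normalizer ((T ⊓ N : Subgroup G) : Set G) with hX
    have hPX : P ≤ X := le_inf hH.le (hPT.trans hTn)
    have hXne : X ≠ H := by
      intro h1
      apply hNc
      rw [isPClosed_iff_syl_normal hTN]
      exact hN.trans (sup_le (h1.ge.trans inf_le_right) (hQT.trans hTn))
    set U := pCoreOf p X with hU
    have hYU : Y ≤ U := hH.min X hPX (lt_of_le_of_ne inf_le_left hXne)
    have hXH₁ : X ≤ H₁ := inf_le_left.trans le_sup_left
    have hUH₁ : U ≤ H₁ := (pCoreOf_le p X).trans hXH₁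
    have hQX : Q ≤ normalizer (X : Set G) :=
      le_normalizer_inf hQH ((hQT.trans hTn).trans Subgroup.le_normalizer)
    have h2 : H₁ ≤ normalizer ((U ⊔ N : Subgroup G) : Set G) := by
      rw [← hTN.frattini_sup hN hn]
      apply sup_le (le_sup_right.trans Subgroup.le_normalizer)
      have h3 : H₁ ⊓ normalizer ((T ⊓ N : Subgroup G) : Set G) ≤ X ⊔ Q := by
        intro x hx
        obtain ⟨hx1, hx2⟩ := mem_inf.1 hx
        obtain ⟨a, ha, q, hq, rfl⟩ := (mem_sup_of_le_normalizer hHQ).1 hx1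
        refine mul_mem (mem_sup_left (mem_inf.2 ⟨ha, ?_⟩)) (mem_sup_right hq)
        have := mul_mem hx2 (inv_mem ((hQT.trans hTn) hq))
        simpa using this
      refine h3.trans (sup_le ?_ ?_)
      · exact le_normalizer_sup (le_normalizer_pCoreOf p X) (hXH₁.trans hn)
      · exact le_normalizer_sup (le_normalizer_pCoreOf_of_le hQX) (le_sup_right.trans hn)
    have h4 : ncl Y H ≤ U ⊔ N := ncl_le (hYU.trans le_sup_left) (le_sup_left.trans h2)
    have h5 : pRes p H ≤ U ⊔ N := by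
      refine le_trans ?_ h4
      rw [← (h.facts hH).2.2]
      exact le_sup_left
    rw [← pRes_pRes]
    refine (pRes_mono h5).trans ?_
    rw [pRes_sup_of_isPGroup (pCoreOf_isPGroup p X) (hUH₁.trans hn)]
    exact pRes_le _ _

theorem sylIn_of_inf (h : ASetup p Y P) {H N T : Subgroup G} (hH : P ≤ H)
    (hN : normalizer (P : Set G) ≤ N) (hT : SylIn p T (H ⊓ N)) : SylIn p T H := by
  obtain ⟨T₁, hT₁, hPT⟩ := SylIn.exists_of_le hH h.pg
  have h1 : T₁ ≤ H ⊓ N := le_inf hT₁.le ((h.syl_le hT₁.isPGroup hPT).trans hN)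
  have h2 := hT₁.of_le h1 inf_le_left
  exact hT₁.of_card_eq (hT.le.trans inf_le_left) hT.isPGroup (h2.card_eq hT).le

end ASetup

end Cfsg.Agent.H48
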