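import Mathlib
import Cfsg.Agent.H48.MSS
import Cfsg.Agent.H48.WClo
import Cfsg.Agent.H47.PCl
import Cfsg.Agent.H47.Mini
import Cfsg.Agent.H47.Red3

set_option autoImplicit false
open Subgroup Cfsg.Agent.H47

namespace Cfsg.Agent.H48

variable {G : Type*} [Group G] {p : ℕ}

/-- `M` is the greatest proper subgroup of `L` containing `P`. -/
def Gt (P L M : Subgroup G) : Prop :=
  P ≤ M ∧ M < L ∧ ∀ X : Subgroup G, P ≤ X → X < L → X ≤ M

theorem Gt.unique {P L M M' : Subgroup G} (h : Gt P L M) (h' : Gt P L M') : M = M' :=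
  le_antisymm (h'.2.2 M h.1 h.2.1) (h.2.2 M' h'.1 h'.2.1)

theorem map_conj_lt {A B : Subgroup G} (g : G) (h : A < B) :
    A.map (MulAut.conj g).toMonoidHom < B.map (MulAut.conj g).toMonoidHom :=
  lt_of_le_of_ne (map_conj_mono h.le) fun h' => h.ne (map_conj_inj h')

theorem map_conj_inv_map {A : Subgroup G} (g : G) :
    (A.map (MulAut.conj g⁻¹).toMonoidHom).map (MulAut.conj g).toMonoidHom = A := by
  rw [← map_conj_mul, mul_inv_cancel, map_conj_one]

theorem map_conj_map_inv {A : Subgroup G} (g : G) :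
    (A.map (MulAut.conj g).toMonoidHom).map (MulAut.conj g⁻¹).toMonoidHom = A := by
  rw [← map_conj_mul, inv_mul_cancel, map_conj_one]

theorem Gt.map_conj {P L M : Subgroup G} (h : Gt P L M) (g : G) :
    Gt (P.map (MulAut.conj g).toMonoidHom) (L.map (MulAut.conj g).toMonoidHom)
      (M.map (MulAut.conj g).toMonoidHom) := by
  refine ⟨map_conj_mono h.1, map_conj_lt g h.2.1, fun X hX hXL => ?_⟩
  have h1 := h.2.2 (X.map (MulAut.conj g⁻¹).toMonoidHom) (by rwa [← map_conj_le_iff]) (by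
    have := map_conj_lt g⁻¹ hXL
    rwa [map_conj_map_inv] at this)
  have h2 := map_conj_mono (g := g) h1
  rwa [map_conj_inv_map] at h2

/-- the set-up -/
structure KSetup (p : ℕ) (𝒦 : Set (Subgroup G)) : Prop where
  ne : 𝒦.Nonempty
  inv : ∀ h : G, ∀ E ∈ 𝒦, E.map (MulAut.conj h).toMonoidHom ∈ 𝒦
  tr : ∀ E ∈ 𝒦, ∀ K ∈ 𝒦, ∃ h : G, K = E.map (MulAut.conj h).toMonoidHom
  res : pRes p (⊤ : Subgroup G) ≤ sSup 𝒦
  norm : ∀ E ∈ 𝒦, sSup 𝒦 ⊔ pCore p G ≤ normalizer ((E ⊔ pCore p G : Subgroup G) : Set G)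

namespace KSetup

variable {𝒦 : Set (Subgroup G)}

theorem normal (h : KSetup p 𝒦) : (sSup 𝒦).Normal := by
  constructor
  intro n hn g
  have h1 : (sSup 𝒦).map (MulAut.conj g).toMonoidHom ≤ sSup 𝒦 := by
    rw [Subgroup.map_le_iff_le_comap, sSup_le_iff]
    intro E hE
    rw [← Subgroup.map_le_iff_le_comap]
    exact le_sSup (h.inv g E hE)
  exact h1 ⟨n, hn, rfl⟩

section fin
variable [Finite G] [Fact p.Prime]

theorem sup_normal (h : KSetup p 𝒦) : (sSup 𝒦 ⊔ pCore p G).Normal := by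
  have := h.normal
  have := pCore_normal p G
  infer_instance

theorem subnormal (h : KSetup p 𝒦) {E : Subgroup G} (hE : E ∈ 𝒦) :
    (E ⊔ pCore p G).IsSubnormal :=
  isSubnormal_of_le_normalizer h.sup_normal.isSubnormal (sup_le_sup_right (le_sSup hE) _) (h.norm E hE)

theorem sup_syl (h : KSetup p 𝒦) {T : Subgroup G} (hT : SylIn p T ⊤) : sSup 𝒦 ⊔ T = ⊤ := by
  rw [eq_top_iff, ← hT.pRes_sup]
  exact sup_le_sup_right h.res T

theorem core_le {T : Subgroup G} (hT : SylIn p T ⊤) : pCore p G ≤ T := by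
  rw [← pCoreOf_top]; exact pCoreOf_le_sylIn hT

theorem le_normalizer_core (X : Subgroup G) : X ≤ normalizer (pCore p G : Set G) := by
  have := pCore_normal p G
  exact le_normalizer_of_normal

theorem inf_sup_le {T E : Subgroup G} (hT : pCore p G ≤ T) :
    T ⊓ (E ⊔ pCore p G) ≤ (T ⊓ E) ⊔ pCore p G := by
  intro x hx
  obtain ⟨hxT, hxE⟩ := mem_inf.1 hx
  obtain ⟨e, he, o, ho, rfl⟩ := (mem_sup_of_le_normalizer (le_normalizer_core E)).1 hxE
  refine mul_mem (mem_sup_left (mem_inf.2 ⟨?_, he⟩)) (mem_sup_right ho)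
  have := mul_mem hxT (inv_mem (hT ho))
  simpa using this

theorem sylIn_inf (h : KSetup p 𝒦) {T : Subgroup G} (hT : SylIn p T ⊤) {E : Subgroup G}
    (hE : E ∈ 𝒦) : SylIn p (T ⊓ E) E := by
  have hL := hT.inf_subnormal (h.subnormal hE)
  obtain ⟨S, hS, hTS⟩ := SylIn.exists_of_le (inf_le_right : T ⊓ E ≤ E) (hT.isPGroup.to_le inf_le_left)
  have hOp : IsPGroup p (pCore p G) := pCore_isPGroup p G
  have h1 : IsPGroup p ↥(S ⊔ pCore p G) := hS.isPGroup.to_sup_of_normal_right' hOp (le_normalizer_core S)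
  have h2 := hL.eq_of_le (sup_le_sup_right hS.le _) h1
    ((inf_sup_le (core_le hT)).trans (sup_le_sup_right hTS _))
  have h3 : S ≤ T ⊓ E := le_inf (le_sup_left.trans (h2.le.trans inf_le_left)) hS.le
  rw [le_antisymm hTS h3]
  exact hS

/-- `O_p(E O) = O`. -/
theorem core_eq (h : KSetup p 𝒦) {E : Subgroup G} (hE : E ∈ 𝒦) :
    pCoreOf p (E ⊔ pCore p G) ≤ pCore p G := pCoreOf_le_of_isSubnormal (h.subnormal hE)

theorem core_le_core (h : KSetup p 𝒦) {E : Subgroup G} (hE : E ∈ 𝒦) :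
    pCoreOf p E ≤ pCore p G := by
  refine le_trans ?_ (h.core_eq hE)
  have hOp : IsPGroup p (pCore p G) := pCore_isPGroup p G
  refine le_sup_left.trans (le_pCoreOf (N := pCoreOf p E ⊔ pCore p G)
    (sup_le_sup_right (pCoreOf_le p E) _) ?_ ?_)
  · apply sup_le
    · exact le_normalizer_sup (le_normalizer_pCoreOf p E) (le_normalizer_core E)
    · exact le_sup_right.trans le_normalizer
  · exact (pCoreOf_isPGroup p E).to_sup_of_normal_right' hOp (le_normalizer_core _)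

end fin

end KSetup

end Cfsg.Agent.H48
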