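import Mathlib
import Cfsg.Agent.H48.Asym2
import Cfsg.Agent.H48.KProd
import Cfsg.Agent.H2.Subnormal
import Cfsg.Agent.H47.Sub
import Cfsg.Agent.H47.Red3

set_option autoImplicit false
open Subgroup Cfsg.Agent.H47
open scoped commutatorElement

namespace Cfsg.Agent.H48

variable {G : Type*} [Group G] {p : ℕ} [Finite G] [Fact p.Prime]

theorem isSubnormal_of_le_core {A : Subgroup G} (h : A ≤ pCore p G) : A.IsSubnormal := by
  have hn := pCore_normal p G
  refine isSubnormal_of_pow_mem (p := p) (N := ⊥) (K := pCore p G) hn.isSubnormal bot_le h ?_ ?_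
  · rw [normalizer_eq_top_iff.2 inferInstance]; exact le_top
  · intro x hx
    obtain ⟨k, hk⟩ := isPGroup_iff_mem.1 (pCore_isPGroup p G) x hx
    exact ⟨k, by rw [hk]; exact one_mem _⟩

/-- Wielandt's zipper lemma for `p`-groups -/
theorem exists_unique_max {Y L : Subgroup G} (hY : IsPGroup p Y) (hYL : Y ≤ L)
    (hnot : ¬ Y ≤ pCoreOf p L) (hmin : ∀ X : Subgroup G, Y ≤ X → X < L → Y ≤ pCoreOf p X) :
    ∃ L₀, Gt Y L L₀ := by
  set A := Y.subgroupOf L with hA
  have hAns : ¬ A.IsSubnormal := by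
    intro h
    apply hnot
    have h1 := le_pCore_of_isSubnormal (p := p) h (hY.comap_of_injective L.subtype L.subtype_injective)
    have h2 := Subgroup.map_mono (f := L.subtype) h1
    rwa [map_subgroupOf_eq_of_le hYL] at h2
  have hAt : A ≠ ⊤ := fun h => hAns (h ▸ IsSubnormal.top)
  have hsub : ∀ H : Subgroup L, H ≠ ⊤ → A ≤ H → (A.subgroupOf H).IsSubnormal := by
    intro H hH hAH
    apply isSubnormal_of_le_core (p := p)
    have h1 : Y ≤ H.map L.subtype := by
      rw [← map_subgroupOf_eq_of_le hYL]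
      exact Subgroup.map_mono hAH
    have h2 : H.map L.subtype < L := by
      refine lt_of_le_of_ne (Subgroup.map_subtype_le _) fun h => hH ?_
      apply Subgroup.map_injective L.subtype_injective
      rw [h, ← MonoidHom.range_eq_map, Subgroup.range_subtype]
    have h3 := hmin _ h1 h2
    -- transfer
    have h4 : (pCoreOf p (H.map L.subtype)).subgroupOf L ≤ H := by
      intro x hx
      obtain ⟨y, hy, hyx⟩ := (pCoreOf_le p (H.map L.subtype)) hx
      have : y = x := Subtype.ext hyx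
      exact this ▸ hy
    have h5 : (((pCoreOf p (H.map L.subtype)).subgroupOf L).subgroupOf H) ≤ pCore p H := by
      apply le_pCore
      · constructor
        intro n hn g
        have hg : ((g : L) : G) ∈ normalizer (pCoreOf p (H.map L.subtype) : Set G) :=
          le_normalizer_pCoreOf p _ ⟨(g : L), g.2, rfl⟩
        exact (mem_normalizer_iff.1 hg _).1 hn
      · exact ((pCoreOf_isPGroup p (H.map L.subtype)).comap_of_injective L.subtype
          L.subtype_injective).comap_of_injective H.subtype H.subtype_injective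
    refine le_trans ?_ h5
    intro x hx
    exact h3 hx
  obtain h | ⟨M, hM, hAM⟩ := eq_top_or_exists_le_coatom A
  · exact absurd h hAt
  refine ⟨M.map L.subtype, ?_, ?_, ?_⟩
  · rw [← map_subgroupOf_eq_of_le hYL]
    exact Subgroup.map_mono hAM
  · refine lt_of_le_of_ne (Subgroup.map_subtype_le _) fun h => hM.1 ?_
    apply Subgroup.map_injective L.subtype_injective
    rw [h, ← MonoidHom.range_eq_map, Subgroup.range_subtype]
  · intro X hYX hXL
    have hX : X.subgroupOf L ≠ ⊤ := by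
      intro h
      rw [subgroupOf_eq_top] at h
      exact absurd h (not_le_of_gt hXL)
    obtain h | ⟨K, hK, hXK⟩ := eq_top_or_exists_le_coatom (X.subgroupOf L)
    · exact absurd h hX
    have hMK : M = K := H2.zipper _ A le_rfl hsub hAns M K hM hK hAM
      ((show A ≤ X.subgroupOf L from fun x hx => hYX hx).trans hXK)
    rw [hMK, ← map_subgroupOf_eq_of_le hXL.le]
    exact Subgroup.map_mono hXK

/-- `V / W` is a noncentral chief factor of `H`. -/
structure Chief (H V W : Subgroup G) : Prop where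
  hV : H ≤ normalizer (V : Set G)
  hW : H ≤ normalizer (W : Set G)
  lt : W < V
  irr : ∀ Z : Subgroup G, H ≤ normalizer (Z : Set G) → W ≤ Z → Z ≤ V → Z = W ∨ Z = V
  non : ¬ ⁅V, H⁆ ≤ W

/-- centralizer in `V` of `X` modulo `W`. -/
def cen (V X W : Subgroup G) : Subgroup G := V ⊓ cmod X W

section cen
omit [Finite G] [Fact p.Prime]

theorem mem_cen {V X W : Subgroup G} {v : G} :
    v ∈ cen V X W ↔ v ∈ V ∧ v ∈ normalizer (W : Set G) ∧ ∀ x ∈ X, ⁅v, x⁆ ∈ W := by
  rw [cen, mem_inf, mem_cmod]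

theorem le_cen_iff {D V X W : Subgroup G} (hV : V ≤ normalizer (W : Set G)) :
    D ≤ cen V X W ↔ D ≤ V ∧ ⁅D, X⁆ ≤ W := by
  rw [cen, le_inf_iff, le_cmod_iff, commutator_comm]
  exact ⟨fun h => ⟨h.1, h.2.2⟩, fun h => ⟨h.1, h.1.trans hV, h.2⟩⟩

theorem cen_le {V X W : Subgroup G} : cen V X W ≤ V := inf_le_left

theorem commutator_cen_le {V X W : Subgroup G} : ⁅cen V X W, X⁆ ≤ W := by
  rw [commutator_comm]
  exact commutator_le_of_le_cmod inf_le_right

theorem cen_anti {V X X' W : Subgroup G} (h : X ≤ X') : cen V X' W ≤ cen V X W := by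
  intro v hv
  rw [mem_cen] at hv ⊢
  exact ⟨hv.1, hv.2.1, fun x hx => hv.2.2 x (h hx)⟩

theorem sup_comm_le {D X X' W : Subgroup G} (hX : X ≤ normalizer (W : Set G))
    (hX' : X' ≤ normalizer (W : Set G)) (h1 : ⁅D, X⁆ ≤ W) (h2 : ⁅D, X'⁆ ≤ W) : ⁅D, X ⊔ X'⁆ ≤ W :=
  commutator_le_of_le_cmod (sup_le (le_cmod_iff.2 ⟨hX, h1⟩) (le_cmod_iff.2 ⟨hX', h2⟩))

theorem sup_comm_le' {D D' X W : Subgroup G} (hX : D ≤ normalizer (W : Set G))
    (hX' : D' ≤ normalizer (W : Set G)) (h1 : ⁅D, X⁆ ≤ W) (h2 : ⁅D', X⁆ ≤ W) : ⁅D ⊔ D', X⁆ ≤ W := by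
  rw [commutator_comm] at h1 h2 ⊢
  exact sup_comm_le hX hX' h1 h2

theorem map_conj_cen {V X W : Subgroup G} (g : G) : (cen V X W).map (MulAut.conj g).toMonoidHom =
    cen (V.map (MulAut.conj g).toMonoidHom) (X.map (MulAut.conj g).toMonoidHom)
      (W.map (MulAut.conj g).toMonoidHom) := by
  have key : ∀ (V X W : Subgroup G) (g : G), (cen V X W).map (MulAut.conj g).toMonoidHom ≤
      cen (V.map (MulAut.conj g).toMonoidHom) (X.map (MulAut.conj g).toMonoidHom)
        (W.map (MulAut.conj g).toMonoidHom) := by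
    intro V X W g
    rintro _ ⟨v, hv, rfl⟩
    have hv' := mem_cen.1 hv
    rw [mem_cen]
    refine ⟨⟨v, hv'.1, rfl⟩, ?_, ?_⟩
    · rw [normalizer_map_conj]
      exact ⟨v, hv'.2.1, rfl⟩
    · rintro _ ⟨x, hx, rfl⟩
      refine ⟨⁅v, x⁆, hv'.2.2 x hx, ?_⟩
      rw [map_commutatorElement]
  apply le_antisymm (key V X W g)
  have h1 := key (V.map (MulAut.conj g).toMonoidHom) (X.map (MulAut.conj g).toMonoidHom)
        (W.map (MulAut.conj g).toMonoidHom) g⁻¹
  rw [map_conj_map_inv, map_conj_map_inv, map_conj_map_inv] at h1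
  have h2 := map_conj_mono (g := g) h1
  rwa [map_conj_inv_map] at h2

theorem le_cen_of_le {V X W : Subgroup G} (hWV : W ≤ V) (hX : X ≤ normalizer (W : Set G)) :
    W ≤ cen V X W := by
  intro w hw
  rw [mem_cen]
  refine ⟨hWV hw, Subgroup.le_normalizer hw, fun x hx => ?_⟩
  exact le_normalizer_iff_commutator_le_left.1 hX (commutator_mem_commutator hw hx)

end cen

namespace Chief
variable {H V W : Subgroup G}

omit [Finite G] [Fact p.Prime] in
/-- no nontrivial fixed points of `H` on `V / W`. -/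
theorem le_of_comm (hc : Chief H V W) (hVH : V ≤ H) {D : Subgroup G} (hD : D ≤ V) (h : ⁅D, H⁆ ≤ W) :
    D ≤ W := by
  have hVW : V ≤ normalizer (W : Set G) := hVH.trans hc.hW
  have h1 : D ≤ cen V H W := (le_cen_iff hVW).2 ⟨hD, h⟩
  have h2 : H ≤ normalizer (cen V H W : Set G) :=
    le_normalizer_inf hc.hV (le_normalizer_cmod Subgroup.le_normalizer hc.hW)
  rcases hc.irr _ h2 (le_cen_of_le hc.lt.le hc.hW) cen_le with h3 | h3
  · exact h1.trans h3.le
  · exfalso
    apply hc.non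
    conv_lhs => rw [← h3]
    exact commutator_cen_le

end Chief

/-- the data of S2862 -/
structure LSet (p : ℕ) (Y P H L L₀ : Subgroup G) : Prop where
  a : ASetup p Y P
  h : HSet p Y P H
  LH : L ≤ H
  YL : Y ≤ L
  gt : Gt Y L L₀
  core : Y ≤ pCoreOf p L₀
  sup : L ⊔ P = H
  gen : ∀ g ∈ L, g ∉ L₀ → Y ⊔ Y.map (MulAut.conj g).toMonoidHom = L

theorem exists_lSet {Y P H L : Subgroup G} (a : ASetup p Y P) (h : HSet p Y P H) (hLH : L ≤ H)
    (hYL : Y ≤ L) (hYO : ¬ Y ≤ pCoreOf p L)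
    (hmin : ∀ L' : Subgroup G, L' ≤ L → Y ≤ L' → ¬ Y ≤ pCoreOf p L' → L' = L) :
    ∃ L₀, LSet p Y P H L L₀ := by
  have hYp : IsPGroup p Y := IsElementaryAbelian.isPGroup' a.el
  have hm : ∀ X : Subgroup G, Y ≤ X → X < L → Y ≤ pCoreOf p X := by
    intro X hYX hXL
    by_contra hn
    exact hXL.ne (hmin X hXL.le hYX hn)
  obtain ⟨L₀, hL₀⟩ := exists_unique_max hYp hYL hYO hm
  have hYc := hm L₀ hL₀.1 hL₀.2.1
  refine ⟨L₀, a, h, hLH, hYL, hL₀, hYc, ?_, ?_⟩
  · by_contra hne
    have h1 := h.min (L ⊔ P) le_sup_right (lt_of_le_of_ne (sup_le hLH h.le) hne)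
    apply hYO
    refine (le_inf hYL h1).trans (le_pCoreOf inf_le_left (le_normalizer_inf Subgroup.le_normalizer
      (le_sup_left.trans (le_normalizer_pCoreOf p _))) ((pCoreOf_isPGroup p _).to_le inf_le_right))
  · intro g hg hgL₀
    by_contra hne
    have hgL : L.map (MulAut.conj g).toMonoidHom = L := norm_map_conj (Subgroup.le_normalizer hg)
    have hYg : Y.map (MulAut.conj g).toMonoidHom ≤ L := by rw [← hgL]; exact map_conj_mono hYL
    have h1 : Y ⊔ Y.map (MulAut.conj g).toMonoidHom ≤ L₀ :=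
      hL₀.2.2 _ le_sup_left (lt_of_le_of_ne (sup_le hYL hYg) hne)
    -- `L₀` and its conjugate both contain `Y`
    have h2 : Y ≤ L₀.map (MulAut.conj g⁻¹).toMonoidHom := by
      rw [← map_conj_le_iff]; exact le_sup_right.trans h1
    have h3 : L₀.map (MulAut.conj g⁻¹).toMonoidHom < L := by
      have := map_conj_lt g⁻¹ hL₀.2.1
      rwa [norm_map_conj (Subgroup.le_normalizer (inv_mem hg))] at this
    have h4 := hL₀.2.2 _ h2 h3
    have h5 : g⁻¹ ∈ normalizer (L₀ : Set G) := mem_normalizer_of_map_conj_le h4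
    have h6 : g ∈ normalizer (L₀ : Set G) := by simpa using inv_mem h5
    have h7 : L ⊓ normalizer (L₀ : Set G) ≤ L₀ := by
      apply hL₀.2.2 _ (hL₀.1.trans (le_inf hL₀.2.1.le Subgroup.le_normalizer))
      refine lt_of_le_of_ne inf_le_left fun h8 => ?_
      apply hYO
      exact hYc.trans (pCoreOf_le_pCoreOf_of_normal hL₀.2.1.le (h8.ge.trans inf_le_right))
    exact hgL₀ (h7 (mem_inf.2 ⟨hg, h6⟩))

end Cfsg.Agent.H48
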