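import Mathlib
import Cfsg.Agent.H48.Asym3

set_option autoImplicit false
open Subgroup Cfsg.Agent.H47
open scoped commutatorElement

namespace Cfsg.Agent.H48

variable {G : Type*} [Group G] {p : ℕ} [Finite G] [Fact p.Prime]

/-- two conjugates -/
theorem ASetup.commute {Y P H X : Subgroup G} (a : ASetup p Y P) (h : HSet p Y P H) {l : G}
    (hl : l ∈ H) (hX : P ≤ X) (hX' : P.map (MulAut.conj l).toMonoidHom ≤ X) (hXH : X < H) :
    Y.map (MulAut.conj l).toMonoidHom ≤ centralizer (Y : Set G) := by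
  have h1 : Y ≤ pCoreOf p X := h.min X hX hXH
  have h2 : pCoreOf p X ≤ normalizer (Y : Set G) := (a.core_le hX).trans a.norm'
  have hlH : H.map (MulAut.conj l⁻¹).toMonoidHom = H := norm_map_conj (Subgroup.le_normalizer (inv_mem hl))
  have hPX : P ≤ X.map (MulAut.conj l⁻¹).toMonoidHom := by rw [← map_conj_le_iff]; exact hX'
  have hXl : X.map (MulAut.conj l⁻¹).toMonoidHom < H := by
    have := map_conj_lt l⁻¹ hXH
    rwa [hlH] at this
  have h3 : Y ≤ pCoreOf p (X.map (MulAut.conj l⁻¹).toMonoidHom) := h.min _ hPX hXl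
  have h4 : pCoreOf p (X.map (MulAut.conj l⁻¹).toMonoidHom) ≤ normalizer (Y : Set G) :=
    (a.core_le hPX).trans a.norm'
  rw [pCoreOf_map_conj] at h3 h4
  rw [← map_conj_le_iff] at h3
  have h5 := map_conj_mono (g := l) h4
  rw [map_conj_inv_map, ← normalizer_map_conj] at h5
  exact asym_commute a.asym (h1.trans h5) (h3.trans h2)

/-- `(Y ∩ V) W` -/
def av (Y V W : Subgroup G) : Subgroup G := (Y ⊓ V) ⊔ W

namespace LSet
variable {Y P H L L₀ V W : Subgroup G}

theorem VnY (s : LSet p Y P H L L₀) (hc : Chief H V W) (hVO : V ≤ pCoreOf p H) {x : G} (hx : x ∈ H) :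
    V ≤ normalizer ((Y.map (MulAut.conj x).toMonoidHom : Subgroup G) : Set G) := by
  have h1 : V ≤ normalizer (Y : Set G) := (hVO.trans (s.a.core_le s.h.le)).trans s.a.norm'
  have h2 := map_conj_mono (g := x) h1
  rwa [norm_map_conj (hc.hV hx), ← normalizer_map_conj] at h2

theorem VnY1 (s : LSet p Y P H L L₀) (hVO : V ≤ pCoreOf p H) : V ≤ normalizer (Y : Set G) :=
  (hVO.trans (s.a.core_le s.h.le)).trans s.a.norm'

theorem YH (s : LSet p Y P H L L₀) : Y ≤ H := s.a.le.trans s.h.le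

theorem PY (s : LSet p Y P H L L₀) : P ≤ normalizer (Y : Set G) := s.a.cen.trans (centralizer_le_normalizer Y)

theorem av_conj (s : LSet p Y P H L L₀) (hc : Chief H V W) {x : G} (hx : x ∈ H) :
    (av Y V W).map (MulAut.conj x).toMonoidHom = av (Y.map (MulAut.conj x).toMonoidHom) V W := by
  unfold av
  rw [Subgroup.map_sup, Subgroup.map_inf _ _ _ (MulAut.conj x).injective, norm_map_conj (hc.hV hx),
    norm_map_conj (hc.hW hx)]

theorem cen_conj (s : LSet p Y P H L L₀) (hc : Chief H V W) {x : G} (hx : x ∈ H) (X : Subgroup G) :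
    (cen V X W).map (MulAut.conj x).toMonoidHom = cen V (X.map (MulAut.conj x).toMonoidHom) W := by
  rw [map_conj_cen, norm_map_conj (hc.hV hx), norm_map_conj (hc.hW hx)]

theorem s1' (s : LSet p Y P H L L₀) (hc : Chief H V W) (hVO : V ≤ pCoreOf p H) : ⁅V, Y⁆ ≤ Y ⊓ V :=
  le_inf (le_normalizer_iff_commutator_le_right.1 (s.VnY1 hVO))
    (le_normalizer_iff_commutator_le_left.1 (s.YH.trans hc.hV))

theorem av_le (hc : Chief H V W) : av Y V W ≤ V := sup_le inf_le_right hc.lt.le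

theorem s1 (s : LSet p Y P H L L₀) (hc : Chief H V W) (hVO : V ≤ pCoreOf p H) :
    ⁅V, Y⁆ ≤ av Y V W := (s.s1' hc hVO).trans le_sup_left

theorem s1c (s : LSet p Y P H L L₀) (hc : Chief H V W) (hVO : V ≤ pCoreOf p H) {x : G} (hx : x ∈ H) :
    ⁅V, Y.map (MulAut.conj x).toMonoidHom⁆ ≤ av (Y.map (MulAut.conj x).toMonoidHom) V W := by
  have h1 := map_conj_mono (g := x) (s.s1 hc hVO)
  rwa [Subgroup.map_commutator, norm_map_conj (hc.hV hx), s.av_conj hc hx] at h1

theorem s2 (s : LSet p Y P H L L₀) (hc : Chief H V W) (hVO : V ≤ pCoreOf p H) :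
    av Y V W ≤ cen V P W := by
  have hVW : V ≤ normalizer (W : Set G) := (hVO.trans (pCoreOf_le p H)).trans hc.hW
  apply sup_le
  · rw [le_cen_iff hVW]
    refine ⟨inf_le_right, ?_⟩
    have h1 : ⁅Y, P⁆ = ⊥ := by
      rw [commutator_comm, commutator_eq_bot_iff_le_centralizer]
      exact s.a.cen
    exact ((commutator_mono inf_le_left le_rfl).trans h1.le).trans bot_le
  · exact le_cen_of_le hc.lt.le (s.h.le.trans hc.hW)

theorem s2' (s : LSet p Y P H L L₀) (hc : Chief H V W) (hVO : V ≤ pCoreOf p H) :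
    av Y V W ≤ cen V Y W := (s.s2 hc hVO).trans (cen_anti s.a.le)

theorem s2c (s : LSet p Y P H L L₀) (hc : Chief H V W) (hVO : V ≤ pCoreOf p H) {x : G} (hx : x ∈ H) :
    av (Y.map (MulAut.conj x).toMonoidHom) V W ≤ cen V (P.map (MulAut.conj x).toMonoidHom) W := by
  have h1 := map_conj_mono (g := x) (s.s2 hc hVO)
  rwa [s.av_conj hc hx, s.cen_conj hc hx] at h1

theorem s2c' (s : LSet p Y P H L L₀) (hc : Chief H V W) (hVO : V ≤ pCoreOf p H) {x : G} (hx : x ∈ H) :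
    av (Y.map (MulAut.conj x).toMonoidHom) V W ≤ cen V (Y.map (MulAut.conj x).toMonoidHom) W :=
  (s.s2c hc hVO hx).trans (cen_anti (map_conj_mono s.a.le))

theorem s3 (s : LSet p Y P H L L₀) (hc : Chief H V W) (hVO : V ≤ pCoreOf p H) :
    cen V L W ⊓ av Y V W ≤ W := by
  have hVH : V ≤ H := hVO.trans (pCoreOf_le p H)
  apply hc.le_of_comm hVH (inf_le_left.trans cen_le)
  rw [← s.sup]
  apply sup_comm_le (s.LH.trans hc.hW) (s.h.le.trans hc.hW)
  · exact (commutator_mono inf_le_left le_rfl).trans commutator_cen_le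
  · exact (commutator_mono (inf_le_right.trans (s.s2 hc hVO)) le_rfl).trans commutator_cen_le

theorem s3c (s : LSet p Y P H L L₀) (hc : Chief H V W) (hVO : V ≤ pCoreOf p H) {x : G} (hx : x ∈ L) :
    cen V L W ⊓ av (Y.map (MulAut.conj x).toMonoidHom) V W ≤ W := by
  have h1 := map_conj_mono (g := x) (s.s3 hc hVO)
  rwa [Subgroup.map_inf _ _ _ (MulAut.conj x).injective, s.av_conj hc (s.LH hx),
    s.cen_conj hc (s.LH hx), norm_map_conj (Subgroup.le_normalizer hx),
    norm_map_conj (hc.hW (s.LH hx))] at h1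

theorem s4 (s : LSet p Y P H L L₀) (hc : Chief H V W) (hVO : V ≤ pCoreOf p H) {g : G} (hg : g ∈ L)
    (hg' : g ∉ L₀) : cen V Y W ⊓ cen V (Y.map (MulAut.conj g).toMonoidHom) W ≤ cen V L W := by
  have hVH : V ≤ H := hVO.trans (pCoreOf_le p H)
  have hYg : Y.map (MulAut.conj g).toMonoidHom ≤ L := by
    rw [← s.gen g hg hg']; exact le_sup_right
  rw [le_cen_iff (hVH.trans hc.hW)]
  refine ⟨inf_le_left.trans cen_le, ?_⟩
  have h1 : ⁅cen V Y W ⊓ cen V (Y.map (MulAut.conj g).toMonoidHom) W,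
      Y ⊔ Y.map (MulAut.conj g).toMonoidHom⁆ ≤ W := by
    apply sup_comm_le (s.YH.trans hc.hW) ((hYg.trans s.LH).trans hc.hW)
    · exact (commutator_mono inf_le_left le_rfl).trans commutator_cen_le
    · exact (commutator_mono inf_le_right le_rfl).trans commutator_cen_le
  rwa [s.gen g hg hg'] at h1

theorem Vnav (s : LSet p Y P H L L₀) (hc : Chief H V W) (hVO : V ≤ pCoreOf p H) :
    V ≤ normalizer (av Y V W : Set G) :=
  le_normalizer_sup (le_normalizer_inf (s.VnY1 hVO) Subgroup.le_normalizer)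
    ((hVO.trans (pCoreOf_le p H)).trans hc.hW)

theorem Pnav (s : LSet p Y P H L L₀) (hc : Chief H V W) :
    P ≤ normalizer (av Y V W : Set G) :=
  le_normalizer_sup (le_normalizer_inf s.PY (s.h.le.trans hc.hV)) (s.h.le.trans hc.hW)

/-- the subgroup `F` -/
def F (Y V W : Subgroup G) (g : G) : Subgroup G :=
  av Y V W ⊔ av (Y.map (MulAut.conj g).toMonoidHom) V W

theorem F_le (hc : Chief H V W) (g : G) : F Y V W g ≤ V := sup_le (av_le hc) (av_le hc)

theorem s7 (s : LSet p Y P H L L₀) (hc : Chief H V W) (hVO : V ≤ pCoreOf p H) {g : G} (hg : g ∈ L)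
    (hg' : g ∉ L₀) : L ≤ normalizer (F Y V W g : Set G) ∧ ⁅V, L⁆ ≤ F Y V W g := by
  have h1 : ⁅V, Y⁆ ≤ F Y V W g := (s.s1 hc hVO).trans le_sup_left
  have h2 : ⁅V, Y.map (MulAut.conj g).toMonoidHom⁆ ≤ F Y V W g := (s.s1c hc hVO (s.LH hg)).trans le_sup_right
  have h3 : Y ≤ normalizer (F Y V W g : Set G) := by
    rw [le_normalizer_iff_commutator_le_left]
    exact (commutator_mono (F_le hc g) le_rfl).trans h1
  have h4 : Y.map (MulAut.conj g).toMonoidHom ≤ normalizer (F Y V W g : Set G) := by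
    rw [le_normalizer_iff_commutator_le_left]
    exact (commutator_mono (F_le hc g) le_rfl).trans h2
  rw [← s.gen g hg hg']
  exact ⟨sup_le h3 h4, sup_comm_le h3 h4 h1 h2⟩

theorem s8 (s : LSet p Y P H L L₀) (hc : Chief H V W) (hVO : V ≤ pCoreOf p H) {g : G} (hg : g ∈ L)
    (hg' : g ∉ L₀) : F Y V W g ⊓ cen V Y W ≤ av Y V W := by
  intro x hx
  obtain ⟨hxF, hxC⟩ := mem_inf.1 hx
  unfold F at hxF
  rw [sup_comm] at hxF
  obtain ⟨a, ha, b, hb, rfl⟩ := (mem_sup_of_le_normalizer' ((av_le hc).trans (s.Vnav hc hVO))).1 hxF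
  have hb' : b ∈ cen V Y W := by
    have := mul_mem (inv_mem (s.s2' hc hVO ha)) hxC
    simpa using this
  have h1 : b ∈ cen V L W := s.s4 hc hVO hg hg' (mem_inf.2 ⟨hb', s.s2c' hc hVO (s.LH hg) hb⟩)
  have h2 : b ∈ W := s.s3c hc hVO hg (mem_inf.2 ⟨h1, hb⟩)
  exact mul_mem ha (mem_sup_right h2)

theorem sup_res (s : LSet p Y P H L L₀) : pRes p H ⊔ P = H := (s.a.facts s.h).2.1

/-- nothing whose normal closure contains `O^p(H)` centralizes `V / W`. -/
theorem not_comm (s : LSet p Y P H L L₀) (hc : Chief H V W) (hVO : V ≤ pCoreOf p H) {Z : Subgroup G}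
    (hZH : Z ≤ H) (hZ : pRes p H ≤ ncl Z H) : ¬ ⁅V, Z⁆ ≤ W := by
  intro h
  have hVH : V ≤ H := hVO.trans (pCoreOf_le p H)
  have h1 : pRes p H ≤ cmod V W := by
    refine hZ.trans (ncl_le ?_ (le_normalizer_cmod hc.hV hc.hW))
    exact le_cmod_iff.2 ⟨hZH.trans hc.hW, h⟩
  have hVp : IsPGroup p V := (pCoreOf_isPGroup p H).to_le hVO
  have h2 : IsPGroup p ↥(P ⊔ V) := s.a.pg.to_sup_of_normal_right' hVp (s.h.le.trans hc.hV)
  obtain ⟨x, hxV, hxW, hx⟩ := exists_central_mod h2 hc.lt le_sup_right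
    (sup_le (s.h.le.trans hc.hW) (hVH.trans hc.hW)) (sup_le (s.h.le.trans hc.hV) Subgroup.le_normalizer)
  apply hxW
  have h3 : x ∈ cen V P W := by
    rw [mem_cen]
    refine ⟨hxV, hc.hW (hVH hxV), fun y hy => ?_⟩
    have := inv_mem (hx y (mem_sup_left hy))
    rwa [commutatorElement_inv] at this
  refine hc.le_of_comm hVH (cen_le : cen V P W ≤ V) ?_ h3
  conv_lhs => rw [← s.sup_res]
  apply sup_comm_le ((pRes_le p H).trans hc.hW) (s.h.le.trans hc.hW) _ commutator_cen_le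
  exact (commutator_mono cen_le le_rfl).trans (commutator_le_of_le_cmod h1)

theorem res_le_ncl (s : LSet p Y P H L L₀) : pRes p H ≤ ncl Y H := by
  rw [← (s.a.facts s.h).2.2]; exact le_sup_left

theorem s9 (s : LSet p Y P H L L₀) (hc : Chief H V W) (hVO : V ≤ pCoreOf p H) : ¬ av Y V W ≤ W :=
  fun h => s.not_comm hc hVO s.YH s.res_le_ncl ((s.s1 hc hVO).trans h)

theorem exists_g (s : LSet p Y P H L L₀) : ∃ g ∈ L, g ∉ L₀ := by
  by_contra h
  push Not at h
  exact not_le_of_gt s.gt.2.1 h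

theorem mem_core (s : LSet p Y P H L L₀) {l : G} (hl : l ∈ L₀) :
    Y.map (MulAut.conj l).toMonoidHom ≤ pCoreOf p L₀ := by
  rw [← norm_map_conj (le_normalizer_pCoreOf p L₀ hl)]
  exact map_conj_mono s.core

theorem s10 (s : LSet p Y P H L L₀) (hc : Chief H V W) (hVO : V ≤ pCoreOf p H) {l : G}
    (hl : l ∈ L₀) : Y.map (MulAut.conj l).toMonoidHom ≤ centralizer (Y : Set G) := by
  obtain ⟨g, hg, hg'⟩ := s.exists_g
  have hVH : V ≤ H := hVO.trans (pCoreOf_le p H)
  have hlL : l ∈ L := s.gt.2.1.le hl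
  have hlH : l ∈ H := s.LH hlL
  obtain ⟨hFL, hVL⟩ := s.s7 hc hVO hg hg'
  set F := F Y V W g with hF
  set Yl := Y.map (MulAut.conj l).toMonoidHom with hYl
  have hJp : IsPGroup p ↥(Y ⊔ Yl) := (pCoreOf_isPGroup p L₀).to_le (sup_le s.core (s.mem_core hl))
  have hJL : Y ⊔ Yl ≤ L := (sup_le s.core (s.mem_core hl)).trans ((pCoreOf_le p L₀).trans s.gt.2.1.le)
  have hFV : F ≤ V := F_le hc g
  have hFp : IsPGroup p F := (pCoreOf_isPGroup p H).to_le (hFV.trans hVO)
  have hR : IsPGroup p ↥((Y ⊔ Yl) ⊔ F) := hJp.to_sup_of_normal_right' hFp (hJL.trans hFL)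
  have hWF : W < F := by
    refine lt_of_le_of_ne ((le_sup_right : W ≤ av Y V W).trans le_sup_left) fun h => ?_
    exact s.s9 hc hVO (le_sup_left.trans h.ge)
  obtain ⟨x, hxF, hxW, hx⟩ := exists_central_mod hR hWF le_sup_right
    (sup_le ((hJL.trans s.LH).trans hc.hW) ((hFV.trans hVH).trans hc.hW))
    (sup_le (hJL.trans hFL) Subgroup.le_normalizer)
  have hxN : x ∈ normalizer (W : Set G) := hc.hW (hVH (hFV hxF))
  have hx1 : x ∈ av Y V W := by
    apply s.s8 hc hVO hg hg'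
    refine mem_inf.2 ⟨hxF, mem_cen.2 ⟨hFV hxF, hxN, fun y hy => ?_⟩⟩
    have := inv_mem (hx y (mem_sup_left (mem_sup_left hy)))
    rwa [commutatorElement_inv] at this
  have hx2 : x ∈ av Yl V W := by
    have h1 := map_conj_mono (g := l) (s.s8 hc hVO hg hg')
    rw [Subgroup.map_inf _ _ _ (MulAut.conj l).injective, s.cen_conj hc hlH, s.av_conj hc hlH,
      norm_map_conj (hFL hlL)] at h1
    apply h1
    refine mem_inf.2 ⟨hxF, mem_cen.2 ⟨hFV hxF, hxN, fun y hy => ?_⟩⟩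
    have := inv_mem (hx y (mem_sup_left (mem_sup_right hy)))
    rwa [commutatorElement_inv] at this
  set D := av Y V W ⊓ av Yl V W with hD
  have hxD : x ∈ D := mem_inf.2 ⟨hx1, hx2⟩
  have hPl : P.map (MulAut.conj l).toMonoidHom ≤ H := by
    rw [← norm_map_conj (Subgroup.le_normalizer hlH)]; exact map_conj_mono s.h.le
  set X := H ⊓ cmod D W with hX
  have hPX : P ≤ X := le_inf s.h.le (le_cmod_iff.2 ⟨s.h.le.trans hc.hW,
    (commutator_mono (inf_le_left.trans (s.s2 hc hVO)) le_rfl).trans commutator_cen_le⟩)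
  have hPX' : P.map (MulAut.conj l).toMonoidHom ≤ X := le_inf hPl (le_cmod_iff.2 ⟨hPl.trans hc.hW,
    (commutator_mono (inf_le_right.trans (s.s2c hc hVO hlH)) le_rfl).trans commutator_cen_le⟩)
  refine s.a.commute s.h hlH hPX hPX' (lt_of_le_of_ne inf_le_left fun h => ?_)
  apply hxW
  refine hc.le_of_comm hVH (inf_le_left.trans (av_le hc) : D ≤ V) ?_ hxD
  exact commutator_le_of_le_cmod (h.ge.trans inf_le_right)

theorem s11 (s : LSet p Y P H L L₀) (hc : Chief H V W) (hVO : V ≤ pCoreOf p H) {l : G}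
    (hl : l ∈ L₀) : l ∈ normalizer (av Y V W : Set G) := by
  obtain ⟨g, hg, hg'⟩ := s.exists_g
  have hVH : V ≤ H := hVO.trans (pCoreOf_le p H)
  have hlL : l ∈ L := s.gt.2.1.le hl
  have hlH : l ∈ H := s.LH hlL
  obtain ⟨hFL, hVL⟩ := s.s7 hc hVO hg hg'
  apply mem_normalizer_of_map_conj_le
  refine le_trans (le_inf ?_ ?_) (s.s8 hc hVO hg hg')
  · rw [← norm_map_conj (hFL hlL)]
    exact map_conj_mono le_sup_left
  · rw [s.av_conj hc hlH]
    apply sup_le
    · rw [le_cen_iff (hVH.trans hc.hW)]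
      refine ⟨inf_le_right, ?_⟩
      have h1 : ⁅Y.map (MulAut.conj l).toMonoidHom, Y⁆ = ⊥ := by
        rw [commutator_eq_bot_iff_le_centralizer]
        exact s.s10 hc hVO hl
      exact ((commutator_mono inf_le_left le_rfl).trans h1.le).trans bot_le
    · exact le_cen_of_le hc.lt.le (s.YH.trans hc.hW)

theorem s13 (s : LSet p Y P H L L₀) (hc : Chief H V W) (hVO : V ≤ pCoreOf p H) :
    ⁅V, P⁆ ≤ cen V Y W := by
  have hVH : V ≤ H := hVO.trans (pCoreOf_le p H)
  rw [le_cen_iff (hVH.trans hc.hW)]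
  refine ⟨le_normalizer_iff_commutator_le_left.1 (s.h.le.trans hc.hV), ?_⟩
  have hYP : ⁅P, Y⁆ = ⊥ := by
    rw [commutator_eq_bot_iff_le_centralizer]; exact s.a.cen
  apply three_subgroups_rel (hVH.trans hc.hW) (s.h.le.trans hc.hW) (s.YH.trans hc.hW)
  · rw [hYP]; simp
  · rw [commutator_comm Y V]
    refine (commutator_mono ((s.s1' hc hVO).trans inf_le_left) le_rfl).trans ?_
    rw [commutator_comm, hYP]
    exact bot_le

theorem cen_norm (s : LSet p Y P H L L₀) (hc : Chief H V W) : P ≤ normalizer (cen V Y W : Set G) :=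
  le_normalizer_inf (s.h.le.trans hc.hV) (le_normalizer_cmod s.PY (s.h.le.trans hc.hW))

theorem s14 (s : LSet p Y P H L L₀) (hc : Chief H V W) (hVO : V ≤ pCoreOf p H) {g : G} (hg : g ∈ L)
    (hg' : g ∉ L₀) : cen V Y W ⊔ cen V (Y.map (MulAut.conj g).toMonoidHom) W = V := by
  obtain ⟨hFL, hVL⟩ := s.s7 hc hVO hg hg'
  set Z := cen V Y W ⊔ cen V (Y.map (MulAut.conj g).toMonoidHom) W with hZ
  have hZV : Z ≤ V := sup_le cen_le cen_le
  have hFZ : F Y V W g ≤ Z := sup_le_sup (s.s2' hc hVO) (s.s2c' hc hVO (s.LH hg))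
  have hZn : H ≤ normalizer (Z : Set G) := by
    rw [← s.sup]
    apply sup_le
    · rw [le_normalizer_iff_commutator_le_left]
      exact ((commutator_mono hZV le_rfl).trans hVL).trans hFZ
    · rw [le_normalizer_iff_commutator_le_left]
      exact ((commutator_mono hZV le_rfl).trans (s.s13 hc hVO)).trans le_sup_left
  have hWZ : W ≤ Z := (le_sup_right : W ≤ av Y V W).trans (le_sup_left.trans hFZ)
  rcases hc.irr Z hZn hWZ hZV with h | h
  · exact absurd ((le_sup_left.trans hFZ).trans h.le) (s.s9 hc hVO)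
  · exact h

theorem s15 (s : LSet p Y P H L L₀) (hc : Chief H V W) (hVO : V ≤ pCoreOf p H) {g : G} (hg : g ∈ L)
    (hg' : g ∉ L₀) : V ≤ cen V Y W ⊔ av (Y.map (MulAut.conj g).toMonoidHom) V W := by
  obtain ⟨hFL, hVL⟩ := s.s7 hc hVO hg hg'
  have h1 : F Y V W g ≤ cen V Y W ⊔ av (Y.map (MulAut.conj g).toMonoidHom) V W :=
    sup_le_sup_right (s.s2' hc hVO) _
  conv_lhs => rw [← s.s14 hc hVO hg hg']
  apply sup_le le_sup_left
  rw [← s.cen_conj hc (s.LH hg)]
  rintro _ ⟨a, ha, rfl⟩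
  simp only [MulEquiv.coe_toMonoidHom, MulAut.conj_apply]
  have e : g * a * g⁻¹ = ⁅g, a⁆ * a := by rw [commutatorElement_def]; group
  rw [e]
  refine mul_mem (h1 (hVL ?_)) (mem_sup_left ha)
  rw [commutator_comm]
  exact commutator_mem_commutator hg (cen_le ha)

theorem s16 (s : LSet p Y P H L L₀) (hc : Chief H V W) (hVO : V ≤ pCoreOf p H) :
    cen V Y W ≤ av Y V W ⊔ cen V L W := by
  obtain ⟨g, hg, hg'⟩ := s.exists_g
  have hgi : g⁻¹ ∉ L₀ := fun h => hg' (by simpa using inv_mem h)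
  have h1 := map_conj_mono (g := g) (s.s15 hc hVO (inv_mem hg) hgi)
  rw [Subgroup.map_sup, s.cen_conj hc (s.LH hg), ← s.av_conj hc (x := g⁻¹) (inv_mem (s.LH hg)),
    map_conj_inv_map, norm_map_conj (hc.hV (s.LH hg))] at h1
  intro a ha
  have h2 := h1 (cen_le ha)
  obtain ⟨a₁, ha₁, b, hb, rfl⟩ := (mem_sup_of_le_normalizer' (cen_le.trans (s.Vnav hc hVO))).1 h2
  refine mul_mem (mem_sup_left ha₁) (mem_sup_right (s.s4 hc hVO hg hg' (mem_inf.2 ⟨?_, hb⟩)))
  have := mul_mem (inv_mem (s.s2' hc hVO ha₁)) ha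
  simpa using this

theorem s17 (s : LSet p Y P H L L₀) (hc : Chief H V W) (hVO : V ≤ pCoreOf p H) :
    L₀ ≤ normalizer (cen V Y W : Set G) := by
  intro l hl
  have hlL : l ∈ L := s.gt.2.1.le hl
  have hlH : l ∈ H := s.LH hlL
  apply mem_normalizer_of_map_conj_le
  refine (map_conj_mono (s.s16 hc hVO)).trans ?_
  rw [Subgroup.map_sup, norm_map_conj (s.s11 hc hVO hl), s.cen_conj hc hlH,
    norm_map_conj (Subgroup.le_normalizer hlL)]
  exact sup_le (s.s2' hc hVO) (cen_anti s.YL)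

theorem s18 (s : LSet p Y P H L L₀) (hc : Chief H V W) (hVO : V ≤ pCoreOf p H) :
    ⁅cen V Y W, L₀⁆ ≤ av Y V W := by
  refine (commutator_mono (s.s16 hc hVO) le_rfl).trans (sup_comm_le' Subgroup.le_normalizer
    (cen_le.trans (s.Vnav hc hVO)) ?_ ?_)
  · exact le_normalizer_iff_commutator_le_left.1 fun l hl => s.s11 hc hVO hl
  · exact ((commutator_mono le_rfl s.gt.2.1.le).trans commutator_cen_le).trans le_sup_right

/-- the stabilizer of the chain -/
def stab (Y V W : Subgroup G) : Subgroup G :=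
  cmod V (cen V Y W) ⊓ (cmod (cen V Y W) (av Y V W) ⊓ cmod (av Y V W) W)

theorem L₀nav (s : LSet p Y P H L L₀) (hc : Chief H V W) (hVO : V ≤ pCoreOf p H) :
    L₀ ≤ normalizer (av Y V W : Set G) := fun _ hl => s.s11 hc hVO hl

theorem L₀H (s : LSet p Y P H L L₀) : L₀ ≤ H := s.gt.2.1.le.trans s.LH

theorem stab_norm_L (s : LSet p Y P H L L₀) (hc : Chief H V W) (hVO : V ≤ pCoreOf p H) :
    L₀ ≤ normalizer (stab Y V W : Set G) :=
  le_normalizer_inf (le_normalizer_cmod (s.L₀H.trans hc.hV) (s.s17 hc hVO))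
    (le_normalizer_inf (le_normalizer_cmod (s.s17 hc hVO) (s.L₀nav hc hVO))
      (le_normalizer_cmod (s.L₀nav hc hVO) (s.L₀H.trans hc.hW)))

theorem stab_norm_P (s : LSet p Y P H L L₀) (hc : Chief H V W) :
    P ≤ normalizer (stab Y V W : Set G) :=
  le_normalizer_inf (le_normalizer_cmod (s.h.le.trans hc.hV) (s.cen_norm hc))
    (le_normalizer_inf (le_normalizer_cmod (s.cen_norm hc) (s.Pnav hc))
      (le_normalizer_cmod (s.Pnav hc) (s.h.le.trans hc.hW)))

theorem s19 (s : LSet p Y P H L L₀) (hc : Chief H V W) (hVO : V ≤ pCoreOf p H) :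
    ⁅L₀, P⁆ ≤ stab Y V W := by
  refine le_inf ?_ (le_inf ?_ ?_)
  · have h1 : P ≤ cmod V (cen V Y W) := le_cmod_iff.2 ⟨s.cen_norm hc, s.s13 hc hVO⟩
    exact (commutator_mono le_rfl h1).trans (le_normalizer_iff_commutator_le_right.1
      (le_normalizer_cmod (s.L₀H.trans hc.hV) (s.s17 hc hVO)))
  · have h1 : L₀ ≤ cmod (cen V Y W) (av Y V W) := le_cmod_iff.2 ⟨s.L₀nav hc hVO, s.s18 hc hVO⟩
    exact (commutator_mono h1 le_rfl).trans (le_normalizer_iff_commutator_le_left.1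
      (le_normalizer_cmod (s.cen_norm hc) (s.Pnav hc)))
  · have h1 : P ≤ cmod (av Y V W) W := le_cmod_iff.2 ⟨s.h.le.trans hc.hW,
      (commutator_mono (s.s2 hc hVO) le_rfl).trans commutator_cen_le⟩
    exact (commutator_mono le_rfl h1).trans (le_normalizer_iff_commutator_le_right.1
      (le_normalizer_cmod (s.L₀nav hc hVO) (s.L₀H.trans hc.hW)))

end LSet

end Cfsg.Agent.H48
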