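import Mathlib
import Cfsg.Agent.H48.Asym4

set_option autoImplicit false
open Subgroup Cfsg.Agent.H47
open scoped commutatorElement

namespace Cfsg.Agent.H48

variable {G : Type*} [Group G] {p : ℕ} [Finite G] [Fact p.Prime]

omit [Finite G] [Fact p.Prime] in
theorem le_normalizer_iInf' {ι : Sort*} {X : Subgroup G} {f : ι → Subgroup G}
    (h : ∀ i, X ≤ normalizer (f i : Set G)) : X ≤ normalizer ((⨅ i, f i : Subgroup G) : Set G) := by
  intro x hx
  rw [mem_normalizer_iff]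
  intro y
  rw [mem_iInf, mem_iInf]
  exact forall_congr' fun i => mem_normalizer_iff.1 (h i hx) y

theorem exists_pow_mem_of_le_core {V W : Subgroup G} {x : G} (hV : IsPGroup p V)
    (hx : (orderOf x).Coprime p) : ∀ q ∈ V, ∃ m : ℕ, (orderOf x).Coprime m ∧ q ^ m ∈ W := by
  intro q hq
  obtain ⟨k, hk⟩ := isPGroup_iff_mem.1 hV q hq
  exact ⟨p ^ k, Nat.Coprime.pow_right k hx, by rw [hk]; exact one_mem W⟩

/-- a `p'`-element acting trivially on all chief factors inside `O_p(H)` centralizes `O_p(H)`. -/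
theorem centralizes_of_chief {H : Subgroup G} {x : G} (hxH : x ∈ H) (hx : (orderOf x).Coprime p)
    (h : ∀ V W : Subgroup G, Chief H V W → V ≤ pCoreOf p H → ∀ v ∈ V, ⁅x, v⁆ ∈ W) :
    ∀ n : ℕ, ∀ N : Subgroup G, Nat.card N ≤ n → N ≤ pCoreOf p H → H ≤ normalizer (N : Set G) →
      ∀ v ∈ N, ⁅x, v⁆ ∈ (⊥ : Subgroup G) := by
  intro n
  induction n with
  | zero =>
    intro N hN
    have := Nat.card_pos (α := N)
    omega
  | succ n ih =>
    intro N hN hNO hNn
    by_cases hN1 : N = ⊥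
    · subst hN1
      intro v hv
      rw [mem_bot] at hv ⊢
      rw [hv]
      simp
    have hNp : IsPGroup p N := (pCoreOf_isPGroup p H).to_le hNO
    obtain ⟨W, ⟨hWN, hWn⟩, hmax⟩ := Set.exists_max_image
      {W : Subgroup G | W < N ∧ H ≤ normalizer (W : Set G)} (fun W => Nat.card W) (Set.toFinite _)
      ⟨⊥, bot_lt_iff_ne_bot.2 hN1, by rw [normalizer_eq_top_iff.2 inferInstance]; exact le_top⟩
    have hirr : ∀ Z : Subgroup G, H ≤ normalizer (Z : Set G) → W ≤ Z → Z ≤ N → Z = W ∨ Z = N := by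
      intro Z hZn hWZ hZN
      rcases hZN.lt_or_eq with h1 | h1
      · left
        exact (Subgroup.eq_of_le_of_card_ge hWZ (hmax Z ⟨h1, hZn⟩)).symm
      · exact Or.inr h1
    have hcW : Nat.card W ≤ n := by
      have : Nat.card W < Nat.card N := Set.Finite.card_lt_card (Set.toFinite _) hWN
      omega
    have h1 := ih W hcW (hWN.le.trans hNO) hWn
    have h2 : ∀ v ∈ N, ⁅x, v⁆ ∈ W := by
      by_cases hnon : ⁅N, H⁆ ≤ W
      · intro v hv
        have := inv_mem (hnon (commutator_mem_commutator hv hxH))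
        rwa [commutatorElement_inv] at this
      · exact h N W ⟨hNn, hWn, hWN, hirr, hnon⟩ hNO
    exact coprime_chain (by rw [normalizer_eq_top_iff.2 inferInstance]; exact le_top)
      (mem_normalizer_bot x) bot_le (exists_pow_mem_of_le_core (hNp.to_le hWN.le) hx) h2 h1

/-- in a group of characteristic `p` such an element is trivial. -/
theorem eq_one_of_chief {H : Subgroup G} (hH : CharP' p H) {x : G} (hxH : x ∈ H)
    (hx : (orderOf x).Coprime p)
    (h : ∀ V W : Subgroup G, Chief H V W → V ≤ pCoreOf p H → ∀ v ∈ V, ⁅x, v⁆ ∈ W) : x = 1 := by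
  have h1 := centralizes_of_chief hxH hx h _ (pCoreOf p H) le_rfl le_rfl (le_normalizer_pCoreOf p H)
  have h2 : x ∈ pCoreOf p H := by
    apply hH
    refine mem_inf.2 ⟨hxH, ?_⟩
    rw [mem_centralizer_iff]
    intro v hv
    have := h1 v hv
    rw [mem_bot, commutatorElement_eq_one_iff_commute] at this
    exact this.eq.symm
  obtain ⟨k, hk⟩ := isPGroup_iff_mem.1 (pCoreOf_isPGroup p H) x h2
  have h3 : x ^ (orderOf x) = 1 := pow_orderOf_eq_one x
  have h4 : (orderOf x) ∣ p ^ k := orderOf_dvd_of_pow_eq_one hk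
  have h5 : orderOf x = 1 := Nat.Coprime.eq_one_of_dvd (Nat.Coprime.pow_right k hx) h4
  exact orderOf_eq_one_iff.1 h5

namespace LSet
variable {Y P H L L₀ V W : Subgroup G}

/-- `K` -/
def K (p : ℕ) (Y H : Subgroup G) : Subgroup G :=
  H ⊓ ⨅ q : {q : Subgroup G × Subgroup G // Chief H q.1 q.2 ∧ q.1 ≤ pCoreOf p H}, stab Y q.1.1 q.1.2

omit [Finite G] [Fact p.Prime] in
theorem mem_stab_of_mem_K {x : G} (hx : x ∈ K p Y H) (hc : Chief H V W) (hVO : V ≤ pCoreOf p H) :
    x ∈ stab Y V W := by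
  have h1 := (mem_inf.1 hx).2
  rw [mem_iInf] at h1
  exact h1 ⟨(V, W), hc, hVO⟩

theorem K_isPGroup (s : LSet p Y P H L L₀) : IsPGroup p (K p Y H) := by
  apply isPGroup_of_pRes_eq_bot
  rw [eq_bot_iff, pRes_le_iff]
  intro x hx hxp
  rw [mem_bot]
  apply eq_one_of_chief s.h.char (mem_inf.1 hx).1 hxp
  intro V W hc hVO
  obtain ⟨h1, h23⟩ := mem_inf.1 (mem_stab_of_mem_K hx hc hVO)
  obtain ⟨h2, h3⟩ := mem_inf.1 h23
  have hVp : IsPGroup p V := (pCoreOf_isPGroup p H).to_le hVO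
  have hcV : cen V Y W ≤ V := cen_le
  have havc : av Y V W ≤ cen V Y W := s.s2' hc hVO
  have h4 : ∀ v ∈ V, ⁅x, v⁆ ∈ av Y V W :=
    coprime_chain (hcV.trans (s.Vnav hc hVO)) h2.1 havc
      (exists_pow_mem_of_le_core (hVp.to_le hcV) hxp) h1.2 h2.2
  exact coprime_chain ((av_le hc).trans ((hVO.trans (pCoreOf_le p H)).trans hc.hW)) h3.1 le_sup_right
    (exists_pow_mem_of_le_core (hVp.to_le (av_le hc)) hxp) h4 h3.2

/-- the maximal subgroup normalizes `Y` -/
theorem L₀_le (s : LSet p Y P H L L₀) : L₀ ≤ normalizer (Y : Set G) := by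
  have hKL : L₀ ≤ normalizer (K p Y H : Set G) :=
    le_normalizer_inf (s.L₀H.trans Subgroup.le_normalizer)
      (le_normalizer_iInf' fun q => s.stab_norm_L q.2.1 q.2.2)
  have hKP : P ≤ normalizer (K p Y H : Set G) :=
    le_normalizer_inf (s.h.le.trans Subgroup.le_normalizer)
      (le_normalizer_iInf' fun q => s.stab_norm_P q.2.1)
  have hLP : ⁅L₀, P⁆ ≤ K p Y H := by
    refine le_inf ((commutator_mono s.L₀H s.h.le).trans (commutator_le_self H)) (le_iInf fun q => ?_)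
    exact s.s19 q.2.1 q.2.2
  have hp : IsPGroup p ↥(P ⊔ K p Y H) := s.a.pg.to_sup_of_normal_right' s.K_isPGroup hKP
  have hn : L₀ ≤ normalizer ((P ⊔ K p Y H : Subgroup G) : Set G) := by
    rw [le_normalizer_iff_commutator_le_left, commutator_comm]
    refine (commutator_le_of_le_cmod (W := K p Y H) (sup_le ?_ ?_)).trans le_sup_right
    · exact le_cmod_iff.2 ⟨hKP, hLP⟩
    · exact le_cmod_iff.2 ⟨Subgroup.le_normalizer, le_normalizer_iff_commutator_le_right.1 hKL⟩
  exact (hn.trans (s.a.norm _ hp le_sup_left)).trans s.a.norm'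

theorem not_le_norm (s : LSet p Y P H L L₀) (hYO : ¬ Y ≤ pCoreOf p L) :
    ¬ L ≤ normalizer (Y : Set G) := fun h =>
  hYO (le_pCoreOf s.YL h (IsElementaryAbelian.isPGroup' s.a.el))

theorem L₀_eq (s : LSet p Y P H L L₀) (hYO : ¬ Y ≤ pCoreOf p L) :
    L₀ = L ⊓ normalizer (Y : Set G) := by
  apply le_antisymm (le_inf s.gt.2.1.le s.L₀_le)
  apply s.gt.2.2 _ (le_inf s.YL Subgroup.le_normalizer)
  exact lt_of_le_of_ne inf_le_left fun h => s.not_le_norm hYO (h.ge.trans inf_le_right)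

theorem core_le (s : LSet p Y P H L L₀) (hYO : ¬ Y ≤ pCoreOf p L) :
    pCoreOf p L ≤ normalizer (Y : Set G) := by
  have h1 : IsPGroup p ↥(Y ⊔ pCoreOf p L) :=
    (IsElementaryAbelian.isPGroup' s.a.el).to_sup_of_normal_right' (pCoreOf_isPGroup p L)
      (s.YL.trans (le_normalizer_pCoreOf p L))
  have h2 : Y ⊔ pCoreOf p L ≤ L₀ := by
    apply s.gt.2.2 _ le_sup_left
    refine lt_of_le_of_ne (sup_le s.YL (pCoreOf_le p L)) fun h => ?_
    apply hYO
    rw [h] at h1
    rw [pCoreOf_eq_self h1]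
    exact s.YL
  exact le_sup_right.trans (h2.trans s.L₀_le)

theorem charP'_L (s : LSet p Y P H L L₀) (hn : ncl Y L = L) : CharP' p L := by
  have hO : pCoreOf p H ≤ normalizer (Y : Set G) := (s.a.core_le s.h.le).trans s.a.norm'
  have h1 : pCoreOf p H ≤ normalizer (L : Set G) := by
    conv_rhs => rw [← hn]
    exact le_normalizer_ncl_of_normal hO (s.LH.trans (le_normalizer_pCoreOf p H))
  have h2 : CharP' p (L ⊔ pCoreOf p H) :=
    charP'_of_core_le s.h.char (sup_le s.LH (pCoreOf_le p H)) le_sup_right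
  exact h2.of_normal le_sup_left (sup_le Subgroup.le_normalizer h1)

theorem ncl_eq (s : LSet p Y P H L L₀) : ncl Y L = L := by
  obtain ⟨g, hg, hg'⟩ := s.exists_g
  apply le_antisymm (ncl_le s.YL Subgroup.le_normalizer)
  conv_lhs => rw [← s.gen g hg hg']
  apply sup_le (le_ncl Y L)
  rw [← norm_map_conj (le_normalizer_ncl Y L hg)]
  exact map_conj_mono (le_ncl Y L)

/-- part (3) -/
theorem part3 (s : LSet p Y P H L L₀) (hc : Chief H V W) (hVO : V ≤ pCoreOf p H) :
    ¬ ⁅V, pRes p L⁆ ≤ W := by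
  intro h
  have hVH : V ≤ H := hVO.trans (pCoreOf_le p H)
  have h1 : Y ⊔ pRes p L = L := sup_pRes_of_ncl s.YL s.ncl_eq
  have h2 : cen V Y W ≤ cen V L W := by
    rw [le_cen_iff (hVH.trans hc.hW)]
    refine ⟨cen_le, ?_⟩
    conv_lhs => rw [← h1]
    exact sup_comm_le (s.YH.trans hc.hW) (((pRes_le p L).trans s.LH).trans hc.hW) commutator_cen_le
      ((commutator_mono cen_le le_rfl).trans h)
  apply s.s9 hc hVO
  exact (le_inf ((s.s2' hc hVO).trans h2) le_rfl).trans (s.s3 hc hVO)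

end LSet

end Cfsg.Agent.H48
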