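import Mathlib
import Cfsg.Agent.H48.Asym5

set_option autoImplicit false
open Subgroup Cfsg.Agent.H47
open scoped commutatorElement

namespace Cfsg.Agent.H48

variable {G : Type*} [Group G] {p : ℕ} [Finite G] [Fact p.Prime]

namespace LSet
variable {Y P H L L₀ V W : Subgroup G}

theorem exists_chief (s : LSet p Y P H L L₀) :
    ∃ V W : Subgroup G, Chief H V W ∧ V ≤ pCoreOf p H := by
  by_contra hne
  have h1 : pRes p H = ⊥ := by
    rw [eq_bot_iff, pRes_le_iff]
    intro x hx hxp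
    rw [mem_bot]
    exact eq_one_of_chief s.h.char hx hxp fun V W hc hVO => absurd ⟨V, W, hc, hVO⟩ hne
  have h2 := isPGroup_of_pRes_eq_bot h1
  apply s.h.not
  rw [pCoreOf_eq_self h2]
  exact s.YH

theorem res_le_ncl' (s : LSet p Y P H L L₀) {Y₀ : Subgroup G} (hY : Y₀ ≤ Y)
    (hn : ¬ Y₀ ≤ pCoreOf p H) : pRes p H ≤ ncl Y₀ H := by
  have hle : ncl Y₀ H ≤ H := ncl_le (hY.trans s.YH) Subgroup.le_normalizer
  have h1 : P ⊔ ncl Y₀ H = H := by
    by_contra hne
    have h4 := s.h.min _ (le_sup_left : P ≤ P ⊔ ncl Y₀ H) (lt_of_le_of_ne (sup_le s.h.le hle) hne)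
    apply hn
    refine le_trans ?_ (pCoreOf_le_pCoreOf_of_normal hle (le_normalizer_ncl Y₀ H))
    refine (le_inf (le_ncl Y₀ H) (hY.trans h4)).trans (le_pCoreOf inf_le_left
      (le_normalizer_inf Subgroup.le_normalizer (le_sup_right.trans (le_normalizer_pCoreOf p _)))
      ((pCoreOf_isPGroup p _).to_le inf_le_right))
  conv_lhs => rw [← h1]
  rw [pRes_sup_of_isPGroup s.a.pg (s.h.le.trans (le_normalizer_ncl Y₀ H))]
  exact pRes_le _ _

/-- part (4) -/
theorem part4 (s : LSet p Y P H L L₀) (hYO : ¬ Y ≤ pCoreOf p L) :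
    pCoreOf p L ⊓ Y ≤ pCoreOf p H := by
  by_contra hn
  set Y₀ := pCoreOf p L ⊓ Y with hY₀
  have hY₀Y : Y₀ ≤ Y := inf_le_right
  obtain ⟨V, W, hc, hVO⟩ := s.exists_chief
  have hVH : V ≤ H := hVO.trans (pCoreOf_le p H)
  have hY₀H : Y₀ ≤ H := hY₀Y.trans s.YH
  have hPY₀ : P ≤ normalizer (Y₀ : Set G) :=
    ((s.a.cen).trans (centralizer_anti hY₀Y)).trans (centralizer_le_normalizer Y₀)
  obtain ⟨g, hg, hg'⟩ := s.exists_g
  obtain ⟨hFL, hVL⟩ := s.s7 hc hVO hg hg'
  have hOY := s.core_le hYO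
  set Yg := Y.map (MulAut.conj g).toMonoidHom with hYg
  have hYgL : Yg ≤ L := by
    rw [hYg, ← norm_map_conj (N := L) (Subgroup.le_normalizer hg)]; exact map_conj_mono s.YL
  have hOYg : pCoreOf p L ≤ normalizer (Yg : Set G) := by
    have h1 := map_conj_mono (g := g) hOY
    rwa [norm_map_conj (le_normalizer_pCoreOf p L hg), ← normalizer_map_conj] at h1
  have hLO : L ⊓ pCoreOf p H ≤ pCoreOf p L := le_pCoreOf inf_le_left
    (le_normalizer_inf Subgroup.le_normalizer (s.LH.trans (le_normalizer_pCoreOf p H)))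
    ((pCoreOf_isPGroup p H).to_le inf_le_right)
  -- `F ≤ cen V Y₀ W`
  have hav : av Y V W ≤ cen V Y₀ W := (s.s2' hc hVO).trans (cen_anti hY₀Y)
  have havg : av Yg V W ≤ cen V Y₀ W := by
    apply sup_le _ (le_cen_of_le hc.lt.le (hY₀H.trans hc.hW))
    rw [le_cen_iff (hVH.trans hc.hW)]
    refine ⟨inf_le_right, ?_⟩
    have h1 : Yg ⊓ V ≤ pCoreOf p L := (inf_le_inf hYgL hVO).trans hLO
    have h2 : ⁅Yg ⊓ V, Y₀⁆ ≤ Yg := (commutator_mono inf_le_left le_rfl).trans
      (le_normalizer_iff_commutator_le_left.1 (inf_le_left.trans hOYg))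
    have h3 : ⁅Yg ⊓ V, Y₀⁆ ≤ Y := (commutator_mono h1 hY₀Y).trans
      (le_normalizer_iff_commutator_le_right.1 hOY)
    have h4 : ⁅Yg ⊓ V, Y₀⁆ ≤ V := (commutator_mono inf_le_right le_rfl).trans
      (le_normalizer_iff_commutator_le_left.1 (hY₀H.trans hc.hV))
    have h5 : ⁅Yg ⊓ V, Y₀⁆ ≤ av Y V W := (le_inf h3 h4).trans le_sup_left
    have h6 : ⁅Yg ⊓ V, Y₀⁆ ≤ av Yg V W := (le_inf h2 h4).trans le_sup_left
    have h7 : ⁅Yg ⊓ V, Y₀⁆ ≤ cen V L W := (le_inf (h5.trans (s.s2' hc hVO))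
      (h6.trans (s.s2c' hc hVO (s.LH hg)))).trans (s.s4 hc hVO hg hg')
    exact (le_inf h7 h5).trans (s.s3 hc hVO)
  have hFC : F Y V W g ≤ cen V Y₀ W := sup_le hav havg
  have hCn : H ≤ normalizer (cen V Y₀ W : Set G) := by
    conv_lhs => rw [← s.sup]
    apply sup_le
    · rw [le_normalizer_iff_commutator_le_left]
      exact ((commutator_mono cen_le le_rfl).trans hVL).trans hFC
    · exact le_normalizer_inf (s.h.le.trans hc.hV) (le_normalizer_cmod hPY₀ (s.h.le.trans hc.hW))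
  rcases hc.irr _ hCn (le_cen_of_le hc.lt.le (hY₀H.trans hc.hW)) cen_le with h | h
  · exact s.s9 hc hVO (hav.trans h.le)
  · apply s.not_comm hc hVO hY₀H (s.res_le_ncl' hY₀Y hn)
    conv_lhs => rw [← h]
    exact commutator_cen_le

/-- minimality of `Y` in `L` -/
theorem isMinimalOver (s : LSet p Y P H L L₀) : Cfsg.IsMinimalOver (Y.subgroupOf L) := by
  refine ⟨?_, L₀.subgroupOf L, ⟨⟨?_, ?_⟩, ?_⟩, ?_⟩
  · rw [← ncl_top]
    exact ncl_subgroupOf_eq_top s.YL s.ncl_eq
  · intro h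
    rw [subgroupOf_eq_top] at h
    exact absurd h (not_le_of_gt s.gt.2.1)
  · intro X hX
    by_contra hXt
    have h1 : Y ≤ X.map L.subtype := by
      rw [← map_subgroupOf_eq_of_le s.YL]
      exact Subgroup.map_mono ((show Y.subgroupOf L ≤ L₀.subgroupOf L from fun x hx => s.gt.1 hx).trans hX.le)
    have h2 : X.map L.subtype < L := by
      refine lt_of_le_of_ne (Subgroup.map_subtype_le _) fun h => hXt ?_
      apply Subgroup.map_injective L.subtype_injective
      rw [h, ← MonoidHom.range_eq_map, Subgroup.range_subtype]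
    have h3 := s.gt.2.2 _ h1 h2
    apply not_le_of_gt hX
    intro x hx
    exact h3 ⟨x, hx, rfl⟩
  · exact fun x hx => s.gt.1 hx
  · rintro X ⟨hX, hYX⟩
    have h1 : Y ≤ X.map L.subtype := by
      rw [← map_subgroupOf_eq_of_le s.YL]
      exact Subgroup.map_mono hYX
    have h2 : X.map L.subtype < L := by
      refine lt_of_le_of_ne (Subgroup.map_subtype_le _) fun h => hX.1 ?_
      apply Subgroup.map_injective L.subtype_injective
      rw [h, ← MonoidHom.range_eq_map, Subgroup.range_subtype]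
    have h3 := s.gt.2.2 _ h1 h2
    have h4 : X ≤ L₀.subgroupOf L := fun x hx => h3 ⟨x, hx, rfl⟩
    rcases h4.lt_or_eq with h5 | h5
    · exfalso
      have h6 := hX.2 _ h5
      rw [subgroupOf_eq_top] at h6
      exact absurd h6 (not_le_of_gt s.gt.2.1)
    · exact h5

end LSet

end Cfsg.Agent.H48
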