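import Mathlib
import Cfsg.Agent.H48.MSS
import Cfsg.Agent.H47.PCl

set_option autoImplicit false
open Subgroup Cfsg.Agent.H47

namespace Cfsg.Agent.H48

variable {G : Type*} [Group G] {p : ℕ}

/-- the image of a subgroup in the quotient `E / N`. -/
def bar (E : Subgroup G) (N : Subgroup E) [N.Normal] (X : Subgroup G) : Subgroup (E ⧸ N) :=
  (X.subgroupOf E).map (QuotientGroup.mk' N)

variable {E : Subgroup G} {N : Subgroup E} [N.Normal]

theorem bar_le_iff {X Y : Subgroup G} (hX : X ≤ E) (hY : Y ≤ E) :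
    bar E N X ≤ bar E N Y ↔ X ≤ Y ⊔ N.map E.subtype := by
  unfold bar
  rw [Subgroup.map_le_map_iff, QuotientGroup.ker_mk']
  constructor
  · intro h
    have h1 := Subgroup.map_mono (f := E.subtype) h
    rwa [Subgroup.map_sup, map_subgroupOf_eq_of_le hX, map_subgroupOf_eq_of_le hY] at h1
  · intro h x hx
    have h1 : (x : G) ∈ (Y.subgroupOf E ⊔ N).map E.subtype := by
      rw [Subgroup.map_sup, map_subgroupOf_eq_of_le hY]
      exact h hx
    obtain ⟨y, hy, hyx⟩ := h1
    have : y = x := Subtype.ext hyx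
    exact this ▸ hy

theorem bar_mono {X Y : Subgroup G} (h : X ≤ Y) : bar E N X ≤ bar E N Y :=
  Subgroup.map_mono fun _ hx => h hx

theorem bar_commutator {X Y : Subgroup G} (hX : X ≤ E) (hY : Y ≤ E) :
    bar E N ⁅X, Y⁆ = ⁅bar E N X, bar E N Y⁆ := by
  unfold bar
  rw [← Subgroup.map_commutator]
  congr 1
  apply Subgroup.map_injective E.subtype_injective
  rw [Subgroup.map_commutator, map_subgroupOf_eq_of_le hX, map_subgroupOf_eq_of_le hY,
    map_subgroupOf_eq_of_le]
  exact (Subgroup.commutator_mono hX hY).trans (Subgroup.commutator_le_self E)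

theorem bar_pRes [Finite G] [Fact p.Prime] {X : Subgroup G} (hX : X ≤ E) :
    bar E N (pRes p X) = pRes p (bar E N X) := by
  unfold bar
  rw [← pRes_map]
  congr 1
  apply Subgroup.map_injective E.subtype_injective
  rw [pRes_map, map_subgroupOf_eq_of_le hX, map_subgroupOf_eq_of_le ((pRes_le p X).trans hX)]

theorem bar_self : bar E N E = ⊤ := by
  unfold bar
  rw [subgroupOf_self, ← MonoidHom.range_eq_map]
  exact MonoidHom.range_eq_top.2 (QuotientGroup.mk'_surjective N)

theorem bar_eq_bot_iff {X : Subgroup G} (hX : X ≤ E) :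
    bar E N X = ⊥ ↔ X ≤ N.map E.subtype := by
  have h1 : bar E N (⊥ : Subgroup G) = ⊥ := by
    unfold bar
    rw [bot_subgroupOf, Subgroup.map_bot]
  rw [← le_bot_iff, ← h1, bar_le_iff hX bot_le, bot_sup_eq]

theorem bar_normal {X : Subgroup G} (h : E ≤ normalizer (X : Set G)) : (bar E N X).Normal := by
  have : (X.subgroupOf E).Normal := normal_subgroupOf_of_le h
  exact this.map _ (QuotientGroup.mk'_surjective N)

theorem bar_isPGroup {X : Subgroup G} (h : IsPGroup p X) : IsPGroup p (bar E N X) :=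
  (h.comap_of_injective E.subtype E.subtype_injective).map _

theorem bar_sup {X Y : Subgroup G} (hX : X ≤ E) (hY : Y ≤ E) :
    bar E N (X ⊔ Y) = bar E N X ⊔ bar E N Y := by
  unfold bar
  rw [← Subgroup.map_sup]
  congr 1
  apply Subgroup.map_injective E.subtype_injective
  rw [Subgroup.map_sup, map_subgroupOf_eq_of_le hX, map_subgroupOf_eq_of_le hY,
    map_subgroupOf_eq_of_le (sup_le hX hY)]

theorem nonempty_bar_equiv {X : Subgroup G} (hX : X ≤ E) (K : Subgroup X) [K.Normal]
    (hK : K = (N.map E.subtype).subgroupOf X) : Nonempty (X ⧸ K ≃* bar E N X) := by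
  let φ : X →* E ⧸ N := (QuotientGroup.mk' N).comp (Subgroup.inclusion hX)
  have hker : φ.ker = K := by
    rw [hK]
    ext x
    rw [MonoidHom.mem_ker, mem_subgroupOf]
    change ((Subgroup.inclusion hX x : E) : E ⧸ N) = 1 ↔ _
    rw [QuotientGroup.eq_one_iff]
    constructor
    · intro h
      exact ⟨_, h, rfl⟩
    · rintro ⟨y, hy, hyx⟩
      have : y = Subgroup.inclusion hX x := Subtype.ext hyx
      exact this ▸ hy
  have hrange : φ.range = bar E N X := by
    unfold bar
    rw [MonoidHom.range_comp]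
    congr 1
    ext y
    constructor
    · rintro ⟨x, rfl⟩
      exact x.2
    · intro hy
      exact ⟨⟨y, hy⟩, Subtype.ext rfl⟩
  exact ⟨((QuotientGroup.quotientMulEquivOfEq hker.symm).trans
    (QuotientGroup.quotientKerEquivRange φ)).trans (MulEquiv.subgroupCongr hrange)⟩

/-- Dedekind. -/
theorem le_sup_inf_of_le {X Y Z : Subgroup G} (hYX : Y ≤ X)
    (hZ : Y ≤ normalizer (Z : Set G)) (h : X ≤ Y ⊔ Z) : X ≤ Y ⊔ (X ⊓ Z) := by
  intro x hx
  obtain ⟨y, hy, z, hz, rfl⟩ := (mem_sup_of_le_normalizer hZ).1 (h hx)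
  refine mul_mem (mem_sup_left hy) (mem_sup_right (mem_inf.2 ⟨?_, hz⟩))
  have := mul_mem (inv_mem (hYX hy)) hx
  simpa using this

end Cfsg.Agent.H48
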