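import Mathlib

/-!
Composition length of (subgroups of) finite groups, defined through subnormal chains.
-/

set_option autoImplicit false
set_option linter.unusedSectionVars false

namespace Cfsg.Agent.H48

open Subgroup

variable {G : Type*} [Group G] {G' : Type*} [Group G']

/-- `SC H n`: there is a chain `⊥ = H₀ < H₁ < ⋯ < H_n = H`, each normal in the next. -/
inductive SC {G : Type*} [Group G] : Subgroup G → ℕ → Prop
  | bot : SC ⊥ 0
  | step {K H : Subgroup G} {n : ℕ} (h : K < H) (hn : ∀ x ∈ H, ∀ k ∈ K, x * k * x⁻¹ ∈ K)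
      (hK : SC K n) : SC H (n + 1)

lemma SC.pow_le [Finite G] {H : Subgroup G} {n : ℕ} (h : SC H n) : 2 ^ n ≤ Nat.card H := by
  induction h with
  | bot => simp
  | @step K H n h hn hK ih =>
    have h1 : Nat.card K ∣ Nat.card H := Subgroup.card_dvd_of_le h.le
    obtain ⟨c, hc⟩ := h1
    have h2 : c ≠ 1 := by
      rintro rfl
      exact h.ne (Subgroup.eq_of_le_of_card_ge h.le (by rw [hc, mul_one]))
    have h3 : c ≠ 0 := by
      rintro rfl
      rw [mul_zero] at hc
      exact Nat.card_pos.ne' hc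
    rw [hc, pow_succ]
    exact Nat.mul_le_mul ih (by omega)

lemma SC.eq_zero_of_bot {n : ℕ} (h : SC (⊥ : Subgroup G) n) : n = 0 := by
  cases h with
  | bot => rfl
  | step h _ _ => exact absurd h not_lt_bot

lemma SC.exists_one (H : Subgroup G) : ∃ n, SC H n := by
  by_cases h : H = ⊥
  · subst h; exact ⟨0, SC.bot⟩
  · exact ⟨1, SC.step (bot_lt_iff_ne_bot.mpr h) (fun x _ k hk => by
      rw [Subgroup.mem_bot] at hk ⊢; rw [hk]; simp) SC.bot⟩

/-- composition length -/
noncomputable def cl (H : Subgroup G) : ℕ := sSup {n | SC H n}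

lemma bddAbove_SC [Finite G] (H : Subgroup G) : BddAbove {n | SC H n} :=
  ⟨Nat.card H, fun n (h : SC H n) => (Nat.lt_two_pow_self.le).trans h.pow_le⟩

lemma SC_cl [Finite G] (H : Subgroup G) : SC H (cl H) :=
  Nat.sSup_mem (SC.exists_one H) (bddAbove_SC H)

lemma SC.le_cl [Finite G] {H : Subgroup G} {n : ℕ} (h : SC H n) : n ≤ cl H :=
  le_csSup (bddAbove_SC H) h

lemma cl_pow_le [Finite G] (H : Subgroup G) : 2 ^ cl H ≤ Nat.card H := (SC_cl H).pow_le

@[simp] lemma cl_bot [Finite G] : cl (⊥ : Subgroup G) = 0 := (SC_cl _).eq_zero_of_bot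

lemma SC.split (f : G →* G') {H : Subgroup G} {n : ℕ} (h : SC H n) :
    ∃ a b, SC (H ⊓ f.ker) a ∧ SC (H.map f) b ∧ n ≤ a + b := by
  induction h with
  | bot => exact ⟨0, 0, by rw [bot_inf_eq]; exact SC.bot, by rw [Subgroup.map_bot]; exact SC.bot, by simp⟩
  | @step K H n h hn hK ih =>
    obtain ⟨a, b, ha, hb, hab⟩ := ih
    have hle1 : K ⊓ f.ker ≤ H ⊓ f.ker := inf_le_inf_right _ h.le
    have hle2 : K.map f ≤ H.map f := Subgroup.map_mono h.le
    have hn1 : ∀ x ∈ H ⊓ f.ker, ∀ k ∈ K ⊓ f.ker, x * k * x⁻¹ ∈ K ⊓ f.ker := fun x hx k hk =>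
      ⟨hn x hx.1 k hk.1, (inferInstance : f.ker.Normal).conj_mem k hk.2 x⟩
    have hn2 : ∀ x ∈ H.map f, ∀ k ∈ K.map f, x * k * x⁻¹ ∈ K.map f := by
      rintro _ ⟨x, hx, rfl⟩ _ ⟨k, hk, rfl⟩
      exact ⟨_, hn x hx k hk, by simp⟩
    rcases hle1.lt_or_eq with h1 | h1
    · have ha' := SC.step h1 hn1 ha
      rcases hle2.lt_or_eq with h2 | h2
      · exact ⟨a + 1, b + 1, ha', SC.step h2 hn2 hb, by omega⟩
      · exact ⟨a + 1, b, ha', h2 ▸ hb, by omega⟩
    · rcases hle2.lt_or_eq with h2 | h2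
      · exact ⟨a, b + 1, h1 ▸ ha, SC.step h2 hn2 hb, by omega⟩
      · exfalso
        apply h.ne
        apply le_antisymm h.le
        intro x hx
        have : f x ∈ K.map f := by rw [h2]; exact ⟨x, hx, rfl⟩
        obtain ⟨k, hk, hkx⟩ := this
        have h3 : k⁻¹ * x ∈ H ⊓ f.ker := ⟨H.mul_mem (H.inv_mem (h.le hk)) hx, (MonoidHom.mem_ker).mpr (by
          rw [map_mul, map_inv, hkx, inv_mul_cancel])⟩
        rw [← h1] at h3
        have := K.mul_mem hk h3.1
        simpa using this

lemma SC.glue (f : G →* G') {b : ℕ} {H' : Subgroup G'} (h : SC H' b) :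
    ∀ {H : Subgroup G} {a : ℕ}, H.map f = H' → SC (H ⊓ f.ker) a → SC H (a + b) := by
  induction h with
  | bot =>
    intro H a h1 h2
    have : H ≤ f.ker := by
      intro x hx
      have : f x ∈ H.map f := ⟨x, hx, rfl⟩
      rw [h1, Subgroup.mem_bot] at this
      exact this
    rw [inf_eq_left.mpr this] at h2
    simpa using h2
  | @step K' H' n h hn hK ih =>
    intro H a h1 h2
    set K : Subgroup G := H ⊓ K'.comap f with hKdef
    have hKH : K ≤ H := inf_le_left
    have hmap : K.map f = K' := by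
      apply le_antisymm
      · rintro _ ⟨x, hx, rfl⟩
        exact hx.2
      · intro y hy
        have : y ∈ H.map f := by rw [h1]; exact h.le hy
        obtain ⟨x, hx, rfl⟩ := this
        exact ⟨x, ⟨hx, hy⟩, rfl⟩
    have hker : K ⊓ f.ker = H ⊓ f.ker := by
      ext x
      constructor
      · rintro ⟨⟨hx, -⟩, hx2⟩; exact ⟨hx, hx2⟩
      · rintro ⟨hx, hx2⟩
        have hx3 : f x = 1 := hx2
        exact ⟨⟨hx, Subgroup.mem_comap.mpr (by rw [hx3]; exact K'.one_mem)⟩, hx2⟩
    have hlt : K < H := by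
      refine lt_of_le_of_ne hKH ?_
      intro he
      rw [he, h1] at hmap
      exact h.ne hmap.symm
    have hnorm : ∀ x ∈ H, ∀ k ∈ K, x * k * x⁻¹ ∈ K := by
      intro x hx k hk
      refine ⟨H.mul_mem (H.mul_mem hx hk.1) (H.inv_mem hx), ?_⟩
      have := hn (f x) (by rw [← h1]; exact ⟨x, hx, rfl⟩) (f k) hk.2
      simpa using this
    have := ih hmap (by rw [hker]; exact h2)
    rw [← add_assoc]
    exact SC.step hlt hnorm this

/-- additivity of the composition length -/
lemma cl_add [Finite G] (f : G →* G') (H : Subgroup G) : cl H = cl (H ⊓ f.ker) + cl (H.map f) := by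
  have key : ∀ n, SC (H.map f) n → n ≤ cl (H.map f) := by
    intro n hn
    apply le_csSup _ hn
    refine ⟨Nat.card H, fun m (hm : SC (H.map f) m) => ?_⟩
    obtain ⟨a, ha⟩ := SC.exists_one (H ⊓ f.ker)
    have h1 := SC.glue f hm rfl ha
    have h2 := h1.pow_le
    have h3 : a + m < 2 ^ (a + m) := Nat.lt_two_pow_self
    omega
  have hmem : SC (H.map f) (cl (H.map f)) := by
    apply Nat.sSup_mem (SC.exists_one _)
    refine ⟨Nat.card H, fun m (hm : SC (H.map f) m) => ?_⟩
    obtain ⟨a, ha⟩ := SC.exists_one (H ⊓ f.ker)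
    have h1 := SC.glue f hm rfl ha
    have h2 := h1.pow_le
    have h3 : a + m < 2 ^ (a + m) := Nat.lt_two_pow_self
    omega
  apply le_antisymm
  · obtain ⟨a, b, ha, hb, hab⟩ := (SC_cl H).split f
    have := ha.le_cl
    have := key b hb
    omega
  · exact (SC.glue f hmem rfl (SC_cl _)).le_cl

lemma cl_map_of_injective [Finite G] (f : G →* G') (hf : Function.Injective f) (H : Subgroup G) :
    cl (H.map f) = cl H := by
  rw [cl_add f H, (MonoidHom.ker_eq_bot_iff f).mpr hf, inf_bot_eq, cl_bot, zero_add]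

lemma cl_lt_of_lt [Finite G] {K H : Subgroup G} (h : K < H) (hn : ∀ x ∈ H, ∀ k ∈ K, x * k * x⁻¹ ∈ K) :
    cl K + 1 ≤ cl H := (SC.step h hn (SC_cl K)).le_cl

lemma one_le_cl [Finite G] {H : Subgroup G} (h : H ≠ ⊥) : 1 ≤ cl H := by
  have := cl_lt_of_lt (K := ⊥) (H := H) (bot_lt_iff_ne_bot.mpr h) (fun x _ k hk => by
      rw [Subgroup.mem_bot] at hk ⊢; rw [hk]; simp)
  rw [cl_bot] at this
  exact this

/-- the whole subgroup as a group -/
lemma cl_top_subgroup [Finite G] (H : Subgroup G) : cl (⊤ : Subgroup H) = cl H := by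
  have := cl_map_of_injective H.subtype H.subtype_injective ⊤
  rw [← this, ← MonoidHom.range_eq_map, Subgroup.range_subtype]

lemma cl_top_equiv [Finite G] (e : G ≃* G') : cl (⊤ : Subgroup G') = cl (⊤ : Subgroup G) := by
  have := cl_map_of_injective e.toMonoidHom e.injective ⊤
  rw [← this, ← MonoidHom.range_eq_map, MonoidHom.range_eq_top.mpr e.surjective]

lemma SC.le_primeFactors [Finite G] {H : Subgroup G} {n : ℕ} (h : SC H n) :
    n ≤ (Nat.card H).primeFactorsList.length := by
  induction h with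
  | bot => simp
  | @step K H n h hn hK ih =>
    have h1 : Nat.card K ∣ Nat.card H := Subgroup.card_dvd_of_le h.le
    obtain ⟨c, hc⟩ := h1
    have h2 : c ≠ 1 := by
      rintro rfl
      exact h.ne (Subgroup.eq_of_le_of_card_ge h.le (by rw [hc, mul_one]))
    have h3 : c ≠ 0 := by
      rintro rfl
      rw [mul_zero] at hc
      exact Nat.card_pos.ne' hc
    rw [hc, (Nat.perm_primeFactorsList_mul Nat.card_pos.ne' h3).length_eq, List.length_append]
    have h4 : c.primeFactorsList ≠ [] := by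
      intro h5
      rw [Nat.primeFactorsList_eq_nil] at h5
      omega
    have := List.length_pos_iff.mpr h4
    omega

lemma cl_le_primeFactors [Finite G] (H : Subgroup G) : cl H ≤ (Nat.card H).primeFactorsList.length :=
  (SC_cl H).le_primeFactors

lemma cl_le_one_of_simple [Finite G] [IsSimpleGroup G] : cl (⊤ : Subgroup G) ≤ 1 := by
  have h := SC_cl (⊤ : Subgroup G)
  generalize cl (⊤ : Subgroup G) = n at h
  generalize hT : (⊤ : Subgroup G) = T at h
  cases h with
  | bot => omega
  | @step K _ n h hn hK =>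
    subst hT
    have hKn : K.Normal := ⟨fun k hk x => hn x trivial k hk⟩
    rcases hKn.eq_bot_or_eq_top with h1 | h1
    · subst h1
      have := hK.eq_zero_of_bot
      omega
    · exact absurd h1 h.ne

/-- chain as in the statement -/
lemma SC_of_chain (l : ℕ) (H : Fin (l + 1) → Subgroup G) (h0 : H 0 = ⊥)
    (hchain : ∀ i : Fin l, H i.castSucc < H i.succ ∧ ((H i.castSucc).subgroupOf (H i.succ)).Normal) :
    SC (H (Fin.last l)) l := by
  have : ∀ i : Fin (l + 1), SC (H i) i := by
    intro i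
    induction i using Fin.induction with
    | zero => rw [h0]; exact SC.bot
    | succ i ih =>
      obtain ⟨h1, h2⟩ := hchain i
      rw [Fin.val_succ]
      refine SC.step h1 ?_ (by simpa using ih)
      intro x hx k hk
      have := h2.conj_mem ⟨k, h1.le hk⟩ hk ⟨x, hx⟩
      exact this
  simpa using this (Fin.last l)

end Cfsg.Agent.H48
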