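import Cfsg.Agent.H48.CompLen

/-!
Composition length of permutation groups: intransitive and imprimitive reductions.
-/

set_option autoImplicit false
set_option linter.unusedSectionVars false

namespace Cfsg.Agent.H48

open Subgroup MulAction

variable {G : Type*} [Group G] {Ω : Type*} [MulAction G Ω]

/-- composition length of the permutation group induced by `G` on `Ω` -/
noncomputable def ac (G Ω : Type*) [Group G] [MulAction G Ω] : ℕ := cl (MulAction.toPermHom G Ω).range

/-- number of orbits -/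
noncomputable def ob (G Ω : Type*) [Group G] [MulAction G Ω] : ℕ :=
  Nat.card (Quotient (MulAction.orbitRel G Ω))

lemma range_sub (K : Subgroup G) : (toPermHom K Ω).range = K.map (toPermHom G Ω) := by
  ext σ
  constructor
  · rintro ⟨k, rfl⟩
    exact ⟨k, k.2, rfl⟩
  · rintro ⟨k, hk, rfl⟩
    exact ⟨⟨k, hk⟩, rfl⟩

lemma cl_top_eq [Finite G] : cl (⊤ : Subgroup G) = cl (toPermHom G Ω).ker + ac G Ω := by
  have := cl_add (toPermHom G Ω) ⊤
  rwa [top_inf_eq, ← MonoidHom.range_eq_map] at this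

lemma cl_sub_eq [Finite G] (K : Subgroup G) :
    cl K = cl (K ⊓ (toPermHom G Ω).ker) + ac K Ω := by
  have := cl_add (toPermHom G Ω) K
  rwa [← range_sub] at this

lemma mem_ker_toPermHom {g : G} : g ∈ (toPermHom G Ω).ker ↔ ∀ ω : Ω, g • ω = ω := by
  rw [MonoidHom.mem_ker]
  constructor
  · intro h ω
    have := congrArg (fun σ : Equiv.Perm Ω => σ ω) h
    simpa using this
  · intro h
    ext ω
    simpa using h ω

/-- the bound for degree `n` -/
def Bd (n : ℕ) : Prop := ∀ (G : Type) [Group G] [Finite G] (Ω : Type) [Finite Ω] [MulAction G Ω],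
  Nat.card Ω = n → 3 * ac G Ω + 4 * ob G Ω ≤ 4 * n

lemma ob_le_card [Finite Ω] : ob G Ω ≤ Nat.card Ω :=
  Nat.card_le_card_of_surjective _ Quotient.mk_surjective

lemma ob_pos [Finite Ω] [Nonempty Ω] : 1 ≤ ob G Ω := by
  have : Nonempty (Quotient (MulAction.orbitRel G Ω)) := ⟨Quotient.mk _ (Classical.arbitrary Ω)⟩
  exact Nat.card_pos

lemma ob_sub_ge [Finite Ω] (K : Subgroup G) : ob G Ω ≤ ob K Ω := by
  refine Nat.card_le_card_of_surjective (Quotient.map' (s₁ := MulAction.orbitRel K Ω)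
    (s₂ := MulAction.orbitRel G Ω) id ?_) ?_
  · rintro a b ⟨k, rfl⟩
    exact ⟨(k : G), rfl⟩
  · intro q
    induction q using Quotient.inductionOn with
    | h x => exact ⟨Quotient.mk _ x, rfl⟩

lemma intrans {n : ℕ} (IH : ∀ m < n, Bd m) (G : Type) [Group G] [Finite G] (Ω : Type) [Finite Ω]
    [MulAction G Ω] (hn : Nat.card Ω = n) (Δ : Set Ω) (hΔ : ∀ (g : G) (x : Ω), x ∈ Δ → g • x ∈ Δ)
    (x y : Ω) (hx : x ∈ Δ) (hy : y ∉ Δ) : 3 * ac G Ω + 4 * ob G Ω ≤ 4 * n := by
  classical
  let D1 : SubMulAction G Ω := ⟨Δ, fun g {x} hx => hΔ g x hx⟩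
  let D2 : SubMulAction G Ω := ⟨Δᶜ, fun g {x} hx => by
    intro h
    apply hx
    have := hΔ g⁻¹ _ h
    simpa using this⟩
  have hc : Nat.card D1 + Nat.card D2 = n := by
    rw [← hn]
    have h1 : Nat.card D1 = Δ.ncard := rfl
    have h2 : Nat.card D2 = Δᶜ.ncard := rfl
    rw [h1, h2, Set.ncard_add_ncard_compl]
  have : Nonempty D1 := ⟨⟨x, hx⟩⟩
  have : Nonempty D2 := ⟨⟨y, hy⟩⟩
  have hp1 : 0 < Nat.card D1 := Nat.card_pos
  have hp2 : 0 < Nat.card D2 := Nat.card_pos
  set K : Subgroup G := (toPermHom G D1).ker with hK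
  have e1 := cl_top_eq (G := G) (Ω := Ω)
  have e2 := cl_top_eq (G := G) (Ω := D1)
  rw [← hK] at e2
  have e3 := cl_sub_eq (Ω := D2) K
  have hker : K ⊓ (toPermHom G D2).ker = (toPermHom G Ω).ker := by
    ext g
    rw [Subgroup.mem_inf, hK, mem_ker_toPermHom, mem_ker_toPermHom, mem_ker_toPermHom]
    constructor
    · rintro ⟨h1, h2⟩ ω
      by_cases hω : ω ∈ Δ
      · exact congrArg Subtype.val (h1 ⟨ω, hω⟩)
      · exact congrArg Subtype.val (h2 ⟨ω, hω⟩)
    · intro h
      exact ⟨fun ω => Subtype.ext (h ω), fun ω => Subtype.ext (h ω)⟩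
  rw [hker] at e3
  have i1 := IH (Nat.card D1) (by omega) G D1 rfl
  have i2 := IH (Nat.card D2) (by omega) K D2 rfl
  have ho : ob G Ω ≤ ob G D1 + ob K D2 := by
    have h1 : ob G Ω ≤ ob G D1 + ob G D2 := by
      have : Nat.card (Quotient (orbitRel G D1) ⊕ Quotient (orbitRel G D2)) = ob G D1 + ob G D2 := by
        rw [Nat.card_sum]; rfl
      rw [← this]
      refine Nat.card_le_card_of_surjective (Sum.elim
        (Quotient.map' (s₁ := orbitRel G D1) (s₂ := orbitRel G Ω) Subtype.val ?_)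
        (Quotient.map' (s₁ := orbitRel G D2) (s₂ := orbitRel G Ω) Subtype.val ?_)) ?_
      · rintro a b ⟨k, rfl⟩
        exact ⟨k, rfl⟩
      · rintro a b ⟨k, rfl⟩
        exact ⟨k, rfl⟩
      · intro q
        induction q using Quotient.inductionOn with
        | h z =>
          by_cases hz : z ∈ Δ
          · exact ⟨Sum.inl (Quotient.mk _ ⟨z, hz⟩), rfl⟩
          · exact ⟨Sum.inr (Quotient.mk _ ⟨z, hz⟩), rfl⟩
    have h2 : ob G D2 ≤ ob K D2 := ob_sub_ge K
    omega
  omega

lemma imprim {n : ℕ} (IH : ∀ m < n, Bd m) (G : Type) [Group G] [Finite G] (Ω : Type) [Finite Ω]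
    [MulAction G Ω] [IsPretransitive G Ω] (hn : Nat.card Ω = n) (α : Ω) (M : Subgroup G)
    (h1 : stabilizer G α < M) (h2 : M ≠ ⊤) : 3 * ac G Ω + 4 * ob G Ω ≤ 4 * n := by
  classical
  have hgx : ∀ x : Ω, ∃ g : G, g • α = x := fun x => exists_smul_eq G α x
  choose g hg using hgx
  let φ : Ω → G ⧸ M := fun x => (g x : G ⧸ M)
  have hφ : ∀ (h : G) (x : Ω), φ (h • x) = h • φ x := by
    intro h x
    change ((g (h • x) : G) : G ⧸ M) = ((h * g x : G) : G ⧸ M)
    rw [QuotientGroup.eq]
    apply h1.le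
    rw [mem_stabilizer_iff, mul_smul, mul_smul, hg x, inv_smul_eq_iff, hg]
  have hsurj : Function.Surjective φ := by
    intro q
    induction q using QuotientGroup.induction_on with
    | H h =>
      refine ⟨h • α, ?_⟩
      change ((g (h • α) : G) : G ⧸ M) = ((h : G) : G ⧸ M)
      rw [QuotientGroup.eq]
      apply h1.le
      rw [mem_stabilizer_iff, mul_smul, inv_smul_eq_iff, hg]
  set m := Nat.card (G ⧸ M) with hm
  -- m < n
  have hmn : m < n := by
    rw [← hn]
    refine lt_of_le_of_ne (Nat.card_le_card_of_surjective φ hsurj) ?_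
    intro he
    have hinj : Function.Injective φ := (Function.Surjective.bijective_of_nat_card_le hsurj he.ge).1
    obtain ⟨x, hxM, hx⟩ := SetLike.exists_of_lt h1
    apply hx
    rw [mem_stabilizer_iff]
    apply hinj
    rw [hφ]
    have h3 : φ α = ((1 : G) : G ⧸ M) := by
      change ((g α : G) : G ⧸ M) = _
      rw [QuotientGroup.eq]
      apply h1.le
      rw [mul_one, inv_mem_iff, mem_stabilizer_iff, hg]
    rw [h3]
    change ((x * 1 : G) : G ⧸ M) = _
    rw [QuotientGroup.eq]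
    simpa using M.inv_mem hxM
  have hm2 : 2 ≤ m := by
    have : M.index ≠ 1 := fun h => h2 (Subgroup.index_eq_one.mp h)
    have h3 : M.index ≠ 0 := Subgroup.index_ne_zero_of_finite
    have h4 : M.index = m := rfl
    omega
  set K : Subgroup G := (toPermHom G (G ⧸ M)).ker with hK
  have hKφ : ∀ (k : K) (x : Ω), φ (k • x) = φ x := by
    rintro ⟨k, hk⟩ x
    change φ (k • x) = φ x
    rw [hφ]
    exact mem_ker_toPermHom.mp hk _
  have hob : m ≤ ob K Ω := by
    rw [hm]
    refine Nat.card_le_card_of_surjective (Quotient.lift (s := orbitRel K Ω) φ ?_) ?_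
    · rintro a b ⟨k, rfl⟩
      exact hKφ k b
    · intro q
      obtain ⟨x, rfl⟩ := hsurj q
      exact ⟨Quotient.mk _ x, rfl⟩
  -- the intransitive bound for K
  have iK : 3 * ac K Ω + 4 * ob K Ω ≤ 4 * n := by
    have : ∃ q : G ⧸ M, q ≠ φ α := by
      have : Nontrivial (G ⧸ M) := Finite.one_lt_card_iff_nontrivial.mp (by omega)
      exact exists_ne _
    obtain ⟨q, hq⟩ := this
    obtain ⟨y, rfl⟩ := hsurj q
    refine intrans IH K Ω hn {x | φ x = φ α} ?_ α y rfl hq
    intro k x hx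
    rw [Set.mem_ofPred_eq] at hx ⊢
    rw [hKφ, hx]
  have iG := IH m hmn G (G ⧸ M) rfl
  have hob1 : 1 ≤ ob G (G ⧸ M) := ob_pos
  have e1 := cl_top_eq (G := G) (Ω := Ω)
  have e2 := cl_top_eq (G := G) (Ω := G ⧸ M)
  rw [← hK] at e2
  have e3 := cl_sub_eq (Ω := Ω) K
  have hker : K ⊓ (toPermHom G Ω).ker = (toPermHom G Ω).ker := by
    rw [inf_eq_right]
    intro x hx
    rw [mem_ker_toPermHom] at hx
    rw [hK, mem_ker_toPermHom]
    intro q
    obtain ⟨y, rfl⟩ := hsurj q
    rw [← hφ, hx]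
  rw [hker] at e3
  have hob2 : ob G Ω ≤ 1 := by
    have : Subsingleton (Quotient (orbitRel G Ω)) := by
      constructor
      intro a b
      induction a using Quotient.inductionOn with
      | h a =>
        induction b using Quotient.inductionOn with
        | h b =>
          apply Quotient.sound
          obtain ⟨k, hk⟩ := exists_smul_eq G b a
          exact ⟨k, hk⟩
    exact Finite.card_le_one_iff_subsingleton.mpr this
  omega

end Cfsg.Agent.H48
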