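import Cfsg.Agent.H48.CompLen2
import Cfsg.Agent.H59.PrimComp2

/-!
Composition length of permutation groups: order bounds.
-/

set_option autoImplicit false
set_option linter.unusedSectionVars false

namespace Cfsg.Agent.H48

open Subgroup MulAction

lemma exists_gen (N : Type*) [Group N] [Finite N] :
    ∃ S : Finset N, Subgroup.closure (S : Set N) = ⊤ ∧ 2 ^ S.card ≤ Nat.card N := by
  classical
  have := Fintype.ofFinite N
  obtain ⟨S, hS, hmax⟩ := Finset.exists_max_image
    (Finset.univ.filter (fun S : Finset N => 2 ^ S.card ≤ Nat.card (Subgroup.closure (S : Set N))))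
    Finset.card ⟨∅, by simp⟩
  rw [Finset.mem_filter] at hS
  refine ⟨S, ?_, hS.2.trans (Subgroup.card_le_card_group _)⟩
  by_contra hne
  obtain ⟨x, hx⟩ : ∃ x, x ∉ Subgroup.closure (S : Set N) := by
    by_contra h
    push Not at h
    exact hne (by ext y; simp [h y])
  have hxS : x ∉ S := fun h => hx (Subgroup.subset_closure h)
  have h1 : Subgroup.closure (S : Set N) < Subgroup.closure ((insert x S : Finset N) : Set N) := by
    refine lt_of_le_of_ne (Subgroup.closure_mono (by simp)) ?_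
    intro h
    apply hx
    rw [h]
    exact Subgroup.subset_closure (by simp)
  obtain ⟨c, hc⟩ : Nat.card (Subgroup.closure (S : Set N)) ∣
      Nat.card (Subgroup.closure ((insert x S : Finset N) : Set N)) := Subgroup.card_dvd_of_le h1.le
  have h2 : c ≠ 1 := by
    rintro rfl
    exact h1.ne (Subgroup.eq_of_le_of_card_ge h1.le (by rw [hc, mul_one]))
  have h3 : c ≠ 0 := by
    rintro rfl
    rw [mul_zero] at hc
    exact Nat.card_pos.ne' hc
  have h4 : 2 ^ (insert x S : Finset N).card ≤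
      Nat.card (Subgroup.closure ((insert x S : Finset N) : Set N)) := by
    rw [hc, Finset.card_insert_of_notMem hxS, pow_succ]
    exact Nat.mul_le_mul hS.2 (by omega)
  have := hmax (insert x S) (by rw [Finset.mem_filter]; exact ⟨Finset.mem_univ _, h4⟩)
  rw [Finset.card_insert_of_notMem hxS] at this
  omega

lemma card_mulAut_le (N : Type*) [Group N] [Finite N] :
    ∃ g : ℕ, 2 ^ g ≤ Nat.card N ∧ Nat.card (MulAut N) ≤ Nat.card N ^ g := by
  classical
  obtain ⟨S, hS, hc⟩ := exists_gen N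
  refine ⟨S.card, hc, ?_⟩
  have h1 : Nat.card (S → N) = Nat.card N ^ S.card := by
    rw [Nat.card_fun]; simp
  rw [← h1]
  refine Nat.card_le_card_of_injective (fun (φ : MulAut N) (s : S) => φ s) ?_
  intro φ ψ h
  have h2 : φ.toMonoidHom = ψ.toMonoidHom := by
    apply MonoidHom.eq_of_eqOn_top
    rw [← hS]
    apply MonoidHom.eqOn_closure
    intro s hs
    exact congrFun h ⟨s, hs⟩
  ext x
  exact DFunLike.congr_fun h2 x

lemma card_le_centralizer {G : Type*} [Group G] [Finite G] (N : Subgroup G) [N.Normal] :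
    ∃ g : ℕ, 2 ^ g ≤ Nat.card N ∧ Nat.card G ≤ Nat.card (centralizer (N : Set G)) * Nat.card N ^ g := by
  obtain ⟨g, h1, h2⟩ := card_mulAut_le N
  refine ⟨g, h1, ?_⟩
  have h3 : Nat.card G = Nat.card (MulAut.conjNormal (H := N)).ker * Nat.card (MulAut.conjNormal (H := N)).range := by
    rw [mul_comm, ← Nat.card_congr (QuotientGroup.quotientKerEquivRange (MulAut.conjNormal (H := N))).toEquiv,
      ← Subgroup.card_eq_card_quotient_mul_card_subgroup]
  rw [h3]
  refine Nat.mul_le_mul ?_ ((Subgroup.card_le_card_group _).trans h2)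
  apply Subgroup.card_le_of_le
  intro x hx
  rw [MonoidHom.mem_ker] at hx
  rw [Subgroup.mem_centralizer_iff]
  intro n hn
  have := congrArg (fun φ : MulAut N => ((φ ⟨n, hn⟩ : N) : G)) hx
  simp only [MulAut.conjNormal_apply, MulAut.one_apply] at this
  exact (mul_inv_eq_iff_eq_mul.mp this).symm

lemma card_centralizer_le {G Ω : Type*} [Group G] [MulAction G Ω] [FaithfulSMul G Ω] [Finite Ω]
    (N : Subgroup G) [IsPretransitive N Ω] (α : Ω) : Nat.card (centralizer (N : Set G)) ≤ Nat.card Ω := by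
  refine Nat.card_le_card_of_injective (fun c : centralizer (N : Set G) => (c : G) • α) ?_
  intro c d h
  have h1 : ((d : G)⁻¹ * c) = 1 := by
    apply Cfsg.Agent.H59.eq_one_of_commute_transitive N _ ?_ α
    · rw [mul_smul]
      simp only at h
      rw [h, inv_smul_smul]
    · intro k hk
      have := Subgroup.mem_centralizer_iff.mp ((centralizer (N : Set G)).mul_mem
        ((centralizer (N : Set G)).inv_mem d.2) c.2) k hk
      exact this
  apply Subtype.ext
  rw [inv_mul_eq_one] at h1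
  exact h1.symm

/-- arithmetic, affine case -/
lemma arith1 {n c g : ℕ} (hn : 19 ≤ n) (hg : 2 ^ g ≤ n) (hc : 2 ^ c ≤ n * n ^ g) : 3 * c + 4 ≤ 4 * n := by
  set k := Nat.log 2 n with hk
  have h1 : 2 ^ k ≤ n := Nat.pow_log_le_self 2 (by omega)
  have h2 : n < 2 ^ (k + 1) := Nat.lt_pow_succ_log_self (by norm_num) n
  have h3 : g ≤ k := by
    have : 2 ^ g < 2 ^ (k + 1) := lt_of_le_of_lt hg h2
    have := (Nat.pow_lt_pow_iff_right (by norm_num : 1 < 2)).mp this
    omega
  have h4 : 2 ^ c < 2 ^ ((k + 1) * (k + 1)) := by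
    calc 2 ^ c ≤ n * n ^ g := hc
      _ = n ^ (g + 1) := by rw [pow_succ]; ring
      _ < (2 ^ (k + 1)) ^ (g + 1) := Nat.pow_lt_pow_left h2 (by omega)
      _ ≤ (2 ^ (k + 1)) ^ (k + 1) := Nat.pow_le_pow_right (by positivity) (by omega)
      _ = 2 ^ ((k + 1) * (k + 1)) := by rw [← pow_mul]
  have h5 : c < (k + 1) * (k + 1) := (Nat.pow_lt_pow_iff_right (by norm_num : 1 < 2)).mp h4
  have h6 : 4 ≤ k := by
    by_contra h
    have : 2 ^ (k + 1) ≤ 2 ^ 4 := Nat.pow_le_pow_right (by norm_num) (by omega)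
    omega
  rcases Nat.lt_or_ge k 5 with h7 | h7
  · have : k = 4 := by omega
    rw [this] at h5
    omega
  · have h8 : ∀ j, 5 ≤ j → 3 * ((j + 1) * (j + 1)) ≤ 4 * 2 ^ j - 1 := by
      intro j hj
      induction j, hj using Nat.le_induction with
      | base => norm_num
      | succ j hj ih =>
        have hj2 : 2 * j + 3 < 2 ^ j := by
          clear ih
          induction j, hj using Nat.le_induction with
          | base => norm_num
          | succ j hj ih => rw [pow_succ]; omega
        rw [pow_succ]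
        have e : 3 * ((j + 1 + 1) * (j + 1 + 1)) = 3 * ((j + 1) * (j + 1)) + 3 * (2 * j + 3) := by ring
        rw [e]
        omega
    have := h8 k h7
    omega

/-- arithmetic, non-affine case -/
lemma arith2 {n c g N : ℕ} (hn : 256 ≤ n) (hN : N ≤ n ^ 2) (hg : 2 ^ g ≤ N) (hc : 2 ^ c ≤ n * N ^ g) :
    3 * c + 4 ≤ 4 * n := by
  set k := Nat.log 2 n with hk
  have h1 : 2 ^ k ≤ n := Nat.pow_log_le_self 2 (by omega)
  have h2 : n < 2 ^ (k + 1) := Nat.lt_pow_succ_log_self (by norm_num) n
  have hN2 : N < 2 ^ (2 * k + 2) := by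
    calc N ≤ n ^ 2 := hN
      _ < (2 ^ (k + 1)) ^ 2 := Nat.pow_lt_pow_left h2 (by norm_num)
      _ = 2 ^ (2 * k + 2) := by rw [← pow_mul]; ring_nf
  have h3 : g ≤ 2 * k + 1 := by
    have : 2 ^ g < 2 ^ (2 * k + 2) := lt_of_le_of_lt hg hN2
    have := (Nat.pow_lt_pow_iff_right (by norm_num : 1 < 2)).mp this
    omega
  have h4 : 2 ^ c < 2 ^ ((k + 1) * (4 * k + 3)) := by
    calc 2 ^ c ≤ n * N ^ g := hc
      _ ≤ n * (2 ^ (2 * k + 2)) ^ g := Nat.mul_le_mul le_rfl (Nat.pow_le_pow_left hN2.le _)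
      _ ≤ n * (2 ^ (2 * k + 2)) ^ (2 * k + 1) :=
        Nat.mul_le_mul le_rfl (Nat.pow_le_pow_right (by positivity) h3)
      _ < 2 ^ (k + 1) * (2 ^ (2 * k + 2)) ^ (2 * k + 1) := Nat.mul_lt_mul_of_pos_right h2 (by positivity)
      _ = 2 ^ ((k + 1) * (4 * k + 3)) := by rw [← pow_mul, ← pow_add]; ring_nf
  have h5 : c < (k + 1) * (4 * k + 3) := (Nat.pow_lt_pow_iff_right (by norm_num : 1 < 2)).mp h4
  have h6 : 8 ≤ k := by
    by_contra h
    have : 2 ^ (k + 1) ≤ 2 ^ 8 := Nat.pow_le_pow_right (by norm_num) (by omega)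
    omega
  have h8 : ∀ j, 8 ≤ j → 3 * ((j + 1) * (4 * j + 3)) ≤ 4 * 2 ^ j - 1 := by
    intro j hj
    induction j, hj using Nat.le_induction with
    | base => norm_num
    | succ j hj ih =>
      have h9 : 2 ^ j ≥ 2 ^ 8 := Nat.pow_le_pow_right (by norm_num) hj
      have hj2 : 8 * j + 11 < 2 ^ j := by
        clear ih h9
        induction j, hj using Nat.le_induction with
        | base => norm_num
        | succ j hj ih => rw [pow_succ]; omega
      rw [pow_succ]
      have e : 3 * ((j + 1 + 1) * (4 * (j + 1) + 3)) = 3 * ((j + 1) * (4 * j + 3)) + 3 * (8 * j + 11) := by ring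
      rw [e]
      omega
  have := h8 k h6
  omega

end Cfsg.Agent.H48
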