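import Mathlib

/-!
# Involutions in groups with dihedral quotient modulo the 2-core
-/

set_option autoImplicit false

namespace Cfsg.Agent.H48.DTC

open Subgroup

variable {G : Type*} [Group G] [Finite G]

/-- a fixed-point-free action: all elements of the coset `x Q` are conjugate -/
theorem exists_conj (Q : Subgroup G) [Q.Normal] {x : G} (hx : ∀ q ∈ Q, q * x = x * q → q = 1)
    {y : G} (hy : x⁻¹ * y ∈ Q) : ∃ p ∈ Q, p * x * p⁻¹ = y := by
  let f : Q → Q := fun p => ⟨x⁻¹ * p * x * (p : G)⁻¹, mul_mem (by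
    have := ‹Q.Normal›.conj_mem p p.2 x⁻¹
    rwa [inv_inv] at this) (inv_mem p.2)⟩
  have hf : Function.Injective f := by
    intro p p' h
    have h1 : x⁻¹ * (p : G) * x * (p : G)⁻¹ = x⁻¹ * p' * x * (p' : G)⁻¹ := congrArg Subtype.val h
    have h2 : ((p' : G)⁻¹ * p) * x = x * ((p' : G)⁻¹ * p) := by
      have h3 : (p : G) * x * (p : G)⁻¹ = p' * x * (p' : G)⁻¹ := by
        have := congrArg (fun z => x * z) h1
        simpa [mul_assoc] using this
      calc ((p' : G)⁻¹ * p) * x = (p' : G)⁻¹ * (p * x * (p : G)⁻¹) * p := by group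
        _ = (p' : G)⁻¹ * (p' * x * (p' : G)⁻¹) * p := by rw [h3]
        _ = _ := by group
    have h4 := hx _ (mul_mem (inv_mem p'.2) p.2) h2
    rw [inv_mul_eq_one] at h4
    exact Subtype.ext h4.symm
  obtain ⟨p, hp⟩ := (Finite.injective_iff_surjective.1 hf) ⟨x⁻¹ * y, hy⟩
  refine ⟨p, p.2, ?_⟩
  have h1 : x⁻¹ * (p : G) * x * (p : G)⁻¹ = x⁻¹ * y := congrArg Subtype.val hp
  have := congrArg (fun z => x * z) h1
  simpa [mul_assoc] using this

/-- involutions in a coset -/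
def Inv (Q : Subgroup G) (a : G) : Set G := {t | t * t = 1 ∧ a⁻¹ * t ∈ Q}

theorem main (Q : Subgroup G) [hQn : Q.Normal] {a b g : G} (ha : a * a = 1) (hb : b * b = 1)
    (hg : g * a * g⁻¹ = b) (hx : ∀ q ∈ Q, q * (a * b) = (a * b) * q → q = 1)
    (hinv : ∀ t, t * t = 1 → a⁻¹ * t ∈ Q → t * (a * b) * t⁻¹ = (a * b)⁻¹ → t = a) :
    (∀ t, t * t = 1 → a⁻¹ * t ∈ Q → ∃ q ∈ Q, q * a * q⁻¹ = t) ∧
      Nat.card ↥(Q ⊓ centralizer ({a} : Set G)) ^ 2 = Nat.card ↥Q := by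
  classical
  have hai : a⁻¹ = a := inv_eq_of_mul_eq_one_right ha
  have hbi : b⁻¹ = b := inv_eq_of_mul_eq_one_right hb
  have hconjI : ∀ (c p t : G), p ∈ Q → t ∈ Inv Q c → p * t * p⁻¹ ∈ Inv Q c := by
    rintro c p t hp ⟨h1, h2⟩
    refine ⟨?_, ?_⟩
    · calc p * t * p⁻¹ * (p * t * p⁻¹) = p * (t * t) * p⁻¹ := by group
        _ = 1 := by rw [h1]; group
    · have e : c⁻¹ * (p * t * p⁻¹) = (c⁻¹ * p * c) * (c⁻¹ * t) * p⁻¹ := by group
      rw [e]
      refine mul_mem (mul_mem ?_ h2) (inv_mem hp)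
      have := hQn.conj_mem p hp c⁻¹
      rwa [inv_inv] at this
  -- the bijection
  have hwd : ∀ t ∈ Inv Q a, ∀ s ∈ Inv Q b, (a * b)⁻¹ * (t * s) ∈ Q := by
    rintro t ⟨-, ht⟩ s ⟨-, hs⟩
    have e : (a * b)⁻¹ * (t * s) = (b⁻¹ * (a⁻¹ * t) * b) * (b⁻¹ * s) := by group
    rw [e]
    refine mul_mem ?_ hs
    have := hQn.conj_mem _ ht b⁻¹
    rwa [inv_inv] at this
  have hone : ∀ t ∈ Inv Q a, ∀ s ∈ Inv Q b, t * s = a * b → t = a ∧ s = b := by
    rintro t ⟨ht, ht'⟩ s ⟨hs, hs'⟩ h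
    have hti : t⁻¹ = t := inv_eq_of_mul_eq_one_right ht
    have hsi : s⁻¹ = s := inv_eq_of_mul_eq_one_right hs
    have h1 : t = a := by
      apply hinv t ht ht'
      rw [← h]
      calc t * (t * s) * t⁻¹ = (t * t) * s * t⁻¹ := by group
        _ = s⁻¹ * t⁻¹ := by rw [ht, hsi]; group
        _ = _ := by group
    refine ⟨h1, ?_⟩
    rw [h1] at h
    exact mul_left_cancel h
  let F : Inv Q a × Inv Q b → Q := fun z => ⟨(a * b)⁻¹ * (z.1 * z.2), hwd _ z.1.2 _ z.2.2⟩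
  have hF : Function.Bijective F := by
    constructor
    · rintro ⟨⟨t, ht⟩, ⟨s, hs⟩⟩ ⟨⟨t', ht'⟩, ⟨s', hs'⟩⟩ h
      have h1 : (a * b)⁻¹ * (t * s) = (a * b)⁻¹ * (t' * s') := congrArg Subtype.val h
      have h2 : t * s = t' * s' := mul_left_cancel h1
      obtain ⟨p, hp, hpy⟩ := exists_conj Q hx (hwd t ht s hs)
      have key : ∀ t s, t ∈ Inv Q a → s ∈ Inv Q b → p * (a * b) * p⁻¹ = t * s →
          t = p * a * p⁻¹ ∧ s = p * b * p⁻¹ := by
        intro t s ht hs h3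
        have h4 := hconjI a p⁻¹ t (inv_mem hp) ht
        have h5 := hconjI b p⁻¹ s (inv_mem hp) hs
        have h6 : p⁻¹ * t * p⁻¹⁻¹ * (p⁻¹ * s * p⁻¹⁻¹) = a * b := by
          calc p⁻¹ * t * p⁻¹⁻¹ * (p⁻¹ * s * p⁻¹⁻¹) = p⁻¹ * (t * s) * p := by group
            _ = p⁻¹ * (p * (a * b) * p⁻¹) * p := by rw [h3]
            _ = a * b := by group
        obtain ⟨h7, h8⟩ := hone _ h4 _ h5 h6
        constructor
        · rw [← h7]; group
        · rw [← h8]; group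
      obtain ⟨e1, e2⟩ := key t s ht hs hpy
      obtain ⟨e3, e4⟩ := key t' s' ht' hs' (hpy.trans h2)
      simp only [Prod.mk.injEq, Subtype.mk.injEq]
      exact ⟨e1.trans e3.symm, e2.trans e4.symm⟩
    · rintro ⟨q, hq⟩
      obtain ⟨p, hp, hpy⟩ := exists_conj Q hx (y := (a * b) * q) (by
        rw [inv_mul_cancel_left]
        exact hq)
      have haI : a ∈ Inv Q a := ⟨ha, by simp⟩
      have hbI : b ∈ Inv Q b := ⟨hb, by simp⟩
      refine ⟨⟨⟨p * a * p⁻¹, hconjI a p a hp haI⟩, ⟨p * b * p⁻¹, hconjI b p b hp hbI⟩⟩, ?_⟩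
      apply Subtype.ext
      change (a * b)⁻¹ * (p * a * p⁻¹ * (p * b * p⁻¹)) = q
      have e : p * a * p⁻¹ * (p * b * p⁻¹) = p * (a * b) * p⁻¹ := by group
      rw [e, hpy]
      group
  have hcard : Nat.card (Inv Q a) * Nat.card (Inv Q b) = Nat.card Q := by
    rw [← Nat.card_prod]
    exact Nat.card_congr (Equiv.ofBijective F hF)
  have hcab : Nat.card (Inv Q a) = Nat.card (Inv Q b) := by
    refine Nat.card_congr ⟨fun t => ⟨g * t * g⁻¹, ?_⟩, fun t => ⟨g⁻¹ * t * g, ?_⟩, ?_, ?_⟩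
    · obtain ⟨t, ht, ht'⟩ := t
      refine ⟨?_, ?_⟩
      · change g * t * g⁻¹ * (g * t * g⁻¹) = 1
        calc g * t * g⁻¹ * (g * t * g⁻¹) = g * (t * t) * g⁻¹ := by group
          _ = 1 := by rw [ht]; group
      · change b⁻¹ * (g * t * g⁻¹) ∈ Q
        have e : b⁻¹ * (g * t * g⁻¹) = g * (a⁻¹ * t) * g⁻¹ := by rw [← hg]; group
        rw [e]
        exact hQn.conj_mem _ ht' g
    · obtain ⟨t, ht, ht'⟩ := t
      refine ⟨?_, ?_⟩
      · change g⁻¹ * t * g * (g⁻¹ * t * g) = 1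
        calc g⁻¹ * t * g * (g⁻¹ * t * g) = g⁻¹ * (t * t) * g := by group
          _ = 1 := by rw [ht]; group
      · change a⁻¹ * (g⁻¹ * t * g) ∈ Q
        have e : a⁻¹ * (g⁻¹ * t * g) = g⁻¹ * (b⁻¹ * t) * g⁻¹⁻¹ := by rw [← hg]; group
        rw [e]
        exact hQn.conj_mem _ ht' g⁻¹
    · intro t
      apply Subtype.ext
      change g⁻¹ * (g * t * g⁻¹) * g = t
      group
    · intro t
      apply Subtype.ext
      change g * (g⁻¹ * t * g) * g⁻¹ = t
      group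
  rw [← hcab] at hcard
  -- centralizers
  set C : Subgroup G := Q ⊓ centralizer ({a} : Set G) with hC
  have hmemC : ∀ z, z ∈ C ↔ z ∈ Q ∧ a * z = z * a := by
    intro z
    rw [hC, Subgroup.mem_inf, Subgroup.mem_centralizer_singleton_iff]
    constructor
    · rintro ⟨h1, h2⟩
      exact ⟨h1, h2.symm⟩
    · rintro ⟨h1, h2⟩
      exact ⟨h1, h2.symm⟩
  have hCle : Nat.card C * Nat.card C ≤ Nat.card Q := by
    rw [← Nat.card_prod]
    refine Nat.card_le_card_of_injective (fun z : C × C => (⟨z.1 * (g * z.2 * g⁻¹),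
      mul_mem ((hmemC _).1 z.1.2).1 (hQn.conj_mem _ ((hmemC _).1 z.2.2).1 g)⟩ : Q)) ?_
    rintro ⟨⟨c, hc⟩, ⟨d, hd⟩⟩ ⟨⟨c', hc'⟩, ⟨d', hd'⟩⟩ h
    have h1 : c * (g * d * g⁻¹) = c' * (g * d' * g⁻¹) := congrArg Subtype.val h
    rw [hmemC] at hc hc' hd hd'
    have h2 : c'⁻¹ * c = g * (d' * d⁻¹) * g⁻¹ := by
      calc c'⁻¹ * c = c'⁻¹ * (c * (g * d * g⁻¹)) * (g * d⁻¹ * g⁻¹) := by group
        _ = c'⁻¹ * (c' * (g * d' * g⁻¹)) * (g * d⁻¹ * g⁻¹) := by rw [h1]
        _ = _ := by group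
    have h3 : Commute a (c'⁻¹ * c) :=
      (show Commute a c' from hc'.2).inv_right.mul_right (show Commute a c from hc.2)
    have h4 : Commute b (c'⁻¹ * c) := by
      rw [h2, ← hg]
      have h5 : Commute a (d' * d⁻¹) :=
        (show Commute a d' from hd'.2).mul_right (show Commute a d from hd.2).inv_right
      change g * a * g⁻¹ * (g * (d' * d⁻¹) * g⁻¹) = g * (d' * d⁻¹) * g⁻¹ * (g * a * g⁻¹)
      calc g * a * g⁻¹ * (g * (d' * d⁻¹) * g⁻¹) = g * (a * (d' * d⁻¹)) * g⁻¹ := by group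
        _ = g * ((d' * d⁻¹) * a) * g⁻¹ := by rw [h5.eq]
        _ = _ := by group
    have h6 := hx _ (mul_mem (inv_mem hc'.1) hc.1) (h3.mul_left h4).symm.eq
    rw [inv_mul_eq_one] at h6
    have h7 : d = d' := by
      rw [← h6] at h1
      have := mul_left_cancel h1
      simpa using this
    simp [h6, h7]
  -- the orbit
  let C' : Subgroup Q := C.subgroupOf Q
  have hcC' : Nat.card C' = Nat.card C :=
    Nat.card_congr (Subgroup.subgroupOfEquivOfLe (show C ≤ Q from inf_le_left)).toEquiv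
  have haI : a ∈ Inv Q a := ⟨ha, by simp⟩
  let f : Q ⧸ C' → Inv Q a := Quotient.lift (fun q : Q => (⟨q * a * (q : G)⁻¹, hconjI a q a q.2 haI⟩ : Inv Q a)) (by
    intro q q' h
    have h1 : q⁻¹ * q' ∈ C' := QuotientGroup.leftRel_apply.1 h
    have h2 : a * ((q : G)⁻¹ * q') = (q : G)⁻¹ * q' * a := ((hmemC _).1 h1).2
    apply Subtype.ext
    change (q : G) * a * (q : G)⁻¹ = q' * a * (q' : G)⁻¹
    calc (q : G) * a * (q : G)⁻¹ = q * (a * ((q : G)⁻¹ * q')) * (q' : G)⁻¹ := by group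
      _ = q * ((q : G)⁻¹ * q' * a) * (q' : G)⁻¹ := by rw [h2]
      _ = _ := by group)
  have hf : Function.Injective f := by
    intro q q'
    refine Quotient.inductionOn₂ q q' ?_
    intro q q' h
    have h1 : (q : G) * a * (q : G)⁻¹ = q' * a * (q' : G)⁻¹ := congrArg Subtype.val h
    apply Quotient.sound
    change QuotientGroup.leftRel C' q q'
    rw [QuotientGroup.leftRel_apply]
    change (q : G)⁻¹ * q' ∈ C
    rw [hmemC]
    refine ⟨mul_mem (inv_mem q.2) q'.2, ?_⟩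
    calc a * ((q : G)⁻¹ * q') = (q : G)⁻¹ * (q * a * (q : G)⁻¹) * q' := by group
      _ = (q : G)⁻¹ * (q' * a * (q' : G)⁻¹) * q' := by rw [h1]
      _ = _ := by group
  have hidx : Nat.card (Q ⧸ C') ≤ Nat.card (Inv Q a) := Nat.card_le_card_of_injective f hf
  have hQC : Nat.card Q = Nat.card (Q ⧸ C') * Nat.card C := by
    rw [← hcC']
    exact Subgroup.card_eq_card_quotient_mul_card_subgroup C'
  have hIpos : 0 < Nat.card (Inv Q a) := by
    haveI : Nonempty (Inv Q a) := ⟨⟨a, haI⟩⟩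
    exact Nat.card_pos
  have hCpos : 0 < Nat.card C := Nat.card_pos
  have h1 : Nat.card C ≤ Nat.card (Inv Q a) := by
    rw [← hcard] at hCle
    exact Nat.mul_self_le_mul_self_iff.1 hCle
  have h2 : Nat.card (Inv Q a) ≤ Nat.card C := by
    have : Nat.card (Inv Q a) * Nat.card (Inv Q a) ≤ Nat.card (Inv Q a) * Nat.card C := by
      rw [hcard, hQC]
      exact Nat.mul_le_mul_right _ hidx
    exact Nat.le_of_mul_le_mul_left this hIpos
  have h3 : Nat.card C = Nat.card (Inv Q a) := le_antisymm h1 h2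
  refine ⟨?_, ?_⟩
  · have h4 : Nat.card (Q ⧸ C') = Nat.card (Inv Q a) := by
      have : Nat.card (Q ⧸ C') * Nat.card C = Nat.card (Inv Q a) * Nat.card C := by
        rw [← hQC, ← hcard, h3]
      exact Nat.eq_of_mul_eq_mul_right hCpos this
    haveI : Finite (Inv Q a) := inferInstance
    have hfb : Function.Bijective f := (Nat.bijective_iff_injective_and_card f).2 ⟨hf, h4⟩
    intro t ht ht'
    obtain ⟨q, hq⟩ := hfb.2 ⟨t, ht, ht'⟩
    obtain ⟨q, rfl⟩ := QuotientGroup.mk_surjective q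
    exact ⟨q, q.2, congrArg Subtype.val hq⟩
  · rw [pow_two, h3, hcard]

end Cfsg.Agent.H48.DTC
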