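import Mathlib
import Cfsg.Prelude.Def_Transfer
import Cfsg.Agent.H48.Basic

set_option autoImplicit false

namespace Cfsg.Agent.H48

variable {E : Type*} [Group E]

/-- For a group of class at most two, commutation with `x` is a homomorphism. -/
def commHom (hc : ∀ a b : E, a * b * a⁻¹ * b⁻¹ ∈ Subgroup.center E) (x : E) : E →* E where
  toFun y := y * x * y⁻¹ * x⁻¹
  map_one' := by group
  map_mul' a b := by
    have h1 := Subgroup.mem_center_iff.mp (hc b x) a
    calc (a * b) * x * (a * b)⁻¹ * x⁻¹ = (a * (b * x * b⁻¹ * x⁻¹)) * x * a⁻¹ * x⁻¹ := by group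
      _ = ((b * x * b⁻¹ * x⁻¹) * a) * x * a⁻¹ * x⁻¹ := by rw [h1]
      _ = (b * x * b⁻¹ * x⁻¹) * (a * x * a⁻¹ * x⁻¹) := by group
      _ = (a * x * a⁻¹ * x⁻¹) * (b * x * b⁻¹ * x⁻¹) := by
        exact (Subgroup.mem_center_iff.mp (hc b x) _).symm

theorem commHom_apply (hc : ∀ a b : E, a * b * a⁻¹ * b⁻¹ ∈ Subgroup.center E) (x y : E) :
    commHom hc x y = y * x * y⁻¹ * x⁻¹ := rfl

theorem commHom_eq_one_iff (hc : ∀ a b : E, a * b * a⁻¹ * b⁻¹ ∈ Subgroup.center E) (x y : E) :
    commHom hc x y = 1 ↔ y * x = x * y := by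
  rw [commHom_apply]
  constructor
  · intro h
    calc y * x = (y * x * y⁻¹ * x⁻¹) * (x * y) := by group
      _ = x * y := by rw [h, one_mul]
  · intro h
    rw [h]; group

variable [Finite E]

omit [Finite E] in
open Classical in
theorem mul_card_commuting {p : ℕ} [Fact p.Prime] (hZ : Nat.card (Subgroup.center E) = p)
    (hc : ∀ a b : E, a * b * a⁻¹ * b⁻¹ ∈ Subgroup.center E) (D : Subgroup E) (x : E) :
    p * Nat.card {d : D // (d : E) * x = x * d} =
      Nat.card D + (p - 1) * (if x ∈ Subgroup.centralizer (D : Set E) then Nat.card D else 0) := by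
  classical
  let f : D →* E := (commHom hc x).comp D.subtype
  have hker : Nat.card f.ker = Nat.card {d : D // (d : E) * x = x * d} := by
    apply Nat.card_congr
    refine Equiv.subtypeEquivRight ?_
    intro d
    rw [MonoidHom.mem_ker]
    exact commHom_eq_one_iff hc x d
  have hidx := Subgroup.index_ker f
  have hmul := f.ker.card_mul_index
  have hrle : f.range ≤ Subgroup.center E := by
    rintro _ ⟨y, rfl⟩
    exact hc y x
  have hrd : Nat.card f.range ∣ p := by
    rw [← hZ]; exact Subgroup.card_dvd_of_le hrle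
  have hp := (Fact.out : p.Prime)
  rw [← hker]
  split_ifs with hx
  · have h1 : f.range = ⊥ := by
      rw [eq_bot_iff]
      rintro _ ⟨y, rfl⟩
      rw [Subgroup.mem_bot]
      exact (commHom_eq_one_iff hc x y).mpr (Subgroup.mem_centralizer_iff.mp hx y y.2)
    rw [h1, Subgroup.card_bot] at hidx
    rw [hidx, mul_one] at hmul
    rw [hmul]
    obtain ⟨k, hk⟩ : ∃ k, p = k + 1 := ⟨p - 1, by have := hp.pos; omega⟩
    rw [hk]; simp; ring
  · have h1 : Nat.card f.range = p := by
      rcases (Nat.dvd_prime hp).mp hrd with h | h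
      · exfalso
        apply hx
        rw [Subgroup.mem_centralizer_iff]
        intro d hd
        have h2 := Subgroup.card_eq_one.mp h
        have h3 : f ⟨d, hd⟩ ∈ f.range := ⟨_, rfl⟩
        rw [h2, Subgroup.mem_bot] at h3
        exact (commHom_eq_one_iff hc x d).mp h3
      · exact h
    rw [hidx, h1] at hmul
    rw [mul_zero, add_zero, mul_comm]
    exact hmul

/-- Duality count in an extraspecial-like group: `|A| |C_E(A)| = |E| |A ∩ Z(E)|`. -/
theorem card_mul_card_centralizer {p : ℕ} [Fact p.Prime] (hZ : Nat.card (Subgroup.center E) = p)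
    (hc : ∀ a b : E, a * b * a⁻¹ * b⁻¹ ∈ Subgroup.center E) (A : Subgroup E) :
    Nat.card A * Nat.card (Subgroup.centralizer (A : Set E)) =
      Nat.card E * Nat.card ↥(A ⊓ Subgroup.center E) := by
  classical
  have := Fintype.ofFinite E
  have hp := (Fact.out : p.Prime)
  -- double counting
  have h1 : ∀ x : E, p * (Finset.univ.filter (fun a : A => (a : E) * x = x * a)).card =
      Nat.card A + (p - 1) * (if x ∈ Subgroup.centralizer (A : Set E) then Nat.card A else 0) := by
    intro x
    rw [← mul_card_commuting hZ hc A x, Nat.card_eq_fintype_card, Fintype.card_subtype]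
  have h2 : ∀ a : A, p * (Finset.univ.filter (fun x : E => (a : E) * x = x * a)).card =
      Nat.card E + (p - 1) * (if (a : E) ∈ Subgroup.center E then Nat.card E else 0) := by
    intro a
    have h3 := mul_card_commuting hZ hc (⊤ : Subgroup E) (a : E)
    have h4 : Nat.card {d : (⊤ : Subgroup E) // (d : E) * a = a * d} =
        (Finset.univ.filter (fun x : E => (a : E) * x = x * a)).card := by
      rw [← Fintype.card_subtype, ← Nat.card_eq_fintype_card]
      apply Nat.card_congr
      exact {
        toFun := fun d => ⟨d.1.1, d.2.symm⟩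
        invFun := fun d => ⟨⟨d.1, Subgroup.mem_top _⟩, d.2.symm⟩
        left_inv := fun _ => rfl
        right_inv := fun _ => rfl }
    rw [h4] at h3
    rw [h3, Subgroup.card_top]
    simp only [Subgroup.coe_top, Subgroup.centralizer_univ]
  have hswap : ∑ x : E, (Finset.univ.filter (fun a : A => (a : E) * x = x * a)).card =
      ∑ a : A, (Finset.univ.filter (fun x : E => (a : E) * x = x * a)).card := by
    simp only [Finset.card_filter]
    exact Finset.sum_comm
  have hsum : ∑ x : E, p * (Finset.univ.filter (fun a : A => (a : E) * x = x * a)).card =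
      ∑ a : A, p * (Finset.univ.filter (fun x : E => (a : E) * x = x * a)).card := by
    rw [← Finset.mul_sum, ← Finset.mul_sum, hswap]
  simp only [h1, h2] at hsum
  rw [Finset.sum_add_distrib, Finset.sum_add_distrib, ← Finset.mul_sum, ← Finset.mul_sum] at hsum
  simp only [Finset.sum_const, Finset.card_univ, smul_eq_mul] at hsum
  rw [← Finset.sum_filter, ← Finset.sum_filter, Finset.sum_const, Finset.sum_const, smul_eq_mul,
    smul_eq_mul, ← Nat.card_eq_fintype_card, ← Nat.card_eq_fintype_card, mul_comm (Nat.card A) (Nat.card E)] at hsum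
  have h5 := Nat.add_left_cancel hsum
  have h6 := Nat.eq_of_mul_eq_mul_left (by have := hp.two_le; omega) h5
  have h7 : (Finset.univ.filter (fun x : E => x ∈ Subgroup.centralizer (A : Set E))).card =
      Nat.card (Subgroup.centralizer (A : Set E)) := by
    rw [Nat.card_eq_fintype_card, ← Fintype.card_subtype]
  have h8 : (Finset.univ.filter (fun a : A => (a : E) ∈ Subgroup.center E)).card =
      Nat.card ↥(A ⊓ Subgroup.center E) := by
    rw [← Fintype.card_subtype, ← Nat.card_eq_fintype_card]
    apply Nat.card_congr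
    exact {
      toFun := fun d => ⟨d.1.1, d.1.2, d.2⟩
      invFun := fun d => ⟨⟨d.1, d.2.1⟩, d.2.2⟩
      left_inv := fun _ => rfl
      right_inv := fun _ => rfl }
  rw [h7, h8] at h6
  rw [mul_comm (Nat.card A), h6, mul_comm]

/-- Commutators are central in an extraspecial group. -/
theorem comm_mem_center_of_isExtraspecial {p : ℕ} {E : Type*} [Group E] (hE : Cfsg.IsExtraspecial p E) :
    ∀ a b : E, a * b * a⁻¹ * b⁻¹ ∈ Subgroup.center E := by
  intro a b
  rw [← hE.1.2.2]
  exact Subgroup.commutator_mem_commutator (Subgroup.mem_top a) (Subgroup.mem_top b)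

/-- `p`-th powers are central in a group of class two whose centre has order `p`. -/
theorem pow_mem_center {p : ℕ} {E : Type*} [Group E] (hZ : Nat.card (Subgroup.center E) = p)
    (hc : ∀ a b : E, a * b * a⁻¹ * b⁻¹ ∈ Subgroup.center E) (x : E) : x ^ p ∈ Subgroup.center E := by
  rw [Subgroup.mem_center_iff]
  intro g
  have h1 : commHom hc g (x ^ p) = 1 := by
    rw [map_pow, commHom_apply]
    have h2 : (⟨x * g * x⁻¹ * g⁻¹, hc x g⟩ : Subgroup.center E) ^ p = 1 := by
      rw [← hZ]; exact pow_card_eq_one'
    exact congrArg Subtype.val h2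
  exact ((commHom_eq_one_iff hc g (x ^ p)).mp h1).symm

end Cfsg.Agent.H48
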