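import Mathlib
import Cfsg.Agent.H48.KProd
import Cfsg.Agent.H63.Comm

set_option autoImplicit false
open Subgroup Cfsg.Agent.H47
open scoped commutatorElement

namespace Cfsg.Agent.H48

variable {G : Type*} [Group G] {p : ℕ}

/-- strong `p`-irreducibility inside the ambient group -/
def SIrr (p : ℕ) (E : Subgroup G) : Prop :=
  ¬ Cfsg.IsPClosed p E ∧ ∀ N ≤ E, E ≤ normalizer (N : Set G) → ¬ ⁅N, E⁆ ≤ pCoreOf p E → pRes p E ≤ N

theorem sIrr_of {E : Subgroup G} (h : Cfsg.IsStronglyPIrreducible p ↥E) : SIrr p E := by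
  refine ⟨h.1, fun N hN hn hc => ?_⟩
  have h1 := h.2 (N.subgroupOf E) (normal_subgroupOf_of_le hn) (by
    intro h2
    apply hc
    have h3 := Subgroup.map_mono (f := E.subtype) h2
    rwa [Subgroup.map_commutator, map_subgroupOf_eq_of_le hN, ← MonoidHom.range_eq_map,
      Subgroup.range_subtype] at h3)
  have h3 := Subgroup.map_mono (f := E.subtype) h1
  rwa [map_subgroupOf_eq_of_le hN] at h3

theorem commutator_le_of_sup {O X Y Z : Subgroup G} [O.Normal] (h1 : ⁅X, Z⁆ ≤ O) (h2 : ⁅Y, Z⁆ ≤ O) :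
    ⁅X ⊔ Y, Z⁆ ≤ O := by
  rw [commutator_comm] at h1 h2 ⊢
  exact commutator_le_of_le_cmod (sup_le (le_cmod_iff.2 ⟨le_normalizer_of_normal, h1⟩)
    (le_cmod_iff.2 ⟨le_normalizer_of_normal, h2⟩))

theorem comm_identity {Q : Type*} [Group Q] {A S B U : Q} (h1 : Commute A B) (h3 : Commute A (S * U * S⁻¹))
    (h4 : Commute B S) (h5 : Commute B (S * U * S⁻¹ * U⁻¹)) : ⁅A * S, B * U⁆ = ⁅S, U⁆ := by
  rw [commutatorElement_def, commutatorElement_def]
  calc A * S * (B * U) * (A * S)⁻¹ * (B * U)⁻¹ = A * (S * B) * U * S⁻¹ * A⁻¹ * U⁻¹ * B⁻¹ := by group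
    _ = (A * B) * S * U * S⁻¹ * A⁻¹ * U⁻¹ * B⁻¹ := by rw [← h4.eq]; group
    _ = B * (A * (S * U * S⁻¹)) * A⁻¹ * U⁻¹ * B⁻¹ := by rw [h1.eq]; group
    _ = (B * (S * U * S⁻¹ * U⁻¹)) * B⁻¹ := by rw [h3.eq]; group
    _ = _ := by rw [h5.eq]; group

theorem commute_mk_iff {O : Subgroup G} [O.Normal] {x y : G} :
    Commute (x : G ⧸ O) (y : G ⧸ O) ↔ ⁅x, y⁆ ∈ O := by
  rw [← commutatorElement_eq_one_iff_commute, ← QuotientGroup.eq_one_iff]
  exact Iff.rfl

section fin
variable [Finite G] [Fact p.Prime]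

theorem isPClosed_of_class_two {E : Subgroup G} (h : ⁅⁅E, E⁆, E⁆ ≤ pCoreOf p E) :
    Cfsg.IsPClosed p E := by
  obtain ⟨T, hT⟩ := SylIn.exists p E
  rw [isPClosed_iff_syl_normal hT]
  have hPT := pCoreOf_le_sylIn hT
  have hEE : ⁅E, E⁆ ≤ E := commutator_le_self E
  have h1 : ⁅E, E⁆ ≤ normalizer (T : Set G) := by
    rw [le_normalizer_iff_commutator_le_right]
    exact ((commutator_mono le_rfl hT.le).trans h).trans hPT
  have hEn : E ≤ normalizer ((T ⊔ ⁅E, E⁆ : Subgroup G) : Set G) := by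
    rw [le_normalizer_iff_commutator_le_right]
    exact (commutator_mono le_rfl (sup_le hT.le hEE)).trans le_sup_right
  have h2 : T ≤ pCoreOf p (T ⊔ ⁅E, E⁆) :=
    le_pCoreOf le_sup_left (sup_le Subgroup.le_normalizer h1) hT.isPGroup
  have h3 : pCoreOf p (T ⊔ ⁅E, E⁆) = T :=
    hT.eq_of_le ((pCoreOf_le _ _).trans (sup_le hT.le hEE)) (pCoreOf_isPGroup _ _) h2
  rw [← h3]
  exact le_normalizer_pCoreOf_of_le hEn

theorem SIrr.pRes_le_commutator {E : Subgroup G} (h : SIrr p E) : pRes p E ≤ ⁅E, E⁆ :=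
  h.2 _ (commutator_le_self E) (le_normalizer_commutator le_normalizer le_normalizer)
    fun h1 => h.1 (isPClosed_of_class_two h1)

theorem tsl {O E X : Subgroup G} [O.Normal] (hE : SIrr p E) (h : ⁅⁅X, E⁆, E⁆ ≤ O) :
    ⁅pRes p E, X⁆ ≤ O := by
  refine (commutator_mono hE.pRes_le_commutator le_rfl).trans ?_
  apply H63.three_subgroups_le _ h
  rwa [commutator_comm E X]

theorem pRes_sup_core_le {E O : Subgroup G} [O.Normal] : pRes p (E ⊔ O) ≤ pRes p E ⊔ O := by
  apply pRes_le_of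
  intro x hx
  apply pow_mem_of_sup' (N := pRes p E ⊔ O) (Q := E)
  · intro y hy
    obtain ⟨k, hk⟩ := pow_mem_pRes (p := p) hy
    exact ⟨k, mem_sup_left hk⟩
  · exact le_normalizer_sup (le_normalizer_pRes p E) le_normalizer_of_normal
  · exact (sup_le_sup_left (le_sup_right : O ≤ pRes p E ⊔ O) E) hx

namespace KSetup
variable {𝒦 : Set (Subgroup G)}

theorem conjL (E : Subgroup G) (g : G) : (E ⊔ pCore p G).map (MulAut.conj g).toMonoidHom =
      E.map (MulAut.conj g).toMonoidHom ⊔ pCore p G := by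
  rw [Subgroup.map_sup, norm_map_conj (le_normalizer_core ⊤ (mem_top g))]

theorem residual_eq (h : KSetup p 𝒦) {E K : Subgroup G} (hE : E ∈ 𝒦) (hK : K ∈ 𝒦)
    (hle : pRes p E ≤ K ⊔ pCore p G) : pRes p (E ⊔ pCore p G) = pRes p (K ⊔ pCore p G) := by
  have hOn : (pCore p G).Normal := pCore_normal p G
  have h1 : pRes p (E ⊔ pCore p G) ≤ pRes p (K ⊔ pCore p G) := by
    rw [← pRes_pRes]
    exact pRes_mono (pRes_sup_core_le.trans (sup_le hle le_sup_right))
  apply Subgroup.eq_of_le_of_card_ge h1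
  obtain ⟨g, hg⟩ := h.tr E hE K hK
  rw [hg, ← conjL, pRes_map_conj, card_map_conj]

theorem le_norm (h : KSetup p 𝒦) {E K : Subgroup G} (hE : E ∈ 𝒦) (hK : K ∈ 𝒦) :
    E ≤ normalizer ((K ⊔ pCore p G : Subgroup G) : Set G) :=
  ((le_sSup hE).trans le_sup_left).trans (h.norm K hK)

theorem dichotomy (h : KSetup p 𝒦) (hs : ∀ E ∈ 𝒦, SIrr p E) {E K : Subgroup G} (hE : E ∈ 𝒦)
    (hK : K ∈ 𝒦) : pRes p (E ⊔ pCore p G) = pRes p (K ⊔ pCore p G) ∨ ⁅E, K⁆ ≤ pCore p G := by
  have hOn : (pCore p G).Normal := pCore_normal p G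
  set O := pCore p G with hO
  have key : ∀ E K : Subgroup G, E ∈ 𝒦 → K ∈ 𝒦 → pRes p (E ⊔ O) = pRes p (K ⊔ O) ∨
      ⁅pRes p E, K⁆ ≤ O := by
    intro E K hE hK
    by_cases h1 : ⁅E ⊓ (K ⊔ O), E⁆ ≤ pCoreOf p E
    · right
      have h2 : ⁅E ⊓ (K ⊔ O), E⁆ ≤ O := h1.trans (h.core_le_core hE)
      apply tsl (hs E hE)
      have h3 : ⁅K, E⁆ ≤ (K ⊔ O) ⊓ (E ⊔ O) := le_inf
        ((le_normalizer_iff_commutator_le_left.1 ((le_sup_left.trans (sup_le_sup_right (le_sSup hE) O)).trans
          (h.norm K hK))).trans' (commutator_mono le_sup_left le_rfl))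
        ((le_normalizer_iff_commutator_le_right.1 (h.le_norm hK hE)).trans' (commutator_mono le_rfl le_sup_left))
      have h4 : (K ⊔ O) ⊓ (E ⊔ O) ≤ (K ⊔ O) ⊓ E ⊔ O := inf_sup_le le_sup_right
      refine (commutator_mono (h3.trans h4) le_rfl).trans (commutator_le_of_sup ?_ (commutator_le_left _ _))
      rwa [inf_comm]
    · left
      exact h.residual_eq hE hK (((hs E hE).2 _ inf_le_left
        (le_normalizer_inf Subgroup.le_normalizer (h.le_norm hE hK)) h1).trans inf_le_right)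
  rcases key E K hE hK with h1 | h1
  · exact Or.inl h1
  rcases key K E hK hE with h2 | h2
  · exact Or.inl h2.symm
  right
  obtain ⟨T⟩ : Nonempty (Sylow p G) := inferInstance
  have hT : SylIn p (T : Subgroup G) ⊤ := sylIn_top T
  have hOT : O ≤ T := core_le hT
  have hEK : ⁅E, K⁆ ≤ (T : Subgroup G) := by
    rw [commutator_le]
    intro e he k hk
    obtain ⟨a, ha, s, hs', rfl⟩ := mem_pRes_sup (h.sylIn_inf hT hE) he
    obtain ⟨b, hb, u, hu, rfl⟩ := mem_pRes_sup (h.sylIn_inf hT hK) hk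
    have hbK : b ∈ K := pRes_le p K hb
    have huK : u ∈ K := (mem_inf.1 hu).2
    have hsE : s ∈ E := (mem_inf.1 hs').2
    have hA : ∀ k ∈ K ⊔ O, ⁅a, k⁆ ∈ O := by
      intro k hk
      have h3 : ⁅pRes p E, K ⊔ O⁆ ≤ O := by
        rw [commutator_comm]
        exact commutator_le_of_sup (by rwa [commutator_comm]) (commutator_le_left _ _)
      exact h3 (commutator_mem_commutator ha hk)
    have hB : ∀ k ∈ E ⊔ O, ⁅b, k⁆ ∈ O := by
      intro k hk
      have h3 : ⁅pRes p K, E ⊔ O⁆ ≤ O := by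
        rw [commutator_comm]
        exact commutator_le_of_sup (by rwa [commutator_comm]) (commutator_le_left _ _)
      exact h3 (commutator_mem_commutator hb hk)
    have hsu : s * u * s⁻¹ ∈ K ⊔ O :=
      (mem_normalizer_iff.1 (h.le_norm hE hK hsE) u).1 (mem_sup_left huK)
    have hsu2 : s * u * s⁻¹ * u⁻¹ ∈ E ⊔ O := by
      have h4 := mul_mem (mem_sup_left hsE : s ∈ E ⊔ O)
        ((mem_normalizer_iff.1 (h.le_norm hK hE huK) s⁻¹).1 (mem_sup_left (inv_mem hsE)))
      convert h4 using 1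
      group
    have e1 : ((⁅a * s, b * u⁆ : G) : G ⧸ O) = ((⁅s, u⁆ : G) : G ⧸ O) := by
      have := comm_identity (Q := G ⧸ O) (A := (a : G ⧸ O)) (S := (s : G ⧸ O)) (B := (b : G ⧸ O))
        (U := (u : G ⧸ O)) (commute_mk_iff.2 (hA b (mem_sup_left hbK)))
        (commute_mk_iff.2 (hA _ hsu)) (commute_mk_iff.2 (hB s (mem_sup_left hsE)))
        (commute_mk_iff.2 (hB _ hsu2))
      exact this
    rw [QuotientGroup.eq] at e1
    have h5 : ⁅s, u⁆ ∈ (T : Subgroup G) := by
      rw [commutatorElement_def]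
      exact mul_mem (mul_mem (mul_mem (mem_inf.1 hs').1 (mem_inf.1 hu).1) (inv_mem (mem_inf.1 hs').1))
        (inv_mem (mem_inf.1 hu).1)
    have h6 := mul_mem h5 (inv_mem (hOT e1))
    convert h6 using 1
    group
  have h7 : ⁅E, K⁆ ≤ E ⊔ O := (commutator_mono le_sup_left le_rfl).trans
    (le_normalizer_iff_commutator_le_left.1 (h.le_norm hK hE))
  have h8 : ⁅E, K⁆ ⊔ O ≤ pCoreOf p (E ⊔ O) := by
    apply le_pCoreOf (sup_le h7 le_sup_right)
    · exact sup_le (le_normalizer_sup (normalizer_commutator_ge_left E K) (le_normalizer_core _))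
        (le_sup_right.trans Subgroup.le_normalizer)
    · exact T.2.to_le (sup_le hEK hOT)
  exact le_sup_left.trans (h8.trans (h.core_eq hE))

theorem pirr_aux (h : KSetup p 𝒦) (hs : ∀ E ∈ 𝒦, SIrr p E) {N : Subgroup G} (hN : N.Normal)
    (hON : pCore p G ≤ N) (hNc : ¬ Cfsg.IsPClosed p N) : pRes p (⊤ : Subgroup G) ≤ N := by
  have hOn : (pCore p G).Normal := pCore_normal p G
  set O := pCore p G with hO
  obtain ⟨T⟩ : Nonempty (Sylow p G) := inferInstance
  have hT : SylIn p (T : Subgroup G) ⊤ := sylIn_top T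
  have hOT : O ≤ T := core_le hT
  have hdec : ∀ E ∈ 𝒦, pRes p E ⊔ ((T : Subgroup G) ⊓ E) = E := fun E hE => (h.sylIn_inf hT hE).pRes_sup
  by_cases hcase : ∃ E ∈ 𝒦, ¬ ⁅N ⊓ E, E⁆ ≤ pCoreOf p E
  · obtain ⟨E, hE, hEc⟩ := hcase
    have h1 : pRes p E ≤ N := ((hs E hE).2 _ inf_le_right
      (le_normalizer_inf le_normalizer_of_normal Subgroup.le_normalizer) hEc).trans inf_le_left
    have h2 : ∀ K ∈ 𝒦, K ≤ (T : Subgroup G) ⊔ N := by
      intro K hK
      rw [← hdec K hK]
      refine sup_le ?_ (inf_le_left.trans le_sup_left)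
      obtain ⟨g, hg⟩ := h.tr E hE K hK
      rw [hg, pRes_map_conj]
      refine le_trans ?_ (le_sup_right : N ≤ _)
      rw [← norm_map_conj (normalizer_eq_top_iff.2 hN ▸ mem_top g : g ∈ normalizer (N : Set G))]
      exact map_conj_mono h1
    have h3 : (T : Subgroup G) ⊔ N = ⊤ := by
      rw [eq_top_iff, ← h.sup_syl hT]
      exact sup_le (sSup_le h2) le_sup_left
    have h4 : pRes p ((T : Subgroup G) ⊔ N) = pRes p N :=
      pRes_sup_of_isPGroup T.2 le_normalizer_of_normal
    rw [h3] at h4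
    rw [h4]
    exact pRes_le p N
  · exfalso
    have hcase' : ∀ E ∈ 𝒦, ⁅N ⊓ E, E⁆ ≤ O := by
      intro E hE
      by_contra h1
      exact hcase ⟨E, hE, fun h2 => h1 (h2.trans (h.core_le_core hE))⟩
    have hRn : (sSup 𝒦 ⊔ O).Normal := h.sup_normal
    set R := sSup 𝒦 with hR
    have hELe : ∀ E ∈ 𝒦, E ≤ R ⊔ O := fun E hE => (le_sSup hE).trans le_sup_left
    have hNE : ∀ E ∈ 𝒦, ⁅N ⊓ (E ⊔ O), E⁆ ≤ O := by
      intro E hE
      refine (commutator_mono (inf_sup_le hON) le_rfl).trans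
        (commutator_le_of_sup (hcase' E hE) (commutator_le_left _ _))
    -- step 1
    have hP₁ : (T : Subgroup G) ⊓ (N ⊓ (R ⊔ O)) ≤ O := by
      set P₁ := (T : Subgroup G) ⊓ (N ⊓ (R ⊔ O)) with hP₁
      have hOP : O ≤ P₁ := le_inf hOT (le_inf hON le_sup_right)
      have h1 : ∀ E ∈ 𝒦, E ≤ normalizer (P₁ : Set G) := by
        intro E hE
        have h2 : ⁅N ⊓ (R ⊔ O), E⁆ ≤ N ⊓ (E ⊔ O) := by
          refine le_inf ((commutator_mono inf_le_left le_rfl).trans (commutator_le_left _ _)) ?_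
          exact (commutator_mono inf_le_right le_sup_left).trans
            (le_normalizer_iff_commutator_le_right.1 (h.norm E hE))
        have h3 : ⁅pRes p E, N ⊓ (R ⊔ O)⁆ ≤ O :=
          tsl (hs E hE) ((commutator_mono h2 le_rfl).trans (hNE E hE))
        rw [← hdec E hE]
        apply sup_le
        · rw [le_normalizer_iff_commutator_le_right]
          exact ((commutator_mono le_rfl inf_le_right).trans h3).trans hOP
        · exact le_normalizer_inf (inf_le_left.trans Subgroup.le_normalizer)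
            (le_normalizer_inf le_normalizer_of_normal le_normalizer_of_normal)
      have h2 : R ⊔ O ≤ normalizer (P₁ : Set G) :=
        sup_le (sSup_le h1) (hOP.trans Subgroup.le_normalizer)
      exact le_pCore_of_isSubnormal (isSubnormal_of_le_normalizer hRn.isSubnormal
        (inf_le_right.trans inf_le_right) h2) (T.2.to_le inf_le_left)
    set P := (T : Subgroup G) ⊓ N with hP
    have hOP : O ≤ P := le_inf hOT hON
    have hTP : (T : Subgroup G) ≤ normalizer (P : Set G) :=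
      le_normalizer_inf Subgroup.le_normalizer le_normalizer_of_normal
    have hPT : ⁅P, (T : Subgroup G) ⊓ (R ⊔ O)⁆ ≤ O := by
      refine le_trans (le_inf ?_ (le_inf ?_ ?_)) hP₁
      · exact (commutator_mono inf_le_left inf_le_left).trans (commutator_le_self _)
      · exact (commutator_mono inf_le_right le_rfl).trans (commutator_le_left _ _)
      · exact (commutator_mono le_rfl inf_le_right).trans (commutator_le_right _ _)
    have hPTE : ∀ E ∈ 𝒦, ⁅P, (T : Subgroup G) ⊓ E⁆ ≤ O := fun E hE =>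
      (commutator_mono le_rfl (inf_le_inf_left _ (hELe E hE))).trans hPT
    -- step 3
    have hPA : ∀ E ∈ 𝒦, P ≤ normalizer (pRes p (E ⊔ O) : Set G) := by
      intro E hE x hx
      apply mem_normalizer_of_map_conj
      rw [← pRes_map_conj, conjL]
      set K := E.map (MulAut.conj x).toMonoidHom with hK
      have hKK : K ∈ 𝒦 := h.inv x E hE
      rcases h.dichotomy hs hKK hE with h1 | h1
      · exact h1
      · exfalso
        have hTK : (T : Subgroup G) ⊓ E ≤ K ⊔ O := by
          intro t ht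
          have h2 : ⁅x, t⁆ ∈ O := hPTE E hE (commutator_mem_commutator hx ht)
          have h3 : x * t * x⁻¹ ∈ K := ⟨t, (mem_inf.1 ht).2, rfl⟩
          have h4 := mul_mem (inv_mem (mem_sup_right h2 : ⁅x, t⁆ ∈ K ⊔ O)) (mem_sup_left h3)
          convert h4 using 1
          rw [commutatorElement_def]
          group
        have hS := h.sylIn_inf hT hE
        apply (hs E hE).1
        rw [isPClosed_iff_syl_normal hS, le_normalizer_iff_commutator_le_left]
        have h5 : ⁅(T : Subgroup G) ⊓ E, E⁆ ≤ O :=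
          (commutator_mono hTK le_rfl).trans (commutator_le_of_sup h1 (commutator_le_left _ _))
        exact le_inf (h5.trans hOT) ((commutator_mono inf_le_right le_rfl).trans (commutator_le_self E))
    -- step 4
    have hPE : ∀ E ∈ 𝒦, ⁅E, P⁆ ≤ O := by
      intro E hE
      have hAE : pRes p E ≤ pRes p (E ⊔ O) := pRes_mono le_sup_left
      have hAle : pRes p (E ⊔ O) ≤ E ⊔ O := pRes_le _ _
      have hWn : E ⊔ O ≤ normalizer ((N ⊓ (E ⊔ O) : Subgroup G) : Set G) :=
        le_normalizer_inf le_normalizer_of_normal Subgroup.le_normalizer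
      have h1 : ⁅P, E⁆ ≤ N ⊓ (E ⊔ O) := by
        apply commutator_le_of_le_cmod
        rw [← hdec E hE]
        apply sup_le
        · rw [hdec E hE]
          refine hAE.trans (le_cmod_iff.2 ⟨hAle.trans hWn, le_inf ?_ ?_⟩)
          · exact (commutator_mono inf_le_right le_rfl).trans (commutator_le_left _ _)
          · exact (le_normalizer_iff_commutator_le_right.1 (hPA E hE)).trans hAle
        · rw [hdec E hE]
          exact le_cmod_iff.2 ⟨(inf_le_right.trans le_sup_left).trans hWn,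
            (hPTE E hE).trans (le_inf hON le_sup_right)⟩
      have h2 : ⁅pRes p E, P⁆ ≤ O := tsl (hs E hE) ((commutator_mono h1 le_rfl).trans (hNE E hE))
      rw [← hdec E hE]
      refine commutator_le_of_sup h2 ?_
      rw [commutator_comm]
      exact hPTE E hE
    have hRP : R ≤ normalizer (P : Set G) := by
      refine sSup_le fun E hE => ?_
      rw [le_normalizer_iff_commutator_le_right]
      exact (hPE E hE).trans hOP
    have hPn : P.Normal := by
      rw [← normalizer_eq_top_iff, eq_top_iff, ← h.sup_syl hT]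
      exact sup_le hRP hTP
    have hPsyl : SylIn p P N := hT.inf_normal le_top (by rw [normalizer_eq_top_iff.2 hN])
    apply hNc
    rw [isPClosed_iff_syl_normal hPsyl]
    exact le_normalizer_of_normal

theorem pirr (h : KSetup p 𝒦) (hs : ∀ E ∈ 𝒦, SIrr p E) : Cfsg.IsPIrreducible p G := by
  rw [isPIrreducible_top_iff]
  constructor
  · intro h1
    obtain ⟨E, hE⟩ := h.ne
    exact (hs E hE).1 (isPClosed_mono h1 le_top)
  · intro N _ hN hNc
    have hNn : N.Normal := by rw [← normalizer_eq_top_iff, eq_top_iff]; exact hN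
    have hOn : (pCore p G).Normal := pCore_normal p G
    have h1 : (pCore p G ⊔ N).Normal := inferInstance
    have h2 := h.pirr_aux hs h1 le_sup_left (fun h3 => hNc (isPClosed_mono h3 le_sup_right))
    rw [← pRes_pRes]
    refine (pRes_mono h2).trans ?_
    rw [pRes_sup_of_isPGroup (pCore_isPGroup p G) le_normalizer_of_normal]
    exact pRes_le p N

end KSetup
end fin
end Cfsg.Agent.H48
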