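import Mathlib
import Cfsg.Agent.H47.Mini3
import Cfsg.Agent.H48.MSS
import Cfsg.Agent.H48.KProd2

/-!
The members of `𝔏_G(Y)`, seen as a group `Γ` with a subgroup `Y`.
-/

set_option autoImplicit false
open Cfsg Subgroup Cfsg.Agent.H47
open scoped commutatorElement

namespace Cfsg.Agent.H48

variable {Γ : Type*} [Group Γ] {p : ℕ}

structure FL (p : ℕ) (Y : Subgroup Γ) : Prop where
  el : IsElementaryAbelian p Y
  min : IsMinimalOver Y
  core : pCore p Γ = normalClosure ((pCore p Γ ⊓ Y : Subgroup Γ) : Set Γ)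
  norm : pCore p Γ ≤ normalizer (Y : Set Γ)
  char : centralizer (pCore p Γ : Set Γ) ≤ pCore p Γ
  proper : normalizer (Y : Set Γ) ≠ ⊤
  max : ∀ X : Subgroup Γ, Y ≤ X → X ≠ ⊤ → X ≤ normalizer (Y : Set Γ)

theorem isMinimalOver_map_conj {Y : Subgroup Γ} (h : IsMinimalOver Y) (a : Γ) :
    IsMinimalOver (Y.map (MulAut.conj a).toMonoidHom) := by
  obtain ⟨h1, M, ⟨hM, hYM⟩, huniq⟩ := h
  refine ⟨?_, M.map (MulAut.conj a).toMonoidHom, ⟨?_, map_mono hYM⟩, ?_⟩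
  · rw [eq_top_iff, ← h1]
    apply normalClosure_le_normal
    intro y hy
    have h2 : a * y * a⁻¹ ∈ normalClosure ((Y.map (MulAut.conj a).toMonoidHom : Subgroup Γ) : Set Γ) :=
      subset_normalClosure ⟨y, hy, rfl⟩
    have h3 := (normalClosure_normal (s := ((Y.map (MulAut.conj a).toMonoidHom : Subgroup Γ) : Set Γ))).conj_mem
      _ h2 a⁻¹
    have h4 : a⁻¹ * (a * y * a⁻¹) * a⁻¹⁻¹ = y := by group
    rwa [h4] at h3
  · exact ((MulAut.conj a).mapSubgroup.isCoatom_iff M).2 hM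
  · rintro M' ⟨hM', hYM'⟩
    have h2 : IsCoatom (M'.map (MulAut.conj a⁻¹).toMonoidHom) :=
      ((MulAut.conj a⁻¹).mapSubgroup.isCoatom_iff M').2 hM'
    have h3 : Y ≤ M'.map (MulAut.conj a⁻¹).toMonoidHom := map_conj_le_iff.1 hYM'
    have h4 := huniq _ ⟨h2, h3⟩
    rw [← h4, ← map_conj_mul, mul_inv_cancel, map_conj_one]

theorem pCore_map_conj (a : Γ) : (pCore p Γ).map (MulAut.conj a).toMonoidHom = pCore p Γ :=
  norm_map_conj (by
    have := pCore_normal p Γ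
    rw [normalizer_eq_top]; trivial)

theorem FL.conj {Y : Subgroup Γ} (f : FL p Y) (a : Γ) : FL p (Y.map (MulAut.conj a).toMonoidHom) := by
  have hY : Y.map (MulAut.conj a).toMonoidHom ≤ Y.map (MulAut.conj a).toMonoidHom := le_rfl
  refine ⟨?_, isMinimalOver_map_conj f.min a, ?_, ?_, f.char, ?_, ?_⟩
  · have h1 := isElementaryAbelian_iff.1 f.el
    rw [isElementaryAbelian_iff]
    refine ⟨?_, ?_⟩
    · rintro _ ⟨x, hx, rfl⟩ _ ⟨y, hy, rfl⟩
      rw [← map_mul, h1.1 x hx y hy, map_mul]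
    · rintro _ ⟨x, hx, rfl⟩
      rw [← map_pow, h1.2 x hx, map_one]
  · apply le_antisymm
    · conv_lhs => rw [f.core]
      apply normalClosure_le_normal
      intro y hy
      have h2 : a * y * a⁻¹ ∈ normalClosure ((pCore p Γ ⊓ Y.map (MulAut.conj a).toMonoidHom : Subgroup Γ) : Set Γ) := by
        apply subset_normalClosure
        have hn := pCore_normal p Γ
        exact ⟨hn.conj_mem _ hy.1 a, ⟨y, hy.2, rfl⟩⟩
      have h3 := (normalClosure_normal (s := ((pCore p Γ ⊓ Y.map (MulAut.conj a).toMonoidHom : Subgroup Γ) : Set Γ))).conj_mem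
        _ h2 a⁻¹
      have h4 : a⁻¹ * (a * y * a⁻¹) * a⁻¹⁻¹ = y := by group
      rwa [h4] at h3
    · have hn := pCore_normal p Γ
      exact normalClosure_le_normal inf_le_left
  · rw [normalizer_map_conj, ← pCore_map_conj a]
    exact map_mono f.norm
  · rw [normalizer_map_conj]
    intro h
    apply f.proper
    rw [eq_top_iff]
    intro x _
    have h2 : a * x * a⁻¹ ∈ (normalizer (Y : Set Γ)).map (MulAut.conj a).toMonoidHom := by rw [h]; trivial
    rw [mem_map_conj] at h2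
    have h4 : a⁻¹ * (a * x * a⁻¹) * a = x := by group
    rwa [h4] at h2
  · intro X hX hXt
    rw [normalizer_map_conj]
    have h1 := f.max (X.map (MulAut.conj a⁻¹).toMonoidHom) (map_conj_le_iff.1 hX) (by
      intro h
      apply hXt
      rw [eq_top_iff]
      intro x _
      have h2 : a⁻¹ * x * a ∈ X.map (MulAut.conj a⁻¹).toMonoidHom := by rw [h]; trivial
      rw [mem_map_conj] at h2
      have h4 : a⁻¹⁻¹ * (a⁻¹ * x * a) * a⁻¹ = x := by group
      rwa [h4] at h2)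
    intro x hx
    rw [mem_map_conj]
    apply h1
    rw [mem_map_conj]
    have h4 : a⁻¹⁻¹ * (a⁻¹ * x * a) * a⁻¹ = x := by group
    rwa [h4]

theorem inf_center_map_conj (Y : Subgroup Γ) (a : Γ) :
    Y.map (MulAut.conj a).toMonoidHom ⊓ center Γ = Y ⊓ center Γ := by
  have key : ∀ x ∈ center Γ, a⁻¹ * x * a = x := by
    intro x hx
    rw [mul_assoc, ← mem_center_iff.1 hx a]; group
  apply le_antisymm
  · intro x hx
    refine mem_inf.2 ⟨?_, hx.2⟩
    have := mem_map_conj.1 hx.1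
    rwa [key x hx.2] at this
  · intro x hx
    refine mem_inf.2 ⟨?_, hx.2⟩
    rw [mem_map_conj, key x hx.2]
    exact hx.1

instance normal_inf_center (Y : Subgroup Γ) : (Y ⊓ center Γ).Normal := by
  constructor
  intro x hx k
  have : k * x * k⁻¹ = x := by rw [mem_center_iff.1 hx.2 k]; group
  rw [this]; exact hx

theorem mem_iff_of_mem_center_right {K : Subgroup Γ} {x c : Γ} (h : c ∈ K) : x * c ∈ K ↔ x ∈ K :=
  ⟨fun h1 => by simpa using mul_mem h1 (inv_mem h), fun h1 => mul_mem h1 h⟩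

section fin
variable [Finite Γ] [Fact p.Prime]

namespace FL
variable {Y : Subgroup Γ} (f : FL p Y)
include f

theorem coatom : IsCoatom (normalizer (Y : Set Γ)) := by
  refine ⟨f.proper, fun X hX => ?_⟩
  by_contra hne
  exact absurd (f.max X (Subgroup.le_normalizer.trans hX.le) hne) (not_le_of_gt hX)

theorem abel : Y ≤ centralizer (Y : Set Γ) := IsElementaryAbelian.le_centralizer f.el

theorem pg : IsPGroup p Y := IsElementaryAbelian.isPGroup' f.el

theorem gen {g : Γ} (hg : g ∉ normalizer (Y : Set Γ)) : Y ⊔ Y.map (MulAut.conj g).toMonoidHom = ⊤ := by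
  obtain ⟨T, hT, hYT⟩ := SylIn.exists_of_le (p := p) (Subgroup.le_normalizer (H := Y)) f.pg
  exact (min_facts f.coatom hT hYT f.min).2.2.2.2.2 g hg

/-- the facts about `A = O_p(Γ)` -/
theorem facts {g : Γ} (hg : g ∉ normalizer (Y : Set Γ)) :
    ⁅pCore p Γ, pCore p Γ⁆ ≤ Y ⊓ center Γ ∧
      Y ⊓ Y.map (MulAut.conj g).toMonoidHom = Y ⊓ center Γ ∧
      Y ⊓ center Γ ≤ pCore p Γ ∧
      pCore p Γ = (pCore p Γ ⊓ Y) ⊔ (pCore p Γ ⊓ Y.map (MulAut.conj g).toMonoidHom) ∧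
      (∀ x ∈ pCore p Γ, ∃ u ∈ pCore p Γ ⊓ Y, ∃ w ∈ pCore p Γ ⊓ Y.map (MulAut.conj g).toMonoidHom, x = u * w) := by
  obtain ⟨h1, h2, h3, h4, h5, h6, h7⟩ := min_A_facts f.coatom Subgroup.le_normalizer f.el f.min f.norm f.core hg
  have hYg := f.conj g
  have hQn : (pCore p Γ).Normal := pCore_normal p Γ
  have c1 : ⁅pCore p Γ, Y⁆ ≤ pCore p Γ ⊓ Y := le_inf (commutator_le_left _ _)
    (le_normalizer_iff_commutator_le_right.1 f.norm)
  have c2 : ⁅pCore p Γ, Y.map (MulAut.conj g).toMonoidHom⁆ ≤ pCore p Γ ⊓ Y.map (MulAut.conj g).toMonoidHom :=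
    le_inf (commutator_le_left _ _) (le_normalizer_iff_commutator_le_right.1 hYg.norm)
  have key : ∀ X : Subgroup Γ, ∀ B : Subgroup Γ, B ≤ pCore p Γ → ⁅pCore p Γ, X⁆ ≤ B → X ≤ normalizer (B : Set Γ) := by
    intro X B hB hc
    rw [le_normalizer_iff]
    intro x hx b hb
    have e : x * b * x⁻¹ = ⁅b, x⁆⁻¹ * b := by rw [commutatorElement_def]; group
    rw [e]
    exact mul_mem (inv_mem (hc (commutator_mem_commutator (hB hb) hx))) hb
  have hB : pCore p Γ = (pCore p Γ ⊓ Y) ⊔ (pCore p Γ ⊓ Y.map (MulAut.conj g).toMonoidHom) := by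
    apply le_antisymm
    · conv_lhs => rw [f.core]
      have hn : ((pCore p Γ ⊓ Y) ⊔ (pCore p Γ ⊓ Y.map (MulAut.conj g).toMonoidHom)).Normal := by
        rw [← normalizer_eq_top_iff, eq_top_iff, ← f.gen hg]
        exact sup_le (key Y _ (sup_le inf_le_left inf_le_left) (c1.trans le_sup_left))
          (key _ _ (sup_le inf_le_left inf_le_left) (c2.trans le_sup_right))
      exact normalClosure_le_normal (le_sup_left : pCore p Γ ⊓ Y ≤ _)
    · exact sup_le inf_le_left inf_le_left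
  refine ⟨?_, h5, ?_, hB, ?_⟩
  · rw [h2]; exact h4
  · rw [← h7]; exact inf_le_left
  · intro x hx
    rw [hB] at hx
    have hUnW : pCore p Γ ⊓ Y ≤ normalizer ((pCore p Γ ⊓ Y.map (MulAut.conj g).toMonoidHom : Subgroup Γ) : Set Γ) :=
      le_normalizer_inf (inf_le_left.trans Subgroup.le_normalizer) (inf_le_left.trans hYg.norm)
    obtain ⟨u, hu, w, hw, rfl⟩ := (mem_sup_of_le_normalizer hUnW).1 hx
    exact ⟨u, hu, w, hw, rfl⟩

/-- `Y ∩ N(Y^g) ≤ O_p(Γ)` for `g ∉ N(Y)`. -/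
theorem inf_normalizer_le {g : Γ} (hg : g ∉ normalizer (Y : Set Γ)) :
    Y ⊓ normalizer ((Y.map (MulAut.conj g).toMonoidHom : Subgroup Γ) : Set Γ) ≤ pCore p Γ := by
  obtain ⟨h1, h2, h3, h4, h5⟩ := f.facts hg
  have hQn : (pCore p Γ).Normal := pCore_normal p Γ
  set Y' := Y.map (MulAut.conj g).toMonoidHom with hY'
  set C := Y ⊓ center Γ with hC
  intro x hx
  -- `x` centralizes `O_p(Γ)` modulo `C`
  have hxc : ∀ a ∈ pCore p Γ, Commute (x : Γ ⧸ C) (a : Γ ⧸ C) := by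
    intro a ha
    obtain ⟨u, hu, w, hw, rfl⟩ := h5 a ha
    rw [QuotientGroup.mk_mul]
    apply Commute.mul_right
    · have : Commute x u := (mem_centralizer_iff.1 (f.abel hu.2)) x hx.1
      exact this.map (QuotientGroup.mk' C)
    · rw [commute_mk_iff, ← h2]
      refine mem_inf.2 ⟨?_, ?_⟩
      · -- `[x, w] ∈ Y` as `O` normalizes `Y`
        have h6 := (mem_normalizer_iff.1 (f.norm hw.1) x⁻¹).1 (inv_mem hx.1)
        have : ⁅x, w⁆ = x * (w * x⁻¹ * w⁻¹) := by rw [commutatorElement_def]; group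
        rw [this]
        exact mul_mem hx.1 h6
      · have h6 := (mem_normalizer_iff.1 hx.2 w).1 hw.2
        rw [commutatorElement_def]
        exact mul_mem h6 (inv_mem hw.2)
  -- the kernel
  set K : Subgroup Γ := (centralizer ((pCore p Γ).map (QuotientGroup.mk' C) : Set (Γ ⧸ C))).comap
    (QuotientGroup.mk' C) with hK
  have hKmem : ∀ k, k ∈ K ↔ ∀ a ∈ pCore p Γ, Commute (k : Γ ⧸ C) (a : Γ ⧸ C) := by
    intro k
    rw [hK, mem_comap, mem_centralizer_iff]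
    constructor
    · intro h a ha
      exact (h _ ⟨a, ha, rfl⟩).symm
    · rintro h _ ⟨a, ha, rfl⟩
      exact (h a ha).eq.symm
  have hKn : K.Normal := by
    have : ((pCore p Γ).map (QuotientGroup.mk' C)).Normal :=
      hQn.map _ (QuotientGroup.mk'_surjective C)
    rw [hK]
    infer_instance
  have hxK : x ∈ K := (hKmem x).2 hxc
  by_cases hKY : K ⊔ Y = ⊤
  · exfalso
    -- `U = O ∩ Y` is normal
    have hUn : (pCore p Γ ⊓ Y).Normal := by
      rw [← normalizer_eq_top_iff, eq_top_iff, ← hKY]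
      apply sup_le
      · rw [le_normalizer_iff]
        intro k hk u hu
        have h6 := commute_mk_iff.1 ((hKmem k).1 hk u hu.1)
        have h7 : k * u * k⁻¹ = ⁅k, u⁆ * u := by rw [commutatorElement_def]; group
        rw [h7]
        exact mul_mem (mem_inf.2 ⟨h3 h6, h6.1⟩) hu
      · exact le_normalizer_inf (by rw [normalizer_eq_top]; exact le_top) Subgroup.le_normalizer
    have h6 : pCore p Γ ≤ pCore p Γ ⊓ Y := by
      conv_lhs => rw [f.core]
      exact normalClosure_le_normal le_rfl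
    have h7 : pCore p Γ ≤ center Γ := by
      intro a ha
      have h8 : a ∈ Y := (h6 ha).2
      have h9 : a ∈ Y' := by
        rw [hY', mem_map_conj]
        have := hQn.conj_mem a ha g⁻¹
        rw [inv_inv] at this
        exact (h6 this).2
      have : a ∈ Y ⊓ Y' := mem_inf.2 ⟨h8, h9⟩
      rw [h2] at this
      exact this.2
    have h8 : (⊤ : Subgroup Γ) ≤ pCore p Γ := by
      refine le_trans ?_ f.char
      intro y _
      rw [mem_centralizer_iff]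
      intro a ha
      exact (mem_center_iff.1 (h7 ha) y).symm
    apply f.proper
    rw [eq_top_iff]
    exact h8.trans f.norm
  · -- `K ≤ N(Y)`
    have h6 : K ≤ normalizer (Y : Set Γ) := le_sup_left.trans (f.max _ le_sup_right hKY)
    have h7 : K ⊓ Y ≤ pCoreOf p K :=
      le_pCoreOf inf_le_left (le_normalizer_inf Subgroup.le_normalizer h6) (f.pg.to_le inf_le_right)
    have h8 : pCoreOf p K ≤ pCoreOf p ⊤ :=
      pCoreOf_le_pCoreOf_of_normal le_top (by rw [normalizer_eq_top])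
    rw [pCoreOf_top] at h8
    exact h8 (h7 (mem_inf.2 ⟨hxK, hx.1⟩))

/-- `C_{O_p(Γ)/C}(x) = (O_p(Γ) ∩ Y)/C` for `x ∈ Y`, `x ∉ O_p(Γ)`. -/
theorem mem_of_commute {x a : Γ} (hx : x ∈ Y) (hxO : x ∉ pCore p Γ) (ha : a ∈ pCore p Γ)
    (hc : Commute (x : Γ ⧸ (Y ⊓ center Γ)) (a : Γ ⧸ (Y ⊓ center Γ))) : a ∈ Y := by
  obtain ⟨g, hg⟩ : ∃ g, g ∉ normalizer (Y : Set Γ) := by
    by_contra! h
    exact f.proper (eq_top_iff.2 fun g _ => h g)
  obtain ⟨h1, h2, h3, h4, h5⟩ := f.facts hg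
  obtain ⟨u, hu, w, hw, rfl⟩ := h5 a ha
  set Y' := Y.map (MulAut.conj g).toMonoidHom with hY'
  set C := Y ⊓ center Γ with hC
  have hCY' : C ≤ Y' := by rw [← h2]; exact inf_le_right
  have hxu : Commute (x : Γ ⧸ C) (u : Γ ⧸ C) := by
    have : Commute x u := (mem_centralizer_iff.1 (f.abel hu.2)) x hx
    exact this.map (QuotientGroup.mk' C)
  have hxw : Commute (x : Γ ⧸ C) (w : Γ ⧸ C) := by
    have h6 : (w : Γ ⧸ C) = (u : Γ ⧸ C)⁻¹ * ((u * w : Γ) : Γ ⧸ C) := by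
      rw [QuotientGroup.mk_mul]; group
    rw [h6]
    exact hxu.inv_right.mul_right hc
  -- the subgroup centralizing `w` modulo `C`
  set W : Subgroup Γ := (centralizer ({(w : Γ ⧸ C)} : Set (Γ ⧸ C))).comap (QuotientGroup.mk' C) with hW
  have hWmem : ∀ k, k ∈ W ↔ Commute (k : Γ ⧸ C) (w : Γ ⧸ C) := by
    intro k
    rw [hW, mem_comap, mem_centralizer_singleton_iff]
    exact Iff.rfl
  have hY'W : Y' ≤ W := by
    intro y hy
    rw [hWmem]
    have : Commute y w := (mem_centralizer_iff.1 ((f.conj g).abel hw.2)) y hy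
    exact this.map (QuotientGroup.mk' C)
  by_cases hWt : W = ⊤
  · have h6 : g ∈ W := by rw [hWt]; trivial
    have h7 := commute_mk_iff.1 ((hWmem g).1 h6)
    have h8 : g * w * g⁻¹ ∈ Y' := by
      have h9 : g * w * g⁻¹ = ⁅g, w⁆ * w := by rw [commutatorElement_def]; group
      rw [h9]
      exact mul_mem (hCY' h7) hw.2
    rw [hY', mem_map_conj] at h8
    have h9 : g⁻¹ * (g * w * g⁻¹) * g = w := by group
    rw [h9] at h8
    exact mul_mem hu.2 h8
  · exfalso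
    apply hxO
    apply f.inf_normalizer_le hg
    exact mem_inf.2 ⟨hx, (f.conj g).max W hY'W hWt ((hWmem x).2 hxw)⟩

end FL

/-- `h` acts without nontrivial fixed points on `O_p(Γ) / C`. -/
def Fixfree (p : ℕ) (Y : Subgroup Γ) (h : Γ) : Prop :=
  ∀ a ∈ pCore p Γ, Commute (h : Γ ⧸ (Y ⊓ center Γ)) (a : Γ ⧸ (Y ⊓ center Γ)) → a ∈ Y ⊓ center Γ

omit [Finite Γ] [Fact p.Prime] in
theorem Fixfree.of_pow {Y : Subgroup Γ} {h : Γ} {n : ℕ} (hh : Fixfree p Y (h ^ n)) : Fixfree p Y h := by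
  intro a ha hc
  apply hh a ha
  rw [QuotientGroup.mk_pow]
  exact hc.pow_left n

namespace FL
variable {Y : Subgroup Γ} (f : FL p Y)
include f

theorem commute_core {o a : Γ} (ho : o ∈ pCore p Γ) (ha : a ∈ pCore p Γ) :
    Commute (o : Γ ⧸ (Y ⊓ center Γ)) (a : Γ ⧸ (Y ⊓ center Γ)) := by
  obtain ⟨g, hg⟩ : ∃ g, g ∉ normalizer (Y : Set Γ) := by
    by_contra! h
    exact f.proper (eq_top_iff.2 fun g _ => h g)
  rw [commute_mk_iff]
  exact (f.facts hg).1 (commutator_mem_commutator ho ha)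

/-- the main step -/
theorem fixfree_mul {g x y o : Γ} (hg : g ∉ normalizer (Y : Set Γ)) (hx : x ∈ Y)
    (hy : y ∈ Y.map (MulAut.conj g).toMonoidHom) (hxO : x ∉ pCore p Γ) (hyO : y ∉ pCore p Γ)
    (ho : o ∈ pCore p Γ) : Fixfree p Y (x * y * o) := by
  obtain ⟨h1, h2, h3, h4, h5⟩ := f.facts hg
  have hQn : (pCore p Γ).Normal := pCore_normal p Γ
  have fg := f.conj g
  set Y' := Y.map (MulAut.conj g).toMonoidHom with hY'
  intro a ha hc
  have hcc : Y' ⊓ center Γ = Y ⊓ center Γ := inf_center_map_conj Y g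
  set C := Y ⊓ center Γ with hC
  have hco : Commute (o : Γ ⧸ C) (a : Γ ⧸ C) := f.commute_core ho ha
  have hcxy : Commute ((x * y : Γ) : Γ ⧸ C) (a : Γ ⧸ C) := by
    have h6 : ((x * y : Γ) : Γ ⧸ C) = ((x * y * o : Γ) : Γ ⧸ C) * (o : Γ ⧸ C)⁻¹ := by
      rw [QuotientGroup.mk_mul (N := C) (a := x * y)]; group
    rw [h6]
    exact hc.mul_left hco.inv_left
  -- `[y, a] ∈ Y ∩ Y'`
  have e1 : ⁅y, a⁆ ∈ Y' := by
    have h6 := (mem_normalizer_iff.1 (fg.norm ha) y⁻¹).1 (inv_mem hy)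
    have : ⁅y, a⁆ = y * (a * y⁻¹ * a⁻¹) := by rw [commutatorElement_def]; group
    rw [this]
    exact mul_mem hy h6
  have e2 : ⁅x⁻¹, a⁆ ∈ Y := by
    have h6 := (mem_normalizer_iff.1 (f.norm ha) x).1 hx
    have : ⁅x⁻¹, a⁆ = x⁻¹ * (a * x * a⁻¹) := by rw [commutatorElement_def]; group
    rw [this]
    exact mul_mem (inv_mem hx) h6
  -- `y a y⁻¹ ≡ x⁻¹ a x`
  have e3 : ((⁅y, a⁆ : Γ) : Γ ⧸ C) = ((⁅x⁻¹, a⁆ : Γ) : Γ ⧸ C) := by
    have h6 : (x : Γ ⧸ C) * (y : Γ ⧸ C) * (a : Γ ⧸ C) = (a : Γ ⧸ C) * ((x : Γ ⧸ C) * (y : Γ ⧸ C)) := hcxy.eq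
    have h7 : ((⁅y, a⁆ : Γ) : Γ ⧸ C) = (y : Γ ⧸ C) * a * (y : Γ ⧸ C)⁻¹ * (a : Γ ⧸ C)⁻¹ := rfl
    have h8 : ((⁅x⁻¹, a⁆ : Γ) : Γ ⧸ C) = (x : Γ ⧸ C)⁻¹ * a * (x : Γ ⧸ C)⁻¹⁻¹ * (a : Γ ⧸ C)⁻¹ := rfl
    rw [h7, h8, inv_inv]
    congr 1
    have h9 : (y : Γ ⧸ C) * a = (x : Γ ⧸ C)⁻¹ * ((a : Γ ⧸ C) * ((x : Γ ⧸ C) * (y : Γ ⧸ C))) := by
      rw [← h6]; group
    rw [h9]; group
  have e4 : ⁅y, a⁆ ∈ Y := by
    have h6 := QuotientGroup.eq.1 e3.symm
    have h7 := mul_mem e2 h6.1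
    rwa [mul_inv_cancel_left] at h7
  have e5 : ⁅y, a⁆ ∈ C := by rw [← h2]; exact mem_inf.2 ⟨e4, e1⟩
  have hcy : Commute (y : Γ ⧸ C) (a : Γ ⧸ C) := commute_mk_iff.2 e5
  have hcx : Commute (x : Γ ⧸ C) (a : Γ ⧸ C) := by
    have h6 : (x : Γ ⧸ C) = ((x * y : Γ) : Γ ⧸ C) * (y : Γ ⧸ C)⁻¹ := by
      rw [QuotientGroup.mk_mul]; group
    rw [h6]
    exact hcxy.mul_left hcy.inv_left
  have m1 : a ∈ Y := f.mem_of_commute hx hxO ha hcx
  have m2 : a ∈ Y' := by
    apply fg.mem_of_commute hy hyO ha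
    rw [commute_mk_iff, hcc]
    exact e5
  rw [← h2]
  exact mem_inf.2 ⟨m1, m2⟩

omit f in
theorem _root_.Cfsg.Agent.H48.Fixfree.map_conj_iff {Y : Subgroup Γ} {h g : Γ} :
    Fixfree p (Y.map (MulAut.conj g).toMonoidHom) h ↔ Fixfree p Y h := by
  unfold Fixfree
  simp only [commute_mk_iff, inf_center_map_conj]

/-- General form: `h` is a product of elements of two distinct conjugates of `Y`, modulo `O_p(Γ)`. -/
theorem fixfree_mul' {u v x y h : Γ} (huv : Y.map (MulAut.conj u).toMonoidHom ≠ Y.map (MulAut.conj v).toMonoidHom)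
    (hx : x ∈ Y.map (MulAut.conj u).toMonoidHom) (hy : y ∈ Y.map (MulAut.conj v).toMonoidHom)
    (hxO : x ∉ pCore p Γ) (hyO : y ∉ pCore p Γ) (hh : (x * y)⁻¹ * h ∈ pCore p Γ) : Fixfree p Y h := by
  have fu := f.conj u
  rw [← Fixfree.map_conj_iff (g := u)]
  have hv : (Y.map (MulAut.conj u).toMonoidHom).map (MulAut.conj (v * u⁻¹)).toMonoidHom =
      Y.map (MulAut.conj v).toMonoidHom := by
    rw [← map_conj_mul, inv_mul_cancel_right]
  have hg : v * u⁻¹ ∉ normalizer ((Y.map (MulAut.conj u).toMonoidHom : Subgroup Γ) : Set Γ) := by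
    intro hc
    exact huv ((norm_map_conj hc).symm.trans hv)
  have h1 := fu.fixfree_mul hg hx (by rw [hv]; exact hy) hxO hyO hh
  rwa [mul_inv_cancel_left] at h1

/-- the step for central elements -/
theorem fixfree_of_mul {h x : Γ} (hx : x ∈ Y) (hxO : x ∉ pCore p Γ) (hc : ⁅h, x⁆ ∈ pCore p Γ)
    (hhx : Fixfree p Y (h * x)) : Fixfree p Y h := by
  obtain ⟨g, hg⟩ : ∃ g, g ∉ normalizer (Y : Set Γ) := by
    by_contra! h
    exact f.proper (eq_top_iff.2 fun g _ => h g)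
  obtain ⟨h1, h2, h3, h4, h5⟩ := f.facts hg
  have hQn : (pCore p Γ).Normal := pCore_normal p Γ
  intro a ha hca
  set C := Y ⊓ center Γ with hC
  -- `b = [x, a]`
  have hbO : ⁅x, a⁆ ∈ pCore p Γ := by
    rw [commutatorElement_def]
    exact mul_mem (hQn.conj_mem a ha x) (inv_mem ha)
  have hbY : ⁅x, a⁆ ∈ Y := by
    have h6 := (mem_normalizer_iff.1 (f.norm ha) x⁻¹).1 (inv_mem hx)
    have : ⁅x, a⁆ = x * (a * x⁻¹ * a⁻¹) := by rw [commutatorElement_def]; group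
    rw [this]
    exact mul_mem hx h6
  -- `h` commutes with `b` modulo `C`
  have hhb : Commute (h : Γ ⧸ C) ((⁅x, a⁆ : Γ) : Γ ⧸ C) := by
    -- `x a x⁻¹` is fixed by `h`
    have h6 : Commute (h : Γ ⧸ C) ((x * a * x⁻¹ : Γ) : Γ ⧸ C) := by
      -- `x⁻¹ h x = h o`
      have h7 : Commute ((x⁻¹ * h * x : Γ) : Γ ⧸ C) (a : Γ ⧸ C) := by
        have h8 : x⁻¹ * h * x = h * (h⁻¹ * (x⁻¹ * ⁅h, x⁆ * x) * h) := by
          rw [commutatorElement_def]; group
        rw [h8, QuotientGroup.mk_mul]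
        apply hca.mul_left
        apply f.commute_core _ ha
        have h9 := hQn.conj_mem _ hc x⁻¹
        rw [inv_inv] at h9
        have h10 := hQn.conj_mem _ h9 h⁻¹
        rwa [inv_inv] at h10
      have h8 : Commute ((x : Γ ⧸ C) * ((x⁻¹ * h * x : Γ) : Γ ⧸ C) * (x : Γ ⧸ C)⁻¹)
          ((x : Γ ⧸ C) * (a : Γ ⧸ C) * (x : Γ ⧸ C)⁻¹) := (Commute.conj_iff (x : Γ ⧸ C)).2 h7
      have h9 : (x : Γ ⧸ C) * ((x⁻¹ * h * x : Γ) : Γ ⧸ C) * (x : Γ ⧸ C)⁻¹ = (h : Γ ⧸ C) := by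
        have : ((x⁻¹ * h * x : Γ) : Γ ⧸ C) = (x : Γ ⧸ C)⁻¹ * (h : Γ ⧸ C) * (x : Γ ⧸ C) := rfl
        rw [this]; group
      rw [h9] at h8
      exact h8
    have h7 : ((⁅x, a⁆ : Γ) : Γ ⧸ C) = ((x * a * x⁻¹ : Γ) : Γ ⧸ C) * (a : Γ ⧸ C)⁻¹ := rfl
    rw [h7]
    exact h6.mul_right hca.inv_right
  have hb : ⁅x, a⁆ ∈ C := by
    apply hhx _ hbO
    rw [QuotientGroup.mk_mul]
    apply hhb.mul_left
    have : Commute x ⁅x, a⁆ := (mem_centralizer_iff.1 (f.abel hbY)) x hx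
    exact this.map (QuotientGroup.mk' C)
  have hxa : Commute (x : Γ ⧸ C) (a : Γ ⧸ C) := commute_mk_iff.2 hb
  apply hhx a ha
  rw [QuotientGroup.mk_mul]
  exact hca.mul_left hxa

end FL

end fin

end Cfsg.Agent.H48
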