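import Mathlib
import Cfsg.Agent.H48.FL

set_option autoImplicit false
open Cfsg Subgroup Cfsg.Agent.H47
open scoped commutatorElement

namespace Cfsg.Agent.H48

/-- `h` is a product of nontrivial elements of two distinct conjugates of `U`. -/
def Decomp {X : Type*} [Group X] (U : Subgroup X) (h : X) : Prop :=
  ∃ u v x y : X, U.map (MulAut.conj u).toMonoidHom ≠ U.map (MulAut.conj v).toMonoidHom ∧
    x ∈ U.map (MulAut.conj u).toMonoidHom ∧ y ∈ U.map (MulAut.conj v).toMonoidHom ∧ x ≠ 1 ∧ y ≠ 1 ∧ h = x * y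

structure Model (p : ℕ) {X : Type*} [Group X] (U : Subgroup X) : Prop where
  dec : ∀ h : X, (orderOf h).Prime → orderOf h ≠ p →
    Decomp U h ∨ ((∀ k, Commute h k) ∧ ∃ x ∈ U, x ≠ 1 ∧ Decomp U (h * x))
  uniq : ∀ V : Subgroup X, V ≤ normalizer (U : Set X) → normalizer (U : Set X) ≤ normalizer (V : Set X) →
    IsElementaryAbelian p V → V ≠ ⊥ → V = U

variable {Γ X : Type*} [Group Γ] [Group X] {p : ℕ}

theorem map_map_conj (π : Γ →* X) (Y : Subgroup Γ) (u : Γ) :
    (Y.map (MulAut.conj u).toMonoidHom).map π = (Y.map π).map (MulAut.conj (π u)).toMonoidHom := by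
  rw [Subgroup.map_map, Subgroup.map_map]
  congr 1
  ext x
  simp

section fin
variable [Finite Γ] [Fact p.Prime] {Y : Subgroup Γ}

theorem FL.fixfree_of_decomp (f : FL p Y) (π : Γ →* X) (hπ : Function.Surjective π) (hker : π.ker = pCore p Γ)
    {h : Γ} (hd : Decomp (Y.map π) (π h)) : Fixfree p Y h := by
  obtain ⟨u', v', x', y', h1, h2, h3, h4, h5, h6⟩ := hd
  obtain ⟨u, rfl⟩ := hπ u'
  obtain ⟨v, rfl⟩ := hπ v'
  rw [← map_map_conj] at h1 h2
  rw [← map_map_conj] at h1 h3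
  obtain ⟨x, hx, rfl⟩ := h2
  obtain ⟨y, hy, rfl⟩ := h3
  refine f.fixfree_mul' (u := u) (v := v) (x := x) (y := y) ?_ hx hy ?_ ?_ ?_
  · intro h; exact h1 (by rw [h])
  · rw [← hker, MonoidHom.mem_ker]; exact h4
  · rw [← hker, MonoidHom.mem_ker]; exact h5
  · rw [← hker, MonoidHom.mem_ker, map_mul, map_inv, map_mul, h6, inv_mul_cancel]

theorem FL.fixfree_of_model (f : FL p Y) (π : Γ →* X) (hπ : Function.Surjective π) (hker : π.ker = pCore p Γ)
    (m : Model p (Y.map π)) {h : Γ} (hh : ¬ ∃ k : ℕ, orderOf h = p ^ k) : Fixfree p Y h := by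
  -- a power of prime order
  obtain ⟨n, hn, hnp⟩ : ∃ n, (orderOf (h ^ n)).Prime ∧ orderOf (h ^ n) ≠ p := by
    have hpos : 0 < orderOf h := orderOf_pos h
    obtain ⟨k, m', hm', hk⟩ := Nat.exists_eq_pow_mul_and_not_dvd hpos.ne' p (Fact.out : p.Prime).ne_one
    have hm1 : m' ≠ 1 := by
      rintro rfl
      exact hh ⟨k, by rw [hk, mul_one]⟩
    obtain ⟨r, hr, hrm⟩ := Nat.exists_prime_and_dvd hm1
    have hro : r ∣ orderOf h := by rw [hk]; exact dvd_mul_of_dvd_right hrm _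
    refine ⟨orderOf h / r, ?_, ?_⟩
    · rw [orderOf_pow_orderOf_div hpos.ne' hro]; exact hr
    · rw [orderOf_pow_orderOf_div hpos.ne' hro]
      rintro rfl
      exact hm' hrm
  apply Fixfree.of_pow (n := n)
  set k := h ^ n with hk
  have hkO : k ∉ pCore p Γ := by
    intro hkO
    obtain ⟨j, hj⟩ := (pCore_isPGroup p Γ) ⟨k, hkO⟩
    have h1 : k ^ p ^ j = 1 := congrArg Subtype.val hj
    have h2 : orderOf k ∣ p ^ j := orderOf_dvd_of_pow_eq_one h1
    exact hnp ((Nat.prime_dvd_prime_iff_eq hn Fact.out).1 (hn.dvd_of_dvd_pow h2))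
  have hπk : orderOf (π k) = orderOf k := by
    have h1 : orderOf (π k) ∣ orderOf k := orderOf_map_dvd π k
    rcases (Nat.dvd_prime hn).1 h1 with h2 | h2
    · exfalso
      apply hkO
      rw [← hker, MonoidHom.mem_ker]
      exact orderOf_eq_one_iff.1 h2
    · exact h2
  rcases m.dec (π k) (by rw [hπk]; exact hn) (by rw [hπk]; exact hnp) with h1 | ⟨h1, x', hx', hx1, h2⟩
  · exact f.fixfree_of_decomp π hπ hker h1
  · obtain ⟨x, hx, rfl⟩ := hx'
    refine f.fixfree_of_mul hx ?_ ?_ ?_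
    · rw [← hker, MonoidHom.mem_ker]; exact hx1
    · rw [← hker, MonoidHom.mem_ker, map_commutatorElement]
      exact commutatorElement_eq_one_iff_commute.2 (h1 _)
    · apply f.fixfree_of_decomp π hπ hker
      rw [map_mul]
      exact h2

end fin

/-- it is enough to have a model for a conjugate -/
theorem exists_model_of_conj (π : Γ →* X) (hπ : Function.Surjective π) (hker : π.ker = pCore p Γ)
    {Y : Subgroup Γ} {U : Subgroup X} (m : Model p U) {a : X}
    (ha : (Y.map π) = U.map (MulAut.conj a).toMonoidHom) :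
    ∃ π' : Γ →* X, Function.Surjective π' ∧ π'.ker = pCore p Γ ∧ Model p (Y.map π') := by
  refine ⟨(MulAut.conj a⁻¹).toMonoidHom.comp π, (MulAut.conj a⁻¹).surjective.comp hπ, ?_, ?_⟩
  · rw [← hker]
    ext x
    rw [MonoidHom.mem_ker, MonoidHom.mem_ker]
    exact (MulAut.conj a⁻¹).map_eq_one_iff
  · rw [← Subgroup.map_map, ha, ← map_conj_mul, inv_mul_cancel, map_conj_one]
    exact m

end Cfsg.Agent.H48
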