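import Mathlib
import Cfsg.Agent.H48.FLmodel

set_option autoImplicit false
open Cfsg Subgroup Cfsg.Agent.H47
open scoped commutatorElement

namespace Cfsg.Agent.H48

section
variable {r : ℕ} [Fact r.Prime]

theorem two_ne_zero_zmod (hr : r ≠ 2) : (2 : ZMod r) ≠ 0 := by
  intro h
  have h1 : ((2 : ℕ) : ZMod r) = 0 := by exact_mod_cast h
  rw [ZMod.natCast_eq_zero_iff] at h1
  exact hr ((Nat.prime_dvd_prime_iff_eq Fact.out Nat.prime_two).1 h1)

theorem mem_zpowers_sr {i : ZMod r} {x : DihedralGroup r} :
    x ∈ zpowers (DihedralGroup.sr i) ↔ x = 1 ∨ x = DihedralGroup.sr i := by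
  constructor
  · rintro ⟨k, rfl⟩
    rcases Int.even_or_odd' k with ⟨j, rfl | rfl⟩
    · left
      show DihedralGroup.sr i ^ (2 * j) = 1
      rw [zpow_mul]
      have : DihedralGroup.sr i ^ (2 : ℤ) = 1 := by
        rw [zpow_two, DihedralGroup.sr_mul_self]
      rw [this, one_zpow]
    · right
      show DihedralGroup.sr i ^ (2 * j + 1) = _
      rw [zpow_add, zpow_mul, zpow_one]
      have : DihedralGroup.sr i ^ (2 : ℤ) = 1 := by
        rw [zpow_two, DihedralGroup.sr_mul_self]
      rw [this, one_zpow, one_mul]
  · rintro (rfl | rfl)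
    · exact one_mem _
    · exact mem_zpowers _

theorem conj_r_sr (j i : ZMod r) : DihedralGroup.r j * DihedralGroup.sr i * (DihedralGroup.r j)⁻¹ =
    DihedralGroup.sr (i - 2 * j) := by
  rw [show (DihedralGroup.r j)⁻¹ = DihedralGroup.r (-j) from rfl, DihedralGroup.r_mul_sr, DihedralGroup.sr_mul_r]
  congr 1; ring

theorem conj_sr_sr (j i : ZMod r) : DihedralGroup.sr j * DihedralGroup.sr i * (DihedralGroup.sr j)⁻¹ =
    DihedralGroup.sr (2 * j - i) := by
  rw [show (DihedralGroup.sr j)⁻¹ = DihedralGroup.sr j from rfl, DihedralGroup.sr_mul_sr, DihedralGroup.r_mul_sr]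
  congr 1; ring

theorem model_dihedral (hr : r ≠ 2) : Model 2 (zpowers (DihedralGroup.sr (0 : ZMod r))) := by
  have h2 := two_ne_zero_zmod hr
  have hcard2 : ∀ i : ZMod r, DihedralGroup.sr i ≠ (1 : DihedralGroup r) := by
    intro i h
    rw [DihedralGroup.one_def] at h
    cases h
  constructor
  · intro h hh hh2
    left
    rcases h with i | i
    · have hi : i ≠ 0 := by
        rintro rfl
        rw [← DihedralGroup.one_def, orderOf_one] at hh
        exact Nat.not_prime_one hh
      refine ⟨1, DihedralGroup.r (-i / 2), DihedralGroup.sr 0, DihedralGroup.sr i, ?_, ?_, ?_, hcard2 _, hcard2 _, ?_⟩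
      · intro hc
        have h3 : DihedralGroup.sr (0 : ZMod r) ∈
            (zpowers (DihedralGroup.sr (0 : ZMod r))).map (MulAut.conj (1 : DihedralGroup r)).toMonoidHom := by
          rw [map_conj_one]; exact mem_zpowers _
        rw [hc, mem_map_conj, mem_zpowers_sr] at h3
        rcases h3 with h3 | h3
        · have h4 : (DihedralGroup.sr (0 : ZMod r)) = 1 := by
            have := congrArg (fun z => DihedralGroup.r (-i / 2) * z * (DihedralGroup.r (-i / 2))⁻¹) h3
            simpa [mul_assoc] using this
          exact hcard2 _ h4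
        · have h4 : (DihedralGroup.sr (0 : ZMod r)) = DihedralGroup.r (-i / 2) * DihedralGroup.sr 0 *
              (DihedralGroup.r (-i / 2))⁻¹ := by
            have key : ∀ ρ s : DihedralGroup r, ρ⁻¹ * s * ρ = s → s = ρ * s * ρ⁻¹ := by
              intro ρ s hs
              calc s = ρ * (ρ⁻¹ * s * ρ) * ρ⁻¹ := by group
                _ = _ := by rw [hs]
            exact key _ _ h3
          rw [conj_r_sr] at h4
          injection h4 with h5
          apply hi
          have h6 : (0 : ZMod r) = i := by
            rw [h5]; field_simp; ring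
          exact h6.symm
      · rw [map_conj_one]; exact mem_zpowers _
      · refine ⟨DihedralGroup.sr 0, mem_zpowers _, ?_⟩
        show DihedralGroup.r (-i / 2) * DihedralGroup.sr 0 * (DihedralGroup.r (-i / 2))⁻¹ = _
        rw [conj_r_sr]
        congr 1
        field_simp; ring
      · rw [DihedralGroup.sr_mul_sr, sub_zero]
    · exfalso
      apply hh2
      exact DihedralGroup.orderOf_sr i
  · intro V hV _ hel hne
    have hN : normalizer ((zpowers (DihedralGroup.sr (0 : ZMod r)) : Subgroup (DihedralGroup r)) :
        Set (DihedralGroup r)) ≤ zpowers (DihedralGroup.sr (0 : ZMod r)) := by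
      intro k hk
      have h3 := (mem_normalizer_iff.1 hk (DihedralGroup.sr 0)).1 (mem_zpowers _)
      rw [mem_zpowers_sr] at h3
      have h4 : k * DihedralGroup.sr 0 * k⁻¹ = DihedralGroup.sr 0 := by
        rcases h3 with h3 | h3
        · exfalso
          apply hcard2 (0 : ZMod r)
          have := congrArg (fun z => k⁻¹ * z * k) h3
          simpa [mul_assoc] using this
        · exact h3
      rcases k with i | i
      · rw [conj_r_sr] at h4
        injection h4 with h5
        have h6 : i = 0 := by
          have : (2 : ZMod r) * i = 0 := by linear_combination -h5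
          rcases mul_eq_zero.1 this with h | h
          · exact absurd h h2
          · exact h
        rw [h6, ← DihedralGroup.one_def]; exact one_mem _
      · rw [conj_sr_sr] at h4
        injection h4 with h5
        have h6 : i = 0 := by
          have : (2 : ZMod r) * i = 0 := by linear_combination h5
          rcases mul_eq_zero.1 this with h | h
          · exact absurd h h2
          · exact h
        rw [h6]; exact mem_zpowers _
    apply le_antisymm (hV.trans hN)
    obtain ⟨x, hx, hx1⟩ : ∃ x ∈ V, x ≠ 1 := by
      by_contra! h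
      exact hne (eq_bot_iff.2 fun y hy => by rw [mem_bot]; exact h y hy)
    rcases mem_zpowers_sr.1 (hN (hV hx)) with h | h
    · exact absurd h hx1
    · rw [zpowers_le, ← h]; exact hx

/-- a nontrivial elementary abelian 2-subgroup of a dihedral group of order `2r` -/
theorem exists_conj_dihedral (hr : r ≠ 2) {V : Subgroup (DihedralGroup r)} (hel : IsElementaryAbelian 2 V)
    (hne : V ≠ ⊥) : ∃ a, V = (zpowers (DihedralGroup.sr (0 : ZMod r))).map (MulAut.conj a).toMonoidHom := by
  have h2 := two_ne_zero_zmod hr
  have hel' := (isElementaryAbelian_iff.1 hel).2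
  -- no nontrivial rotation
  have hrot : ∀ i : ZMod r, DihedralGroup.r i ∈ V → i = 0 := by
    intro i hi
    have h3 := hel' _ hi
    rw [pow_two, DihedralGroup.r_mul_r, DihedralGroup.one_def] at h3
    injection h3 with h4
    have : (2 : ZMod r) * i = 0 := by linear_combination h4
    rcases mul_eq_zero.1 this with h | h
    · exact absurd h h2
    · exact h
  obtain ⟨x, hx, hx1⟩ : ∃ x ∈ V, x ≠ 1 := by
    by_contra! h
    exact hne (eq_bot_iff.2 fun y hy => by rw [mem_bot]; exact h y hy)
  rcases x with i | i
  · exact absurd (by rw [hrot i hx, ← DihedralGroup.one_def]) hx1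
  refine ⟨DihedralGroup.r (-i / 2), ?_⟩
  have e1 : DihedralGroup.r (-i / 2) * DihedralGroup.sr 0 * (DihedralGroup.r (-i / 2))⁻¹ = DihedralGroup.sr i := by
    rw [conj_r_sr]
    congr 1
    field_simp; ring
  have e2 : (zpowers (DihedralGroup.sr (0 : ZMod r))).map (MulAut.conj (DihedralGroup.r (-i / 2))).toMonoidHom =
      zpowers (DihedralGroup.sr i) := by
    rw [MonoidHom.map_zpowers]
    congr 1
  rw [e2]
  apply le_antisymm
  · intro y hy
    rw [mem_zpowers_sr]
    rcases y with j | j
    · left
      rw [hrot j hy, ← DihedralGroup.one_def]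
    · right
      have h3 := mul_mem hx hy
      rw [DihedralGroup.sr_mul_sr] at h3
      have h4 := hrot _ h3
      congr 1
      linear_combination h4
  · rw [zpowers_le]; exact hx

end

end Cfsg.Agent.H48
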