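import Mathlib
import Cfsg.Agent.H48.FLmodel
import Cfsg.Agent.H81.SL2Card

set_option autoImplicit false
open Cfsg Subgroup Cfsg.Agent.H47
open scoped commutatorElement MatrixGroups

namespace Cfsg.Agent.H48

section
variable {F : Type*} [Field F]

/-- the transvection with centre `(a, b)` and coefficient `c` -/
def tv (a b c : F) : SL(2, F) :=
  ⟨!![1 - c * a * b, c * a ^ 2; -(c * b ^ 2), 1 + c * a * b], by
    rw [Matrix.det_fin_two_of]; ring⟩

theorem tv_mul (a b c d : F) : tv a b c * tv a b d = tv a b (c + d) := by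
  apply Subtype.ext
  rw [Matrix.SpecialLinearGroup.coe_mul]
  show !![1 - c * a * b, c * a ^ 2; -(c * b ^ 2), 1 + c * a * b] *
    !![1 - d * a * b, d * a ^ 2; -(d * b ^ 2), 1 + d * a * b] = _
  rw [Matrix.mul_fin_two]
  show _ = !![1 - (c + d) * a * b, (c + d) * a ^ 2; -((c + d) * b ^ 2), 1 + (c + d) * a * b]
  congr 1
  ext i j
  fin_cases i <;> fin_cases j <;> simp <;> ring

theorem tv_zero (a b : F) : tv a b 0 = 1 := by
  apply Subtype.ext
  show !![1 - 0 * a * b, 0 * a ^ 2; -(0 * b ^ 2), 1 + 0 * a * b] = 1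
  ext i j
  fin_cases i <;> fin_cases j <;> simp

theorem tv_inv (a b c : F) : (tv a b c)⁻¹ = tv a b (-c) := by
  rw [inv_eq_iff_mul_eq_one, tv_mul, add_neg_cancel, tv_zero]

theorem tv_val (a b c : F) : (tv a b c).1 = !![1 - c * a * b, c * a ^ 2; -(c * b ^ 2), 1 + c * a * b] := rfl

theorem conj_tv (g : SL(2, F)) (c : F) : g * tv 1 0 c * g⁻¹ = tv (g 0 0) (g 1 0) c := by
  have hd := g.det_coe
  rw [Matrix.det_fin_two] at hd
  rw [mul_inv_eq_iff_eq_mul]
  apply Subtype.ext
  rw [Matrix.SpecialLinearGroup.coe_mul, Matrix.SpecialLinearGroup.coe_mul, tv_val, tv_val]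
  rw [Matrix.eta_fin_two g.1, Matrix.mul_fin_two, Matrix.mul_fin_two]
  ext i j
  fin_cases i <;> fin_cases j <;> simp
  · ring
  · linear_combination (-(c * g 0 0)) * hd
  · ring
  · linear_combination (-(c * g 1 0)) * hd

/-- the upper unitriangular group -/
def ut (F : Type*) [Field F] : Subgroup SL(2, F) where
  carrier := Set.range (tv (1 : F) 0)
  mul_mem' := by
    rintro _ _ ⟨c, rfl⟩ ⟨d, rfl⟩
    exact ⟨c + d, (tv_mul _ _ _ _).symm⟩
  one_mem' := ⟨0, tv_zero _ _⟩
  inv_mem' := by
    rintro _ ⟨c, rfl⟩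
    exact ⟨-c, (tv_inv _ _ _).symm⟩

theorem mem_ut {x : SL(2, F)} : x ∈ ut F ↔ ∃ c, tv 1 0 c = x := Iff.rfl

theorem tv_eq_one_iff {c : F} : tv 1 0 c = 1 ↔ c = 0 := by
  constructor
  · intro h
    have := congrArg (fun g : SL(2, F) => g.1 0 1) h
    simpa [tv_val] using this
  · rintro rfl; exact tv_zero _ _

theorem tv_injective : Function.Injective (tv (1 : F) 0) := by
  intro c d h
  have := congrArg (fun g : SL(2, F) => g.1 0 1) h
  simpa [tv_val] using this

theorem mem_ut_conj {g x : SL(2, F)} : x ∈ (ut F).map (MulAut.conj g).toMonoidHom ↔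
    ∃ c, tv (g 0 0) (g 1 0) c = x := by
  constructor
  · rintro ⟨_, ⟨c, rfl⟩, rfl⟩
    exact ⟨c, (conj_tv g c).symm⟩
  · rintro ⟨c, rfl⟩
    exact ⟨tv 1 0 c, ⟨c, rfl⟩, conj_tv g c⟩

theorem exists_col {a b : F} (h : a ≠ 0 ∨ b ≠ 0) : ∃ g : SL(2, F), g 0 0 = a ∧ g 1 0 = b := by
  by_cases ha : a = 0
  · have hb : b ≠ 0 := by
      rcases h with h | h
      · exact absurd ha h
      · exact h
    refine ⟨⟨!![a, -b⁻¹; b, 0], ?_⟩, rfl, rfl⟩
    rw [Matrix.det_fin_two_of]; field_simp; simp
  · refine ⟨⟨!![a, 0; b, a⁻¹], ?_⟩, rfl, rfl⟩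
    rw [Matrix.det_fin_two_of]; field_simp; simp

theorem decomp_tv {a b a' b' c c' : F} (hc : c ≠ 0) (hc' : c' ≠ 0) (hd : a * b' - b * a' ≠ 0) :
    Decomp (ut F) (tv a b c * tv a' b' c') := by
  have h1 : a ≠ 0 ∨ b ≠ 0 := by
    by_contra! h
    apply hd; rw [h.1, h.2]; ring
  have h2 : a' ≠ 0 ∨ b' ≠ 0 := by
    by_contra! h
    apply hd; rw [h.1, h.2]; ring
  obtain ⟨g, hg0, hg1⟩ := exists_col h1
  obtain ⟨k, hk0, hk1⟩ := exists_col h2
  have hne : ∀ {a b c : F}, (a ≠ 0 ∨ b ≠ 0) → c ≠ 0 → tv a b c ≠ 1 := by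
    intro a b c hab hc h
    have e1 := congrArg (fun g : SL(2, F) => g.1 0 1) h
    have e2 := congrArg (fun g : SL(2, F) => g.1 1 0) h
    simp [tv_val] at e1 e2
    rcases hab with h | h
    · rcases e1 with e1 | e1
      · exact hc e1
      · exact h e1
    · rcases e2 with e2 | e2
      · exact hc e2
      · exact h e2
  refine ⟨g, k, tv a b c, tv a' b' c', ?_, ?_, ?_, hne h1 hc, hne h2 hc', rfl⟩
  · intro h
    have h3 : tv a b c ∈ (ut F).map (MulAut.conj g).toMonoidHom := mem_ut_conj.2 ⟨c, by rw [hg0, hg1]⟩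
    rw [h, mem_ut_conj, hk0, hk1] at h3
    obtain ⟨d, hd'⟩ := h3
    have e1 := congrArg (fun g : SL(2, F) => g.1 0 1) hd'
    have e2 := congrArg (fun g : SL(2, F) => g.1 1 0) hd'
    have e3 := congrArg (fun g : SL(2, F) => g.1 0 0) hd'
    simp [tv_val] at e1 e2 e3
    have e4 : c * (a * b' - b * a') ^ 2 = 0 := by
      linear_combination (-(b' ^ 2)) * e1 - (a' ^ 2) * e2 + 2 * a' * b' * e3
    rcases mul_eq_zero.1 e4 with h | h
    · exact hc h
    · exact hd (pow_eq_zero_iff (by norm_num) |>.1 h)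
  · exact mem_ut_conj.2 ⟨c, by rw [hg0, hg1]⟩
  · exact mem_ut_conj.2 ⟨c', by rw [hk0, hk1]⟩

/-- every non-scalar element of trace `≠ 2` is decomposed -/
theorem decomp_sl2 (h : SL(2, F)) (hns : ¬ (h 0 1 = 0 ∧ h 1 0 = 0 ∧ h 0 0 = h 1 1)) (ht : h 0 0 + h 1 1 ≠ 2) :
    Decomp (ut F) h := by
  have hd := h.det_coe
  rw [Matrix.det_fin_two] at hd
  set α := h 0 0 with hα
  set β := h 0 1 with hβ
  set γ := h 1 0 with hγ
  set δ := h 1 1 with hδ
  have hval : h.1 = !![α, β; γ, δ] := Matrix.eta_fin_two h.1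
  have hd' : α * δ - β * γ = 1 := hd
  have ht' : α + δ - 2 ≠ 0 := fun h => ht (by linear_combination h)
  by_cases hγ0 : γ = 0
  · by_cases hβ0 : β = 0
    · have hne : δ - α ≠ 0 := by
        intro h0
        exact hns ⟨hβ0, hγ0, by linear_combination -h0⟩
      have e : h = tv (α - 1) (δ - 1) (-(δ - α)⁻¹) * tv 1 1 ((α + δ - 2) * (δ - α)⁻¹) := by
        apply Subtype.ext
        rw [Matrix.SpecialLinearGroup.coe_mul, hval, tv_val, tv_val, Matrix.mul_fin_two, hβ0, hγ0]
        rw [hβ0, zero_mul, sub_zero] at hd'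
        ext i j
        fin_cases i <;> fin_cases j <;> simp <;> field_simp
        · linear_combination (δ - α) * hd'
        · linear_combination (α - δ) * hd'
        · linear_combination (δ - α) * hd'
        · linear_combination (α - δ) * hd'
      rw [e]
      apply decomp_tv (neg_ne_zero.2 (inv_ne_zero hne)) (mul_ne_zero ht' (inv_ne_zero hne))
      intro h0
      apply hne
      linear_combination -h0
    · have e : h = tv β (δ - 1) (-(-β)⁻¹) * tv 0 1 ((α + δ - 2) * (-β)⁻¹) := by
        apply Subtype.ext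
        rw [Matrix.SpecialLinearGroup.coe_mul, hval, tv_val, tv_val, Matrix.mul_fin_two]
        ext i j
        fin_cases i <;> fin_cases j <;> simp <;> field_simp
        · ring
        · linear_combination -hd'
        · ring
      rw [e]
      apply decomp_tv (neg_ne_zero.2 (inv_ne_zero (neg_ne_zero.2 hβ0)))
        (mul_ne_zero ht' (inv_ne_zero (neg_ne_zero.2 hβ0)))
      intro h0
      apply hβ0
      linear_combination h0
  · have e : h = tv (α - 1) γ (-γ⁻¹) * tv 1 0 ((α + δ - 2) * γ⁻¹) := by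
      apply Subtype.ext
      rw [Matrix.SpecialLinearGroup.coe_mul, hval, tv_val, tv_val, Matrix.mul_fin_two]
      ext i j
      fin_cases i <;> fin_cases j <;> simp <;> field_simp
      · ring
      · linear_combination -hd'
      · ring
    rw [e]
    apply decomp_tv (neg_ne_zero.2 (inv_ne_zero hγ0)) (mul_ne_zero ht' (inv_ne_zero hγ0))
    intro h0
    apply hγ0
    linear_combination -h0


theorem sq_of_trace {h : SL(2, F)} (ht : h 0 0 + h 1 1 = 2) : h.1 * h.1 = (2 : F) • h.1 - 1 := by
  have hd := h.det_coe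
  rw [Matrix.det_fin_two] at hd
  rw [Matrix.eta_fin_two h.1, Matrix.mul_fin_two]
  have h11 : h 1 1 = 2 - h 0 0 := by linear_combination ht
  ext i j
  fin_cases i <;> fin_cases j <;> simp
  · rw [h11] at hd; linear_combination -hd
  · rw [h11]; ring
  · rw [h11]; ring
  · rw [h11] at hd; rw [h11]; linear_combination -hd

theorem pow_of_trace {h : SL(2, F)} (ht : h 0 0 + h 1 1 = 2) (n : ℕ) :
    (h ^ n).1 = (n : F) • h.1 - ((n : F) - 1) • (1 : Matrix (Fin 2) (Fin 2) F) := by
  induction n with
  | zero => simp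
  | succ n ih =>
    rw [pow_succ, Matrix.SpecialLinearGroup.coe_mul, ih, sub_mul, smul_mul_assoc, smul_mul_assoc, one_mul,
      sq_of_trace ht]
    push_cast
    module

theorem mem_normalizer_ut {g : SL(2, F)} : g ∈ normalizer (ut F : Set SL(2, F)) ↔ g 1 0 = 0 := by
  constructor
  · intro hg
    have h1 := (mem_normalizer_iff.1 hg (tv 1 0 1)).1 ⟨1, rfl⟩
    rw [conj_tv] at h1
    obtain ⟨c, hc⟩ := h1
    have e2 := congrArg (fun g : SL(2, F) => g.1 1 0) hc
    simp [tv_val] at e2
    exact e2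
  · intro hg
    rw [mem_normalizer_iff_map_conj]
    have h00 : g 0 0 ≠ 0 := by
      intro h0
      have hd := g.det_coe
      rw [Matrix.det_fin_two] at hd
      rw [h0, hg] at hd
      simp at hd
    ext x
    rw [mem_ut_conj, mem_ut, hg]
    constructor
    · rintro ⟨c, rfl⟩
      refine ⟨c * g 0 0 ^ 2, ?_⟩
      apply Subtype.ext
      rw [tv_val, tv_val]
      ext i j
      fin_cases i <;> fin_cases j <;> simp
    · rintro ⟨c, rfl⟩
      refine ⟨c * (g 0 0 ^ 2)⁻¹, ?_⟩
      apply Subtype.ext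
      rw [tv_val, tv_val]
      ext i j
      fin_cases i <;> fin_cases j <;> simp <;> field_simp

variable [Finite F] {p : ℕ} [Fact p.Prime] [CharP F p]

/-- the diagonal matrices -/
def dg (l : Fˣ) : SL(2, F) := ⟨!![(l : F), 0; 0, (l : F)⁻¹], by rw [Matrix.det_fin_two_of]; simp⟩

omit [Finite F] in
theorem conj_dg (l : Fˣ) (c : F) : dg l * tv 1 0 c * (dg l)⁻¹ = tv 1 0 ((l : F) ^ 2 * c) := by
  rw [conj_tv]
  apply Subtype.ext
  rw [tv_val, tv_val]
  have e0 : (dg l : SL(2, F)) 0 0 = l := rfl
  have e1 : (dg l : SL(2, F)) 1 0 = 0 := rfl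
  rw [e0, e1]
  ext i j
  fin_cases i <;> fin_cases j <;> simp
  ring

theorem model_sl2 : Model p (ut F) := by
  have hp : p.Prime := Fact.out
  constructor
  · intro h hh hhp
    by_cases hs : h 0 1 = 0 ∧ h 1 0 = 0 ∧ h 0 0 = h 1 1
    · right
      obtain ⟨h01, h10, h00⟩ := hs
      have hd := h.det_coe
      rw [Matrix.det_fin_two, h01, h10, ← h00] at hd
      have hd' : (h 0 0 - 1) * (h 0 0 + 1) = 0 := by linear_combination hd
      have hh1 : h ≠ 1 := by
        rintro rfl
        rw [orderOf_one] at hh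
        exact Nat.not_prime_one hh
      have h00' : h 0 0 = -1 := by
        rcases mul_eq_zero.1 hd' with h1 | h1
        · exfalso
          apply hh1
          have h2 : h 0 0 = 1 := by linear_combination h1
          apply Subtype.ext
          rw [Matrix.eta_fin_two h.1, h01, h10, ← h00, h2]
          exact Matrix.one_fin_two.symm
        · linear_combination h1
      have hval : h.1 = !![-1, 0; 0, -1] := by
        rw [Matrix.eta_fin_two h.1, h01, h10, ← h00, h00']
      have h2 : (2 : F) ≠ 0 := by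
        intro h2
        apply hh1
        apply Subtype.ext
        have e : (-1 : F) = 1 := by linear_combination -h2
        rw [hval, e]
        exact Matrix.one_fin_two.symm
      refine ⟨?_, tv 1 0 1, ⟨1, rfl⟩, ?_, ?_⟩
      · intro k
        apply Subtype.ext
        rw [Matrix.SpecialLinearGroup.coe_mul, Matrix.SpecialLinearGroup.coe_mul, hval,
          Matrix.eta_fin_two k.1, Matrix.mul_fin_two, Matrix.mul_fin_two]
        ext i j
        fin_cases i <;> fin_cases j <;> simp
      · intro h3; exact one_ne_zero (tv_eq_one_iff.1 h3)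
      · obtain ⟨k, hk⟩ : ∃ k : SL(2, F), k = h * tv 1 0 1 := ⟨_, rfl⟩
        rw [← hk]
        have e : k.1 = !![-1, -1; 0, -1] := by
          rw [hk, Matrix.SpecialLinearGroup.coe_mul, hval, tv_val, Matrix.mul_fin_two]
          ext i j
          fin_cases i <;> fin_cases j <;> simp
        have e0 : k 0 0 = -1 := by
          show k.1 0 0 = -1
          rw [e]; rfl
        have e1 : k 1 1 = -1 := by
          show k.1 1 1 = -1
          rw [e]; rfl
        have e2 : k 0 1 = -1 := by
          show k.1 0 1 = -1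
          rw [e]; rfl
        apply decomp_sl2
        · rintro ⟨h3, -, -⟩
          rw [e2] at h3
          exact one_ne_zero (neg_eq_zero.1 h3)
        · rw [e0, e1]
          intro h3
          have h4 : (2 : F) * 2 = 0 := by linear_combination -h3
          rcases mul_eq_zero.1 h4 with h5 | h5 <;> exact h2 h5
    · left
      apply decomp_sl2 h hs
      intro ht
      have h1 : h ^ p = 1 := by
        apply Subtype.ext
        rw [pow_of_trace ht, CharP.cast_eq_zero]
        simp
      have h2 := orderOf_dvd_of_pow_eq_one h1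
      exact hhp ((Nat.prime_dvd_prime_iff_eq hh hp).1 h2)
  · intro V hV hNV hel hne
    have hel' := (isElementaryAbelian_iff.1 hel).2
    -- V ≤ U
    have hVU : V ≤ ut F := by
      intro v hv
      have h10 : v 1 0 = 0 := mem_normalizer_ut.1 (hV hv)
      have hd := v.det_coe
      rw [Matrix.det_fin_two, h10, mul_zero, sub_zero] at hd
      -- the diagonal entries of the powers
      have key : ∀ n : ℕ, (v ^ n).1 1 0 = 0 ∧ (v ^ n).1 0 0 = (v 0 0) ^ n := by
        intro n
        induction n with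
        | zero => simp
        | succ n ih =>
          rw [pow_succ, Matrix.SpecialLinearGroup.coe_mul]
          constructor
          · rw [Matrix.mul_apply, Fin.sum_univ_two, ih.1, zero_mul, zero_add]
            show _ * v 1 0 = 0
            rw [h10, mul_zero]
          · rw [Matrix.mul_apply, Fin.sum_univ_two, ih.2]
            show _ * v 0 0 + _ * v 1 0 = _
            rw [h10, mul_zero, add_zero, pow_succ]
      have h1 := (key p).2
      rw [hel' v hv] at h1
      have h2 : (v 0 0 - 1) ^ p = 0 := by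
        rw [sub_pow_char, one_pow, ← h1]; simp
      have h3 : v 0 0 = 1 := by
        have := pow_eq_zero_iff (hp.ne_zero) |>.1 h2
        linear_combination this
      rw [h3, one_mul] at hd
      refine ⟨v 0 1, ?_⟩
      apply Subtype.ext
      rw [tv_val]
      conv_rhs => rw [Matrix.eta_fin_two v.1, h10, h3, hd]
      ext i j
      fin_cases i <;> fin_cases j <;> simp
    apply le_antisymm hVU
    -- the additive subgroup
    let S : AddSubgroup F :=
      { carrier := {c | tv 1 0 c ∈ V}
        zero_mem' := by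
          show tv 1 0 0 ∈ V
          rw [tv_zero]; exact one_mem V
        add_mem' := by
          intro a b ha hb
          show tv 1 0 (a + b) ∈ V
          rw [← tv_mul]; exact mul_mem ha hb
        neg_mem' := by
          intro a ha
          show tv 1 0 (-a) ∈ V
          rw [← tv_inv]; exact inv_mem ha }
    have hS : ∀ c ∈ S, ∀ l : F, l ^ 2 * c ∈ S := by
      intro c hc l
      by_cases hl : l = 0
      · rw [hl]
        simp
      · have hN : dg (Units.mk0 l hl) ∈ normalizer (V : Set SL(2, F)) :=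
          hNV (mem_normalizer_ut.2 rfl)
        have h1 := (mem_normalizer_iff.1 hN (tv 1 0 c)).1 hc
        rw [conj_dg] at h1
        exact h1
    obtain ⟨x, hx, hx1⟩ : ∃ x ∈ V, x ≠ 1 := by
      by_contra! h
      exact hne (eq_bot_iff.2 fun y hy => by rw [mem_bot]; exact h y hy)
    obtain ⟨c, rfl⟩ := hVU hx
    have hc0 : c ≠ 0 := fun h => hx1 (by rw [h, tv_zero])
    rintro _ ⟨d, rfl⟩
    show d ∈ S
    by_cases h2 : (2 : F) = 0
    · -- characteristic 2: everything is a square
      have hch : CharP F 2 := by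
        have : p = 2 := by
          have h3 : ((2 : ℕ) : F) = 0 := by exact_mod_cast h2
          exact (Nat.prime_dvd_prime_iff_eq hp Nat.prime_two).1 ((CharP.cast_eq_zero_iff F p 2).1 h3)
        rw [← this]; infer_instance
      obtain ⟨l, hl⟩ := FiniteField.isSquare_of_char_two (F := F) (ringChar.eq_iff.2 hch) (d / c)
      have h3 := hS c hx l
      have h4 : l ^ 2 * c = d := by
        rw [pow_two, ← hl]; field_simp
      rwa [h4] at h3
    · have h3 := S.sub_mem (hS c hx ((d / c + 1) / 2)) (hS c hx ((d / c - 1) / 2))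
      have h4 : ((d / c + 1) / 2) ^ 2 * c - ((d / c - 1) / 2) ^ 2 * c = d := by
        field_simp; ring
      rwa [h4] at h3

omit [Fact p.Prime] [CharP F p] in
theorem card_ut : Nat.card (ut F) = Nat.card F :=
  (Nat.card_congr (Equiv.ofInjective _ tv_injective)).symm

theorem exists_conj_sl2 {V : Subgroup SL(2, F)} (hV : IsPGroup p V) (hc : Nat.card V = Nat.card F) :
    ∃ a, V = (ut F).map (MulAut.conj a).toMonoidHom := by
  have := Fintype.ofFinite F
  have hp : p.Prime := Fact.out
  obtain ⟨n, hn⟩ := FiniteField.card' F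
  obtain ⟨n, hp', hn⟩ := FiniteField.card F p
  have hut : IsPGroup p (ut F) := IsPGroup.of_card (n := n) (by
    rw [card_ut, Nat.card_eq_fintype_card, hn])
  have hsyl : ∀ W : Subgroup SL(2, F), Nat.card W = Nat.card F → ¬ p ∣ W.index := by
    intro W hW hd
    have h1 := W.card_mul_index
    rw [hW, Nat.card_eq_fintype_card (α := F)] at h1
    rw [Cfsg.Agent.H81.card_sl2] at h1
    have h2 := Nat.eq_of_mul_eq_mul_left Fintype.card_pos h1
    rw [h2] at hd
    have hpq : p ∣ Fintype.card F := by rw [hn]; exact dvd_pow_self p n.ne_zero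
    have hq2 : 2 ≤ Fintype.card F := Fintype.one_lt_card
    rcases (hp.dvd_mul).1 hd with h3 | h3
    · have h4 := Nat.dvd_sub hpq h3
      have h5 : Fintype.card F - (Fintype.card F - 1) = 1 := by omega
      rw [h5] at h4
      exact hp.one_lt.ne' (Nat.dvd_one.1 h4)
    · have h4 := (Nat.dvd_add_right hpq).1 h3
      exact hp.one_lt.ne' (Nat.dvd_one.1 h4)
  let P : Sylow p SL(2, F) := hut.toSylow (hsyl _ card_ut)
  let Q : Sylow p SL(2, F) := hV.toSylow (hsyl _ hc)
  obtain ⟨a, ha⟩ := MulAction.exists_smul_eq SL(2, F) P Q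
  refine ⟨a, ?_⟩
  have h1 : ((a • P : Sylow p SL(2, F)) : Subgroup SL(2, F)) = (Q : Subgroup SL(2, F)) := by rw [ha]
  exact h1.symm

end

end Cfsg.Agent.H48
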