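import Mathlib
import Cfsg.Agent.H48.FLmodel
import Cfsg.Agent.Suzuki.TI
import Cfsg.Agent.Suzuki.Partition
import Cfsg.Agent.Suzuki.LieIso

set_option autoImplicit false
open Cfsg Subgroup Cfsg.Agent.H47
open scoped commutatorElement

namespace Cfsg.Agent.H48

/-- an element of order 2 normalizing a self-centralizing subgroup of odd order inverts it -/
theorem inverts_of_selfCent {G : Type*} [Group G] [Finite G] {K : Subgroup G} (hK : SC.SelfCent K)
    (hodd : ¬ 2 ∣ Nat.card K) {t : G} (ht : orderOf t = 2) (htK : t ∈ normalizer (K : Set G)) :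
    ∀ k ∈ K, t * k * t⁻¹ = k⁻¹ := by
  intro k hk
  have ht2 : t * t = 1 := by rw [← pow_two, ← ht]; exact pow_orderOf_eq_one t
  have hti : t⁻¹ = t := inv_eq_of_mul_eq_one_left ht2
  have htn : t ∉ K := by
    intro h
    apply hodd
    have h1 : orderOf (⟨t, h⟩ : K) ∣ Nat.card K := orderOf_dvd_natCard _
    rwa [orderOf_mk, ht] at h1
  have hk' : t * k * t⁻¹ ∈ K := (mem_normalizer_iff.1 htK k).1 hk
  have hcomm := SC.SelfCent.comm hK hk hk'
  have h1 : t * (k * (t * k * t⁻¹)) = k * (t * k * t⁻¹) * t := by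
    rw [hti]
    rw [hti] at hcomm
    calc t * (k * (t * k * t)) = (t * k * t) * k * t := by group
      _ = k * (t * k * t) * t := by rw [hcomm]
  by_cases h2 : k * (t * k * t⁻¹) = 1
  · rw [mul_eq_one_iff_eq_inv'] at h2
    exact h2
  · exfalso
    apply htn
    rw [← hK _ (mul_mem hk hk') h2, mem_centralizer_singleton_iff]
    exact h1

section
open Cfsg.Agent.Suz

variable {F : Type*} [Field F] [Fintype F] [CharP F 2] {m : ℕ}
variable (hm : 1 ≤ m) (hF : Fintype.card F = 2 ^ (2 * m + 1))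

theorem mem_zTop {g : Cfsg.Sz F m} : g ∈ zSub hF ⊤ ↔ ∃ b, g = tS hF 0 b := by
  rw [mem_zSub]
  constructor
  · rintro ⟨b, _, h⟩; exact ⟨b, h⟩
  · rintro ⟨b, h⟩; exact ⟨b, trivial, h⟩

theorem zTop_le_TT : zSub hF ⊤ ≤ TT hF := by
  intro g hg
  obtain ⟨b, rfl⟩ := (mem_zTop hF).1 hg
  exact tS_mem_TT hF 0 b

theorem card_zTop : Nat.card (zSub hF (⊤ : AddSubgroup F)) = Nat.card F := by
  rw [card_zSub]
  exact Nat.card_congr AddSubgroup.topEquiv.toEquiv

theorem tS_mem_normalizer_zTop (a b : F) :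
    tS hF a b ∈ normalizer ((zSub hF ⊤ : Subgroup (Cfsg.Sz F m)) : Set (Cfsg.Sz F m)) := by
  apply mem_normalizer_of_map_conj_le
  rintro _ ⟨x, hx, rfl⟩
  obtain ⟨c, rfl⟩ := (mem_zTop hF).1 hx
  rw [mem_zTop]
  have h1 := conj_tS_zero hF a b 1 c
  rw [hS_one, mul_one] at h1
  exact ⟨_, h1⟩

theorem hS_mem_normalizer_zTop (μ : Fˣ) :
    hS hF μ ∈ normalizer ((zSub hF ⊤ : Subgroup (Cfsg.Sz F m)) : Set (Cfsg.Sz F m)) := by
  apply mem_normalizer_of_map_conj_le
  rintro _ ⟨x, hx, rfl⟩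
  obtain ⟨c, rfl⟩ := (mem_zTop hF).1 hx
  rw [mem_zTop]
  have h1 := conj_tS_zero hF 0 0 μ c
  rw [tS_zero, one_mul] at h1
  exact ⟨_, h1⟩

include hm in
theorem mem_zTop_of_sq {x : Cfsg.Sz F m} (hx : x * x = 1) {g : Cfsg.Sz F m} (hg : x ∈ cj g (TT hF)) :
    x ∈ cj g (zSub hF ⊤) := by
  rw [mem_cj] at hg ⊢
  rw [mem_zTop]
  apply eq_tS_zero_of_sq hF hm (TT_le_stab hF hg)
  calc _ = g⁻¹ * (x * x) * g := by group
    _ = 1 := by rw [hx]; group

include hm in
theorem exists_cj_of_sq {x : Cfsg.Sz F m} (hx : x * x = 1) : ∃ g, x ∈ cj g (zSub hF ⊤) := by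
  have hp : IsPGroup 2 (zpowers x) := by
    rintro ⟨y, hy⟩
    obtain ⟨k, rfl⟩ := hy
    refine ⟨1, Subtype.ext ?_⟩
    show (x ^ k) ^ 2 ^ 1 = 1
    rw [← zpow_natCast, ← zpow_mul, mul_comm, zpow_mul]
    have : x ^ ((2 ^ 1 : ℕ) : ℤ) = 1 := by
      rw [zpow_natCast, pow_one, pow_two, hx]
    rw [this, one_zpow]
  obtain ⟨P, hP⟩ := hp.exists_le_sylow
  obtain ⟨g, hg⟩ := exists_sylow_eq hF hm P
  refine ⟨g, mem_zTop_of_sq hm hF hx ?_⟩
  rw [← hg]
  exact hP (mem_zpowers x)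

include hm in
theorem normalizer_zTop_le {g : Cfsg.Sz F m}
    (hg : g ∈ normalizer ((zSub hF ⊤ : Subgroup (Cfsg.Sz F m)) : Set (Cfsg.Sz F m))) :
    g • oinf F m = oinf F m := by
  have h1 : tS hF 0 1 ∈ zSub hF ⊤ := (mem_zTop hF).2 ⟨1, rfl⟩
  have h2 := (mem_normalizer_iff.1 hg _).1 h1
  apply fix_of_conj_mem hF (zTop_le_TT hF h1) _ (zTop_le_TT hF h2)
  intro h
  exact one_ne_zero ((tS_eq_one_iff hF).1 h).2

include hm in
theorem exists_conj_sz {V : Subgroup (Cfsg.Sz F m)} (hel : IsElementaryAbelian 2 V)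
    (hc : Nat.card V = Nat.card F) :
    ∃ a, V = (zSub hF ⊤ : Subgroup (Cfsg.Sz F m)).map (MulAut.conj a).toMonoidHom := by
  have hVp : IsPGroup 2 V := IsElementaryAbelian.isPGroup' hel
  obtain ⟨P, hP⟩ := hVp.exists_le_sylow
  obtain ⟨g, hg⟩ := exists_sylow_eq hF hm P
  refine ⟨g, ?_⟩
  apply Subgroup.eq_of_le_of_card_ge
  · intro x hx
    have h1 := (isElementaryAbelian_iff.1 hel).2 x hx
    rw [pow_two] at h1
    apply mem_zTop_of_sq hm hF h1
    rw [← hg]; exact hP hx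
  · rw [H47.card_map_conj, card_zTop, hc]

include hm in
theorem model_sz : Model 2 (zSub hF ⊤ : Subgroup (Cfsg.Sz F m)) := by
  constructor
  · intro h hh hh2
    left
    have hh1 : h ≠ 1 := by
      rintro rfl
      rw [orderOf_one] at hh
      exact Nat.not_prime_one hh
    have hnot2 : ∀ g, h ∉ cj g (TT hF) := by
      intro g hg
      have h1 : IsPGroup 2 (cj g (TT hF)) := (isPGroup_TT hF).map _
      obtain ⟨n, hn⟩ := IsPGroup.iff_orderOf.1 h1 ⟨h, hg⟩
      rw [orderOf_mk] at hn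
      rw [hn] at hh hh2
      have h2 := (Nat.prime_dvd_prime_iff_eq Nat.prime_two hh).1 (by
        apply dvd_pow_self
        rintro rfl
        exact Nat.not_prime_one hh)
      exact hh2 h2.symm
    obtain ⟨K, hK, hhK, -⟩ := exists_comp hm hF hh1
    have hcyc : IsCyc hF K := by
      rcases hK with ⟨g, rfl⟩ | hK
      · exact absurd hhK (hnot2 g)
      · exact hK
    have hsc := hcyc.selfCent hm hF
    have hodd := hcyc.odd hm hF
    have heven : 2 ∣ Nat.card (normalizer (K : Set (Cfsg.Sz F m))) := by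
      rcases hcyc with ⟨g, rfl⟩ | hT
      · rw [card_normalizer_cj, card_normalizer_HH hF hm]
        exact dvd_mul_right _ _
      · rw [(torus_card hm hF hT).2]
        exact dvd_mul_of_dvd_left (by norm_num) _
    have : Fact (Nat.Prime 2) := ⟨Nat.prime_two⟩
    obtain ⟨⟨t, htN⟩, hto⟩ := exists_prime_orderOf_dvd_card' 2 heven
    rw [orderOf_mk] at hto
    have hinv := inverts_of_selfCent hsc hodd hto htN h hhK
    have ht2 : t * t = 1 := by rw [← pow_two, ← hto]; exact pow_orderOf_eq_one t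
    have hti : t⁻¹ = t := inv_eq_of_mul_eq_one_left ht2
    have ht1 : t ≠ 1 := by
      rintro rfl
      rw [orderOf_one] at hto
      norm_num at hto
    have hht2 : (h * t) * (h * t) = 1 := by
      rw [hti] at hinv
      calc (h * t) * (h * t) = h * (t * h * t) := by group
        _ = 1 := by rw [hinv, mul_inv_cancel]
    have hht1 : h * t ≠ 1 := by
      intro h3
      have h4 : h = t := by
        rw [mul_eq_one_iff_eq_inv] at h3
        rw [h3, hti]
      apply hh2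
      rw [h4, hto]
    obtain ⟨u, hu⟩ := exists_cj_of_sq hm hF hht2
    obtain ⟨v, hv⟩ := exists_cj_of_sq hm hF ht2
    refine ⟨u, v, h * t, t, ?_, hu, hv, hht1, ht1, ?_⟩
    · intro heq
      have hu' : h * t ∈ cj v (zSub hF ⊤) := by
        have := hu
        rw [cj, heq] at this
        exact this
      have h3 : h * t * t ∈ cj v (zSub hF ⊤) := mul_mem hu' hv
      rw [mul_assoc, ht2, mul_one] at h3
      exact hnot2 v (map_mono (zTop_le_TT hF) h3)
    · rw [mul_assoc, ht2, mul_one]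
  · intro V hV hNV hel hne
    have hel' := (isElementaryAbelian_iff.1 hel).2
    have hVU : V ≤ zSub hF ⊤ := by
      intro x hx
      rw [mem_zTop]
      apply eq_tS_zero_of_sq hF hm (normalizer_zTop_le hm hF (hV hx))
      rw [← pow_two]; exact hel' x hx
    apply le_antisymm hVU
    obtain ⟨x, hx, hx1⟩ : ∃ x ∈ V, x ≠ 1 := by
      by_contra! h
      exact hne (eq_bot_iff.2 fun y hy => by rw [mem_bot]; exact h y hy)
    obtain ⟨b, rfl⟩ := (mem_zTop hF).1 (hVU hx)
    have hb : b ≠ 0 := fun h => hx1 (by rw [h, tS_zero])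
    intro y hy
    obtain ⟨c, rfl⟩ := (mem_zTop hF).1 hy
    by_cases hc : c = 0
    · rw [hc, tS_zero]; exact one_mem V
    · obtain ⟨ν, hν⟩ := exists_sq_theta (m := m) hF (Units.mk0 (c / b) (div_ne_zero hc hb))
      have h1 := (mem_normalizer_iff.1 (hNV (hS_mem_normalizer_zTop hF ν)) _).1 hx
      have h2 := conj_tS_zero hF 0 0 ν b
      rw [tS_zero, one_mul, hν, Units.val_mk0] at h2
      rw [h2] at h1
      have h3 : c / b * b = c := by field_simp
      rwa [h3] at h1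

end

end Cfsg.Agent.H48
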