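import Mathlib
import Cfsg.Prelude.Def_LocalStructure
import Cfsg.Agent.H48.FLmodel
import Cfsg.Agent.H48.FLdih
import Cfsg.Agent.H48.FLsl2
import Cfsg.Agent.H48.FLsz
import Cfsg.Agent.H47.Asym
import Cfsg.Agent.SzLie.Order

set_option autoImplicit false
open Cfsg Subgroup Cfsg.Agent.H47
open scoped commutatorElement

namespace Cfsg.Agent.H48

/-- no group of order 20 is generated by the conjugates of a subgroup of order 2 -/
theorem false_of_card_twenty {X : Type*} [Group X] (hX : Nat.card X = 20) {U : Subgroup X}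
    (hU : Nat.card U = 2) (hn : normalClosure (U : Set X) = ⊤) : False := by
  have hf : Finite X := Nat.finite_of_card_ne_zero (by rw [hX]; norm_num)
  have h5 : Fact (Nat.Prime 5) := ⟨by norm_num⟩
  have h2 : Fact (Nat.Prime 2) := ⟨by norm_num⟩
  obtain ⟨P⟩ : Nonempty (Sylow 5 X) := inferInstance
  have hcard : Nat.card P = 5 := by
    rw [Sylow.card_eq_multiplicity, hX]
    have : (20 : ℕ).factorization 5 = 1 := by
      rw [show (20 : ℕ) = 5 * 4 by norm_num, Nat.factorization_mul (by norm_num) (by norm_num)]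
      rw [Finsupp.add_apply, Nat.Prime.factorization_self (by norm_num)]
      rw [Nat.factorization_eq_zero_of_not_dvd (by norm_num)]
    rw [this, pow_one]
  have hidx : (P : Subgroup X).index = 4 := by
    have := (P : Subgroup X).card_mul_index
    rw [hcard, hX] at this
    omega
  have hns : Nat.card (Sylow 5 X) = 1 := by
    have h3 : Nat.card (Sylow 5 X) ∣ 4 := by rw [← hidx]; exact P.card_dvd_index
    have h4 := card_sylow_modEq_one 5 X
    have h6 := Nat.le_of_dvd (by norm_num) h3
    unfold Nat.ModEq at h4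
    interval_cases (Nat.card (Sylow 5 X)) <;> omega
  have hPn : (P : Subgroup X).Normal := by
    have : Subsingleton (Sylow 5 X) := (Nat.card_eq_one_iff_unique.1 hns).1
    exact P.normal_of_subsingleton
  have hq : Nat.card (X ⧸ (P : Subgroup X)) = 2 ^ 2 := by
    rw [← Subgroup.index_eq_card, hidx]; norm_num
  have hcomm := IsPGroup.isMulCommutative_of_card_eq_prime_sq hq
  set V := U.map (QuotientGroup.mk' (P : Subgroup X)) with hV
  have hVn : V.Normal := by
    constructor
    intro x hx g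
    have : g * x * g⁻¹ = x := by
      rw [hcomm.is_comm.comm g x]; group
    rw [this]; exact hx
  have h3 : V = ⊤ := by
    have h4 : (⊤ : Subgroup X) ≤ V.comap (QuotientGroup.mk' (P : Subgroup X)) := by
      rw [← hn]
      apply normalClosure_le_normal
      exact fun x hx => ⟨x, hx, rfl⟩
    rw [eq_top_iff]
    intro y _
    obtain ⟨x, rfl⟩ := QuotientGroup.mk'_surjective _ y
    exact h4 trivial
  have h4 : Nat.card V ∣ Nat.card U := Subgroup.card_map_dvd _ _
  rw [h3, Subgroup.card_top, hq, hU] at h4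
  norm_num at h4

section
variable {Γ : Type*} [Group Γ] {p : ℕ} [Finite Γ] [Fact p.Prime] {Y : Subgroup Γ}

theorem FL.map_ne_bot (f : FL p Y) {X : Type*} [Group X] (π : Γ →* X) (hker : π.ker = pCore p Γ) :
    Y.map π ≠ ⊥ := by
  intro h
  rw [Subgroup.map_eq_bot_iff, hker] at h
  have h1 := f.min.1
  have hn := pCore_normal p Γ
  have h2 : (⊤ : Subgroup Γ) ≤ pCore p Γ := by
    rw [← h1]; exact normalClosure_le_normal h
  apply f.proper
  rw [eq_top_iff]
  exact h2.trans f.norm

omit [Finite Γ] [Fact p.Prime] in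
theorem isElementaryAbelian_map {X : Type*} [Group X] (π : Γ →* X) (h : IsElementaryAbelian p Y) :
    IsElementaryAbelian p (Y.map π) := by
  have h1 := isElementaryAbelian_iff.1 h
  rw [isElementaryAbelian_iff]
  refine ⟨?_, ?_⟩
  · rintro _ ⟨x, hx, rfl⟩ _ ⟨y, hy, rfl⟩
    rw [← map_mul, h1.1 x hx y hy, map_mul]
  · rintro _ ⟨x, hx, rfl⟩
    rw [← map_pow, h1.2 x hx, map_one]

theorem FL.exists_model (f : FL p Y)
    (h : (∃ (F : Type) (_ : Field F) (_ : Fintype F),
        Fintype.card F = (pCore p Γ).relIndex Y ∧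
          Nonempty (Γ ⧸ pCore p Γ ≃* Matrix.SpecialLinearGroup (Fin 2) F)) ∨
      (p = 2 ∧ ∃ (F : Type) (_ : Field F) (_ : Fintype F) (m : ℕ),
        Fintype.card F = 2 ^ (2 * m + 1) ∧
          Fintype.card F = (pCore p Γ).relIndex Y ∧
            Nonempty (Γ ⧸ pCore p Γ ≃* ↥(Lie.Sz F (2 ^ (m + 1))))) ∨
      (p = 2 ∧ ∃ r : ℕ, r.Prime ∧ r ≠ 2 ∧ Nonempty (Γ ⧸ pCore p Γ ≃* DihedralGroup r))) :
    ∃ (X : Type) (_ : Group X) (π : Γ →* X), Function.Surjective π ∧ π.ker = pCore p Γ ∧
      Model p (Y.map π) := by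
  have hp : p.Prime := Fact.out
  have mk : ∀ {X : Type} [Group X] (e : Γ ⧸ pCore p Γ ≃* X),
      Function.Surjective (e.toMonoidHom.comp (QuotientGroup.mk' (pCore p Γ))) ∧
      (e.toMonoidHom.comp (QuotientGroup.mk' (pCore p Γ))).ker = pCore p Γ := by
    intro X _ e
    refine ⟨e.surjective.comp (QuotientGroup.mk'_surjective _), ?_⟩
    ext x
    rw [MonoidHom.mem_ker]
    show e _ = 1 ↔ _
    rw [MulEquiv.map_eq_one_iff]
    exact QuotientGroup.eq_one_iff x
  rcases h with ⟨F, _, _, hF, ⟨e⟩⟩ | ⟨rfl, F, _, _, m, hF, hF', ⟨e⟩⟩ | ⟨rfl, r, hr, hr2, ⟨e⟩⟩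
  · obtain ⟨hπ, hker⟩ := mk e
    set π := e.toMonoidHom.comp (QuotientGroup.mk' (pCore p Γ)) with hπd
    have hcard : Nat.card (Y.map π) = Nat.card F := by
      rw [← relIndex_ker, hker, ← hF, Nat.card_eq_fintype_card]
    have hYp : IsPGroup p (Y.map π) := f.pg.map π
    -- the characteristic
    have hch : CharP F p := by
      obtain ⟨n, hn⟩ := IsPGroup.iff_card.1 hYp
      rw [hcard, Nat.card_eq_fintype_card] at hn
      obtain ⟨c, hc⟩ := CharP.exists F
      obtain ⟨k, hc', hk⟩ := FiniteField.card F c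
      have : c = p := by
        have h1 : c ∣ p ^ n := by rw [← hn, hk]; exact dvd_pow_self c k.ne_zero
        exact (Nat.prime_dvd_prime_iff_eq hc' hp).1 (hc'.dvd_of_dvd_pow h1)
      rwa [this] at hc
    obtain ⟨a, ha⟩ := exists_conj_sl2 (p := p) hYp hcard
    obtain ⟨π', h1, h2, h3⟩ := exists_model_of_conj π hπ hker (model_sl2 (p := p)) ha
    exact ⟨_, _, π', h1, h2, h3⟩
  · have hel := f.el
    rcases Nat.eq_zero_or_pos m with rfl | hm
    · exfalso
      obtain ⟨hπ, hker⟩ := mk e
      set π := e.toMonoidHom.comp (QuotientGroup.mk' (pCore 2 Γ)) with hπd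
      have hcard : Nat.card (Y.map π) = 2 := by
        rw [← relIndex_ker, hker, ← hF', hF]; norm_num
      have hX := SzLie.card_sz (SzLie.szE_of_card hF)
      rw [hF] at hX
      apply false_of_card_twenty hX hcard
      rw [eq_top_iff]
      intro x _
      obtain ⟨y, rfl⟩ := hπ x
      have h1 : (normalClosure (Y : Set Γ)) ≤ (normalClosure ((Y.map π : Subgroup _) : Set _)).comap π := by
        apply normalClosure_le_normal
        intro z hz
        exact subset_normalClosure ⟨z, hz, rfl⟩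
      rw [f.min.1] at h1
      exact h1 trivial
    · have hch := Suz.charP_two hF
      obtain ⟨hπ, hker⟩ := mk (e.trans (Suz.lieEquiv hm hF).symm)
      set π := (e.trans (Suz.lieEquiv hm hF).symm).toMonoidHom.comp (QuotientGroup.mk' (pCore 2 Γ)) with hπd
      have hcard : Nat.card (Y.map π) = Nat.card F := by
        rw [← relIndex_ker, hker, ← hF', Nat.card_eq_fintype_card]
      obtain ⟨a, ha⟩ := exists_conj_sz hm hF (isElementaryAbelian_map π f.el) hcard
      obtain ⟨π', h1, h2, h3⟩ := exists_model_of_conj π hπ hker (model_sz hm hF) ha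
      exact ⟨_, _, π', h1, h2, h3⟩
  · obtain ⟨hπ, hker⟩ := mk e
    set π := e.toMonoidHom.comp (QuotientGroup.mk' (pCore 2 Γ)) with hπd
    have hrf : Fact r.Prime := ⟨hr⟩
    obtain ⟨a, ha⟩ := exists_conj_dihedral hr2 (isElementaryAbelian_map π f.el) (f.map_ne_bot π hker)
    obtain ⟨π', h1, h2, h3⟩ := exists_model_of_conj π hπ hker (model_dihedral hr2) ha
    exact ⟨_, _, π', h1, h2, h3⟩

end

section
variable {G : Type*} [Group G] [Finite G] {p : ℕ}

theorem FL.of_isInFrakL {M L : Subgroup G} (h : IsInFrakL p M L) :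
    FL p ((largestPReducedOf p M).subgroupOf L) ∧
      (pCore p ↥L).relIndex ((largestPReducedOf p M).subgroupOf L) =
        (largestPReducedOf p M ⊓ pCoreOf p L).relIndex (largestPReducedOf p M) := by
  obtain ⟨h1, h2, h3, h4, h5, h6, h7⟩ := h
  have hel : IsElementaryAbelian p (largestPReducedOf p M) := (pRed_largestPReducedOf p M).el
  set Y := largestPReducedOf p M with hY
  have hinj : Function.Injective L.subtype := Subtype.coe_injective
  have hO : (pCoreOf p L).subgroupOf L = pCore p ↥L := comap_map_eq_self_of_injective hinj _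
  have hYn : (normalizer (Y : Set G)).subgroupOf L = normalizer ((Y.subgroupOf L : Subgroup L) : Set L) :=
    subgroupOf_normalizer_eq h1
  refine ⟨⟨?_, h4, ?_, ?_, h5, ?_, ?_⟩, ?_⟩
  · have h8 := isElementaryAbelian_iff.1 hel
    rw [isElementaryAbelian_iff]
    exact ⟨fun x hx y hy => Subtype.ext (h8.1 x hx y hy), fun x hx => Subtype.ext (h8.2 x hx)⟩
  · have h8 : pCore p ↥L = normalClosure (((Y ⊓ pCoreOf p L).subgroupOf L : Subgroup ↥L) : Set ↥L) :=
      map_injective hinj h2
    have h9 : (Y ⊓ pCoreOf p L).subgroupOf L = pCore p ↥L ⊓ Y.subgroupOf L := by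
      rw [← hO, inf_comm]
      rfl
    rw [h9] at h8
    exact h8
  · rw [← hYn, ← hO]
    exact comap_mono h3
  · intro h8
    rw [← hYn, subgroupOf_eq_top] at h8
    exact h6.1.ne (inf_eq_left.2 h8)
  · intro X hX hXt
    rw [← hYn]
    have h8 : Y ≤ X.map L.subtype := by
      rw [← map_subgroupOf_eq_of_le h1]; exact map_mono hX
    have h9 : X.map L.subtype < L := by
      refine lt_of_le_of_ne (map_subtype_le X) fun h10 => hXt ?_
      apply map_injective hinj
      rw [h10, ← MonoidHom.range_eq_map, range_subtype]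
    have h10 := h6.2 _ h8 h9
    intro x hx
    exact (h10 ⟨x, hx, rfl⟩).2
  · rw [inf_relIndex_left, ← relIndex_map_map_of_injective _ _ hinj, map_subgroupOf_eq_of_le h1]
    rfl

end

end Cfsg.Agent.H48
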