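import Cfsg.Agent.H48.GeC

/-! PIECE O1: (A) and |Z β| = 2.  Imports only GeA, GeB, GeC. `b ≥ 3` odd.

(A) By reversal (`Arc.rev`) it suffices: for an arc `a` with `ty (a 0) = true` and
`Z (a 0) ≰ Q (a b)`: `Z (a (b+1)) ≰ Q (a 1)` (for both directions; `b+1` even so `a (b+1)` type 1).
Suppose `Z (a (b+1)) ≤ Q (a 1)`. `x ∈ Z (a 0) \ Q (a b)` fixes `a b`, `a (b-1)`, so swaps
`μ = a (b+1)` and the third neighbour μ* of `a b`.
 Case 1: `Z μ ≤ Q (a 0)`: then every `y ∈ Z μ` commutes with x (Q_comm). `faith'` for the edge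
 (μ, a b), N = Z μ (x moves μ and centralizes N; elements of G_μ normalize N; N ≤ Q μ): N = ⊥,
 contradiction.
 Case 2: `y ∈ Z μ \ Q (a 0)`: `y ∈ Q (a 1)` by assumption, y fixes a (b+1), …, a 0 and moves
 a (-1): `Ex (b+1) true` (reversed arc), so `Ex b true` (Ex.mono); x gives `Ex b false`. `Tr (b+1)` by
 tr_of_ex. So some g maps a 0 … a b to a (b+1) … a 1, and conjugates
 `¬ Z (a 0) ≤ Q (a b)` to `¬ Z (a (b+1)) ≤ Q (a 1)`.

(k1) Take a critical arc a (`ty (a 0) = true`, `Z (a 0) ≰ Q (a b)`), by (A) `Z (a (b+1)) ≰ Q (a 1)`.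
 x ∈ Z (a 0) \ Q (a b), y ∈ Z (a (b+1)) \ Q (a 1).
 Case I: all w ∈ Z (a 0) ∩ Q (a b) are in Q (a (b+1)): then w commutes with y. y fixes a 1, a 2 so
 swaps a 0 and the third neighbour a0' of a 1, so w ∈ Z a0'. For g ∈ Q (a 0) \ Q (a 1)
 (exists_Q_notMem, `big`): g commutes with w (Q_comm) and swaps a 2 and a0': w ∈ Z (a 2). So
 `Z (a 0) ∩ Q (a b) ≤ Y (a 1)` where `Y β = ⋂_{δ ∈ Δ(β)} Z δ`; |Z (a 0) : Y (a 1)| ≤ 2; by `tr_one`
 |Z γ : Y β| ≤ 2 for all edges (ty γ = true). `⋂_{β ∈ Δ(γ)} Y β = ⊥` by `faith'` on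
 an edge (γ, β): normalized by G_γ, and some h ∈ Q δ \ Q β (δ ∈ Δ(β), δ ≠ γ) moves γ and
 centralizes Z δ. So |Z γ| ≤ 8. For β ≠ β' ∈ Δ(γ), `Z β × Z β' → Z γ` (product) is injective by
 `sib`, so |Z β|² ≤ 8 (|Z β| = |Z β'| by conjugation), |Z β| ≤ 2.
 Case II: w ∈ Z (a 0) ∩ Q (a b), w ∉ Q (a (b+1)): w fixes a 0, …, a (b+1) and moves a (b+2):
 `Ex (b+1) true`; x: `Ex b false`; so `Tr (b+1)`. Claim Z (a 1) ∩ Z (a b) = 1: `Tr.rot` on the arc
 (a 1, …, a (b-1)) (length b-2) gives g fixing a 1, …, a (b-1) moving a b to the third neighbour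
 w' of a (b-1); g commutes with n ∈ Z (a 1) (Z_cen) so n ∈ Z (a b) ∩ Z w' = 1 (sib).
 Let v ∈ Z (a (b+1)) ∩ Q (a 1): v fixes a 0, a 1 so `w * (v * w * v⁻¹) ∈ Z (a 1)` (comm_mem), w fixes
 a b, a (b+1) so `v * (w * v * w⁻¹) ∈ Z (a b)`; these are (wv)^2 and (vw)^2 = inverse, so both are 1,
 w v = v w, so v ∈ Z (a b) (mem_of_comm, w ∉ Q (a (b+1))). For ε ∈ Δ(a (b+1)), ε ≠ a b and x1, x2 ∈
 Z ε, both ≠ 1: x1, x2 ∉ Q (a 1) (else ∈ Z (a b), sib), so x1 x2 ∈ Q (a 1) (mul_mem_Q; they fix a 1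
 and a 2), so x1 x2 ∈ Z (a b) ∩ Z ε = 1, x1 = x2 (x2² = 1). By `trans` for all type-2 vertices. -/

set_option autoImplicit false

open MulAction

namespace Cfsg.Agent.H48.Ge

variable {G V : Type*} [Group G] [MulAction G V]

namespace Geo

variable {Γ : Geo G V} {b : ℤ}

theorem OH.tyb (h : Γ.OH b) {a : ℤ → V} (ha : Γ.Arc a) (h0 : Γ.ty (a 0) = true) :
    Γ.ty (a b) = false := by
  rw [ha.ty_odd (i := 0) (j := b) (by simpa using h.odd), h0]; rfl

theorem OH.tyb1 (h : Γ.OH b) {a : ℤ → V} (ha : Γ.Arc a) (h0 : Γ.ty (a 0) = true) :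
    Γ.ty (a (b + 1)) = true := by
  rw [ha.ty_succ, h.tyb ha h0]; rfl

/-- an element of `Z (a 0)` outside `Q (a b)` moves `a (b+1)` -/
theorem OH.moves (h : Γ.OH b) {a : ℤ → V} (ha : Γ.Arc a) (h0 : Γ.ty (a 0) = true) {x : G}
    (hx : x ∈ Γ.Z (a 0)) (hx' : x ∉ Γ.Q (a b)) : x • a (b + 1) ≠ a (b + 1) := by
  have hb := h.hb
  intro e
  exact hx' (Γ.mem_Q_of_fix (ha.adj' (i := b) (j := b - 1) (Or.inr (by ring)))
    (ha.adj' (i := b) (j := b + 1) (Or.inl rfl)) (ha.ne' (i := b - 1) (j := b + 1) (Or.inl (by ring)))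
    (h.low.fix ha h0 (by omega) (by omega) hx) (h.low.fix ha h0 (by omega) (by omega) hx) e)

theorem OH.ex_false (h : Γ.OH b) {a : ℤ → V} (ha : Γ.Arc a) (h0 : Γ.ty (a 0) = true) {x : G}
    (hx : x ∈ Γ.Z (a 0)) (hx' : x ∉ Γ.Q (a b)) : Γ.Ex b false :=
  ⟨a, ha, h.tyb ha h0, x, fun i hi hi' => h.low.fix ha h0 (by omega) (by omega) hx,
    h.moves ha h0 hx hx'⟩

theorem OH.core (h : Γ.OH b) {a : ℤ → V} (ha : Γ.Arc a) (h0 : Γ.ty (a 0) = true)
    (hc : ¬ Γ.Z (a 0) ≤ Γ.Q (a b)) : ¬ Γ.Z (a (b + 1)) ≤ Γ.Q (a 1) := by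
  have hb := h.hb
  have hty := h.tyb1 ha h0
  obtain ⟨x, hx, hx'⟩ := SetLike.not_le_iff_exists.mp hc
  intro hle
  by_cases hcase : Γ.Z (a (b + 1)) ≤ Γ.Q (a 0)
  · apply Γ.Z_ne (a (b + 1))
    have hadj : Γ.adj (a (b + 1)) (a b) := ha.adj' (Or.inr rfl)
    refine Γ.faith' (u := a (b + 1)) (v := a b) _ hadj ?_ ?_ ?_ ?_
    · intro n hn
      exact ⟨Γ.Z_fix hn, Γ.Q_fix' (h.low.Z_le_Q (by omega) n hn) hadj⟩
    · intro t ht _ n hn
      have := Γ.Z_conj t hn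
      rwa [ht] at this
    · obtain ⟨g, hg, hg'⟩ := Γ.loc hadj (ha.adj' (i := b + 1) (j := b + 2) (Or.inl (by ring)))
      refine ⟨g, hg, ?_, fun n hn => ?_⟩
      · rw [hg']; exact (ha.ne b).symm
      · have := Γ.Z_conj g hn
        rwa [hg] at this
    · refine ⟨x, h.low.fix ha h0 (by omega) (by omega) hx, h.moves ha h0 hx hx', fun n hn => ?_⟩
      have h1 := Γ.Q_comm (hcase hn) hx
      rw [← h1, mul_inv_cancel_right]
      exact hn
  · obtain ⟨y, hy, hy'⟩ := SetLike.not_le_iff_exists.mp hcase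
    have hfix : ∀ j : ℤ, 1 ≤ j → j ≤ b + 1 → y • a j = a j := fun j h1 h2 =>
      h.low.fix ha hty (by omega) (by omega) hy
    have hy0 : y • a 0 = a 0 := Γ.Q_fix' (hle hy) (ha.adj' (i := 1) (j := 0) (Or.inr (by ring)))
    have hm : y • a (-1) ≠ a (-1) := by
      intro e
      exact hy' (Γ.mem_Q_of_fix (ha.adj' (i := 0) (j := 1) (Or.inl (by ring)))
        (ha.adj' (i := 0) (j := -1) (Or.inr (by ring)))
        (ha.ne' (i := 1) (j := -1) (Or.inr (by ring))) hy0 (hfix 1 (by omega) (by omega)) e)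
    have hEt : Γ.Ex (b + 1) true := by
      refine ⟨fun i => a (b + 1 - i), ha.rev (b + 1), ?_, y, ?_, ?_⟩
      · show Γ.ty (a (b + 1 - (b + 1))) = true
        rw [sub_self]; exact h0
      · intro i hi hi'
        show y • a (b + 1 - i) = a (b + 1 - i)
        rcases eq_or_lt_of_le hi' with e | e
        · rw [e, sub_self]; exact hy0
        · exact hfix _ (by omega) (by omega)
      · show y • a (b + 1 - (b + 1 + 1)) ≠ a (b + 1 - (b + 1 + 1))
        have e : b + 1 - (b + 1 + 1) = -1 := by ring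
        rw [e]; exact hm
    have hTr : Γ.Tr (b + 1) := Γ.tr_of_ex (fun τ => by
      cases τ
      · exact h.ex_false ha h0 hx hx'
      · exact Gr.Ex.mono Γ.toGr hEt (by omega) (by omega))
    obtain ⟨g, hg⟩ := hTr a (fun i => a (b + 1 - i)) ha (ha.rev (b + 1)) (by
      show Γ.ty (a 0) = Γ.ty (a (b + 1 - 0))
      rw [sub_zero, hty, h0])
    have hg0 : g • a 0 = a (b + 1) := by
      have := hg 0 le_rfl (by omega)
      simpa using this
    have hgb : g • a b = a 1 := by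
      have := hg b (by omega) (by omega)
      have e : b + 1 - b = 1 := by ring
      rw [e] at this
      exact this
    apply hx'
    rw [← Γ.Q_conj_iff g, hgb]
    apply hle
    rw [← hg0]
    exact Γ.Z_conj g hx

theorem OH.A (h : Γ.OH b) : AProp Γ b := by
  intro a i ha hi
  have hb := h.hb
  constructor
  · intro hc
    have hsh := ha.shift (i - 1)
    have h0 : Γ.ty ((fun j => a (j + (i - 1))) 0) = true := by
      show Γ.ty (a (0 + (i - 1))) = true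
      have e := ha.ty_succ (i - 1)
      rw [sub_add_cancel, hi] at e
      rw [zero_add]
      cases h1 : Γ.ty (a (i - 1)) with
      | true => rfl
      | false => rw [h1] at e; simp at e
    have := h.core hsh h0 (by
      show ¬ Γ.Z (a (0 + (i - 1))) ≤ Γ.Q (a (b + (i - 1)))
      rw [zero_add, show b + (i - 1) = i + b - 1 by ring]
      exact hc)
    have this' : ¬ Γ.Z (a (b + 1 + (i - 1))) ≤ Γ.Q (a (1 + (i - 1))) := this
    rwa [show b + 1 + (i - 1) = i + b by ring, show 1 + (i - 1) = i by ring] at this'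
  · intro hc
    have hrev := ha.rev (i + b)
    have h0 : Γ.ty ((fun j => a (i + b - j)) 0) = true := by
      show Γ.ty (a (i + b - 0)) = true
      rw [sub_zero, ha.ty_odd (i := i) (j := i + b) (by simpa using h.odd), hi]; rfl
    have := h.core hrev h0 (by
      show ¬ Γ.Z (a (i + b - 0)) ≤ Γ.Q (a (i + b - b))
      rw [sub_zero, add_sub_cancel_right]
      exact hc)
    have this' : ¬ Γ.Z (a (i + b - (b + 1))) ≤ Γ.Q (a (i + b - 1)) := this
    rwa [show i + b - (b + 1) = i - 1 by ring] at this'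

/-- elements lying in `Z δ` for all vertices `δ` at distance 2 or 0 from `γ` -/
def YY (Γ : Geo G V) (γ : V) : Subgroup G where
  carrier := {w | ∀ β, Γ.adj γ β → ∀ δ, Γ.adj β δ → w ∈ Γ.Z δ}
  one_mem' := fun _ _ _ _ => Subgroup.one_mem _
  mul_mem' := fun hx hy β hβ δ hδ => Subgroup.mul_mem _ (hx β hβ δ hδ) (hy β hβ δ hδ)
  inv_mem' := fun hx β hβ δ hδ => Subgroup.inv_mem _ (hx β hβ δ hδ)

theorem OH.YY_bot (h : Γ.OH b) {γ β : V} (hadj : Γ.adj γ β) : YY Γ γ = ⊥ := by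
  have hb := h.hb
  have hnorm : ∀ t : G, t • γ = γ → ∀ n ∈ YY Γ γ, t * n * t⁻¹ ∈ YY Γ γ := by
    intro t ht n hn β' hβ' δ hδ
    have h1 : Γ.adj γ (t⁻¹ • β') := Γ.adj_of_fix (by rw [inv_smul_eq_iff, ht]) hβ'
    have h2 : Γ.adj (t⁻¹ • β') (t⁻¹ • δ) := Γ.adj_smul _ hδ
    have h3 := Γ.Z_conj t (hn _ h1 _ h2)
    rwa [smul_inv_smul] at h3
  obtain ⟨δ, δ', hδ, hδ', h12, h13, h23⟩ := Γ.others (Γ.symm hadj)
  refine Γ.faith' (u := γ) (v := β) _ hadj ?_ ?_ ?_ ?_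
  · intro n hn
    have h1 : n ∈ Γ.Z γ := hn β hadj γ (Γ.symm hadj)
    exact ⟨Γ.Z_fix h1, Γ.Q_fix' (h.low.Z_le_Q (by omega) n h1) hadj⟩
  · intro t ht _ n hn
    exact hnorm t ht n hn
  · obtain ⟨β', β'', hβ', hβ'', k12, k13, k23⟩ := Γ.others hadj
    obtain ⟨g, hg, hg'⟩ := Γ.loc hadj hβ'
    exact ⟨g, hg, by rw [hg']; exact k12.symm, fun n hn => hnorm g hg n hn⟩
  · obtain ⟨g, hg, hg'⟩ := Γ.exists_Q_notMem (Γ.symm hδ) (h.big (Γ.symm hδ))
    have hgδ : g • δ = δ := Γ.Q_fix hg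
    have hgβ : g • β = β := Γ.Q_fix' hg (Γ.symm hδ)
    refine ⟨g, hgβ, ?_, fun n hn => ?_⟩
    · intro e
      exact hg' (Γ.mem_Q_of_fix hδ (Γ.symm hadj) h12.symm hgβ hgδ e)
    · have h1 : n ∈ Γ.Z δ := hn β hadj δ hδ
      have h2 := Γ.Q_comm hg h1
      rw [h2, mul_inv_cancel_right]
      exact hn

/-- Case I -/
theorem OH.k1_of_index (h : Γ.OH b)
    (hP : ∀ γ β : V, Γ.ty γ = true → Γ.adj γ β → ∀ u ∈ Γ.Z γ, ∀ v ∈ Γ.Z γ,
      (∀ δ, Γ.adj β δ → u ∈ Γ.Z δ) ∨ (∀ δ, Γ.adj β δ → v ∈ Γ.Z δ) ∨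
      (∀ δ, Γ.adj β δ → u * v ∈ Γ.Z δ)) : Γ.K1 := by
  classical
  have hb := h.hb
  intro β hβ x hx y hy hx1 hy1
  by_contra hxy
  obtain ⟨γ, _, _, _, _, _, hγ⟩ := Γ.nb β
  have hβγ : Γ.adj β γ := (hγ γ).2 (Or.inl rfl)
  have hγty : Γ.ty γ = true := by rw [Γ.adj_ty hβγ, hβ]; rfl
  obtain ⟨β', β'', hβ', hβ'', k12, k13, k23⟩ := Γ.others (Γ.symm hβγ)
  have hβ'ty : Γ.ty β' = false := by rw [Γ.adj_ty hβ', hγty]; rfl
  obtain ⟨g, hg⟩ := Γ.trans (u := β) (v := β') (by rw [hβ, hβ'ty])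
  have hx' : g * x * g⁻¹ ∈ Γ.Z β' := by
    have := Γ.Z_conj g hx; rwa [hg] at this
  have hy' : g * y * g⁻¹ ∈ Γ.Z β' := by
    have := Γ.Z_conj g hy; rwa [hg] at this
  have hup : Γ.Z β ≤ Γ.Z γ := Γ.Z_up hβ hβγ
  have hup' : Γ.Z β' ≤ Γ.Z γ := Γ.Z_up hβ'ty (Γ.symm hβ')
  let F : Fin 3 → G := ![1, x, y]
  let F' : Fin 3 → G := ![1, g * x * g⁻¹, g * y * g⁻¹]
  have hF : ∀ i, F i ∈ Γ.Z β := by
    intro i; fin_cases i
    · exact Subgroup.one_mem _
    · exact hx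
    · exact hy
  have hF' : ∀ i, F' i ∈ Γ.Z β' := by
    intro i; fin_cases i
    · exact Subgroup.one_mem _
    · exact hx'
    · exact hy'
  have hFi : Function.Injective F := by
    intro i j hij
    fin_cases i <;> fin_cases j <;> simp [F] at hij ⊢
    · exact hx1 hij.symm
    · exact hy1 hij.symm
    · exact hx1 hij
    · exact hxy hij
    · exact hy1 hij
    · exact hxy hij.symm
  have hFi' : Function.Injective F' := by
    intro i j hij
    apply hFi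
    have e : ∀ k, F' k = g * F k * g⁻¹ := by
      intro k; fin_cases k
      · simp [F, F']
      · rfl
      · rfl
    rw [e, e] at hij
    simpa using hij
  let bit : V → G → Bool := fun β u => decide (∀ δ, Γ.adj β δ → u ∈ Γ.Z δ)
  have hbit : ∀ β₀ : V, Γ.adj γ β₀ → ∀ u ∈ Γ.Z γ, ∀ v ∈ Γ.Z γ, bit β₀ u = bit β₀ v →
      ∀ δ, Γ.adj β₀ δ → u * v ∈ Γ.Z δ := by
    intro β₀ h0 u hu v hv he
    rcases hP γ β₀ hγty h0 u hu v hv with h1 | h1 | h1
    · have h2 : bit β₀ u = true := decide_eq_true h1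
      rw [h2] at he
      have h3 := of_decide_eq_true he.symm
      exact fun δ hδ => Subgroup.mul_mem _ (h1 δ hδ) (h3 δ hδ)
    · have h2 : bit β₀ v = true := decide_eq_true h1
      rw [h2] at he
      have h3 := of_decide_eq_true he
      exact fun δ hδ => Subgroup.mul_mem _ (h3 δ hδ) (h1 δ hδ)
    · exact h1
  have hinj : ∀ u ∈ Γ.Z γ, ∀ v ∈ Γ.Z γ, bit β u = bit β v → bit β' u = bit β' v →
      bit β'' u = bit β'' v → u = v := by
    intro u hu v hv h1 h2 h3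
    have h4 : u * v ∈ YY Γ γ := by
      intro β₀ h0 δ hδ
      rcases Γ.nb_cases (Γ.symm hβγ) hβ' hβ'' k12 k13 k23 h0 with rfl | rfl | rfl
      · exact hbit _ h0 u hu v hv h1 δ hδ
      · exact hbit _ h0 u hu v hv h2 δ hδ
      · exact hbit _ h0 u hu v hv h3 δ hδ
    rw [h.YY_bot (Γ.symm hβγ), Subgroup.mem_bot] at h4
    have h5 : v * v = 1 := h.low.Z_sq (by omega) hv
    calc u = u * (v * v) := by rw [h5, mul_one]
      _ = (u * v) * v := by group
      _ = v := by rw [h4, one_mul]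
  let Φ : Fin 3 × Fin 3 → Bool × Bool × Bool := fun p =>
    (bit β (F p.1 * F' p.2), bit β' (F p.1 * F' p.2), bit β'' (F p.1 * F' p.2))
  have hΦ : Function.Injective Φ := by
    rintro ⟨i, j⟩ ⟨i', j'⟩ he
    simp only [Φ, Prod.mk.injEq] at he
    have h1 := hinj _ (Subgroup.mul_mem _ (hup (hF i)) (hup' (hF' j))) _
      (Subgroup.mul_mem _ (hup (hF i')) (hup' (hF' j'))) he.1 he.2.1 he.2.2
    have h2 : (F i')⁻¹ * F i = F' j' * (F' j)⁻¹ := by
      have : F i = F i' * F' j' * (F' j)⁻¹ := by rw [← h1]; group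
      rw [this]; group
    have h3 : (F i')⁻¹ * F i = 1 := by
      apply Γ.sib hγty (Γ.symm hβγ) hβ' k12
      · exact Subgroup.mul_mem _ (Subgroup.inv_mem _ (hF i')) (hF i)
      · rw [h2]; exact Subgroup.mul_mem _ (hF' j') (Subgroup.inv_mem _ (hF' j))
    have h4 : F i = F i' := (inv_mul_eq_one.mp h3).symm
    have h5 : F' j = F' j' := by
      rw [h3] at h2
      exact (mul_inv_eq_one.mp h2.symm).symm
    rw [hFi h4, hFi' h5]
  have := Fintype.card_le_of_injective Φ hΦ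
  simp at this

theorem OH.k1 (h : Γ.OH b) : Γ.K1 := by
  have hb := h.hb
  obtain ⟨a, ha, h0, hc⟩ := h.cr
  have hc' := h.core ha h0 hc
  have hty1 := h.tyb1 ha h0
  have htyb := h.tyb ha h0
  obtain ⟨x, hx, hx'⟩ := SetLike.not_le_iff_exists.mp hc
  obtain ⟨y, hy, hy'⟩ := SetLike.not_le_iff_exists.mp hc'
  have ht1 : Γ.ty (a 1) = false := by
    have := ha.ty_succ 0
    rw [zero_add, h0] at this
    rw [this]; rfl
  by_cases hcase : ∀ w ∈ Γ.Z (a 0), w ∈ Γ.Q (a b) → w ∈ Γ.Q (a (b + 1))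
  · -- Case I
    have hw : ∀ w ∈ Γ.Z (a 0), w ∈ Γ.Q (a b) → ∀ δ, Γ.adj (a 1) δ → w ∈ Γ.Z δ := by
      intro w hw hwb
      have hwy := Γ.Q_comm (hcase w hw hwb) hy
      have h10 : Γ.adj (a 1) (a 0) := ha.adj' (Or.inr (by ring))
      have h12 : Γ.adj (a 1) (a 2) := ha.adj' (Or.inl (by ring))
      have hne : a 0 ≠ a 2 := ha.ne 0
      obtain ⟨c, hc1, hc0, hc2, hcov⟩ := Γ.third h10 h12 hne
      have hyf1 : y • a 1 = a 1 := h.low.fix ha hty1 (by omega) (by omega) hy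
      have hyf2 : y • a 2 = a 2 := h.low.fix ha hty1 (by omega) (by omega) hy
      have hys := Γ.swap_of_notMem h12 h10 hc1 hne.symm hc2.symm hc0.symm hyf1 hyf2 hy'
      have hwc : w ∈ Γ.Z c := by
        have := Γ.Z_conj y hw
        rw [hys.1, ← hwy, mul_inv_cancel_right] at this
        exact this
      obtain ⟨g, hg, hg'⟩ := Γ.exists_Q_notMem (Γ.symm h10) (h.big (Γ.symm h10))
      have hg0 : g • a 0 = a 0 := Γ.Q_fix hg
      have hg1 : g • a 1 = a 1 := Γ.Q_fix' hg (Γ.symm h10)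
      have hgs := Γ.swap_of_notMem h10 hc1 h12 hc0.symm hne hc2 hg1 hg0 hg'
      have hw2 : w ∈ Γ.Z (a 2) := by
        have := Γ.Z_conj g hwc
        rw [hgs.1, Γ.Q_comm hg hw, mul_inv_cancel_right] at this
        exact this
      intro δ hδ
      rcases hcov δ hδ with rfl | rfl | rfl
      · exact hw
      · exact hw2
      · exact hwc
    apply h.k1_of_index
    intro γ β hγ hadj u hu v hv
    obtain ⟨a', ha', ha0, ha1⟩ := Γ.exists_arc hadj
    obtain ⟨g, hg⟩ := Γ.tr_one a a' ha ha' (by rw [ha0, h0, hγ])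
    have hgγ : g • a 0 = γ := by rw [hg 0 le_rfl (by norm_num), ha0]
    have hgβ : g • a 1 = β := by rw [hg 1 (by norm_num) le_rfl, ha1]
    have hpull : ∀ u ∈ Γ.Z γ, g⁻¹ * u * g ∈ Γ.Z (a 0) := by
      intro u hu
      have := Γ.Z_conj g⁻¹ hu
      rwa [← hgγ, inv_smul_smul, inv_inv] at this
    have hpush : ∀ u : G, (∀ δ, Γ.adj (a 1) δ → g⁻¹ * u * g ∈ Γ.Z δ) →
        ∀ δ, Γ.adj β δ → u ∈ Γ.Z δ := by
      intro u hu δ hδ
      have h1 : Γ.adj (a 1) (g⁻¹ • δ) := by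
        rw [← Γ.adj_smul_iff g, hgβ, smul_inv_smul]; exact hδ
      have := Γ.Z_conj g (hu _ h1)
      rw [smul_inv_smul] at this
      have e : g * (g⁻¹ * u * g) * g⁻¹ = u := by group
      rwa [e] at this
    by_cases hub : g⁻¹ * u * g ∈ Γ.Q (a b)
    · left
      exact hpush u (hw _ (hpull u hu) hub)
    · by_cases hvb : g⁻¹ * v * g ∈ Γ.Q (a b)
      · right; left
        exact hpush v (hw _ (hpull v hv) hvb)
      · right; right
        apply hpush
        have e : g⁻¹ * (u * v) * g = (g⁻¹ * u * g) * (g⁻¹ * v * g) := by group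
        rw [e]
        apply hw
        · exact Subgroup.mul_mem _ (hpull u hu) (hpull v hv)
        · exact Γ.mul_mem_Q (ha.adj' (i := b) (j := b - 1) (Or.inr (by ring)))
            (h.low.fix ha h0 (by omega) (by omega) (hpull u hu))
            (h.low.fix ha h0 (by omega) (by omega) (hpull u hu)) hub
            (h.low.fix ha h0 (by omega) (by omega) (hpull v hv))
            (h.low.fix ha h0 (by omega) (by omega) (hpull v hv)) hvb
  · -- Case II
    push Not at hcase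
    obtain ⟨w, hw, hwb, hwb1⟩ := hcase
    have hadjb : Γ.adj (a (b + 1)) (a b) := ha.adj' (Or.inr rfl)
    have hwf : ∀ j, 0 ≤ j → j ≤ b → w • a j = a j := fun j h1 h2 =>
      h.low.fix ha h0 (by omega) (by omega) hw
    have hwf1 : w • a (b + 1) = a (b + 1) := Γ.Q_fix' hwb (Γ.symm hadjb)
    have hwm : w • a (b + 1 + 1) ≠ a (b + 1 + 1) := by
      intro e
      exact hwb1 (Γ.mem_Q_of_fix hadjb (ha.adj (b + 1)) (by
        have := ha.ne b
        rwa [show b + 2 = b + 1 + 1 by ring] at this) hwf1 (hwf b (by omega) le_rfl) e)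
    have hEt : Γ.Ex (b + 1) true := by
      refine ⟨a, ha, hty1, w, fun i hi hi' => ?_, hwm⟩
      rcases eq_or_lt_of_le hi' with e | e
      · rw [e]; exact hwf1
      · exact hwf i hi (by omega)
    have hTr : Γ.Tr (b + 1) := Γ.tr_of_ex (fun τ => by
      cases τ
      · exact h.ex_false ha h0 hx hx'
      · exact Gr.Ex.mono Γ.toGr hEt (by omega) (by omega))
    -- Z (a 1) ∩ Z (a b) = 1
    have hint : ∀ n ∈ Γ.Z (a 1), n ∈ Γ.Z (a b) → n = 1 := by
      intro n hn hn'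
      have hp : Γ.adj (a (b - 1)) (a (b - 2)) := ha.adj' (Or.inr (by ring))
      have hq : Γ.adj (a (b - 1)) (a b) := ha.adj' (Or.inl (by ring))
      have hpq : a (b - 2) ≠ a b := ha.ne' (Or.inl (by ring))
      obtain ⟨c, hc1, hc2, hc3, _⟩ := Γ.third hp hq hpq
      have hrot := Gr.Tr.rot Γ.toGr (Gr.Tr.mono Γ.toGr hTr (show b - 2 + 1 ≤ b + 1 by omega))
        (by omega) (ha.shift 1)
        (w := c) (by
          show Γ.adj (a (b - 2 + 1)) c
          rw [show b - 2 + 1 = b - 1 by ring]; exact hc1)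
        (Or.inr (by
          show c ≠ a (b - 2 - 1 + 1)
          rw [show b - 2 - 1 + 1 = b - 2 by ring]; exact hc2))
      obtain ⟨g, hg, hg'⟩ := hrot
      have hg1 : g • a 1 = a 1 := by
        have : g • a (0 + 1) = a (0 + 1) := hg 0 le_rfl (by omega)
        simpa using this
      have hgb : g • a b = c := by
        have : g • a (b - 2 + 1 + 1) = c := hg'
        rwa [show b - 2 + 1 + 1 = b by ring] at this
      have h1 := Γ.Z_cen ht1 hn hg1
      have h2 := Γ.Z_conj g hn'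
      rw [hgb, h1, mul_inv_cancel_right] at h2
      have htyb1' : Γ.ty (a (b - 1)) = true := by
        have := ha.ty_succ (b - 1)
        rw [sub_add_cancel, htyb] at this
        cases h3 : Γ.ty (a (b - 1)) with
        | true => rfl
        | false => rw [h3] at this; simp at this
      exact Γ.sib htyb1' hq hc1 hc3.symm hn' h2
    have hw2 : w * w = 1 := h.low.Z_sq (by omega) hw
    have hv : ∀ v ∈ Γ.Z (a (b + 1)), v ∈ Γ.Q (a 1) → v ∈ Γ.Z (a b) := by
      intro v hv hv1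
      have h10 : Γ.adj (a 1) (a 0) := ha.adj' (Or.inr (by ring))
      have hv0 : v • a 0 = a 0 := Γ.Q_fix' hv1 h10
      have hv1' : v • a 1 = a 1 := Γ.Q_fix hv1
      have hv2 : v * v = 1 := h.low.Z_sq (by omega) hv
      have e1 := h.low.comm_mem (by omega) h0 (Γ.symm h10) hw hv0 hv1'
      have e2 := h.low.comm_mem (by omega) hty1 hadjb hv hwf1 (hwf b (by omega) le_rfl)
      have hvi : v⁻¹ = v := by rw [inv_eq_iff_mul_eq_one]; exact hv2
      have hwi : w⁻¹ = w := by rw [inv_eq_iff_mul_eq_one]; exact hw2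
      rw [hvi] at e1
      rw [hwi] at e2
      have e3 : w * (v * w * v) = (v * (w * v * w))⁻¹ := by
        have : (v * (w * v * w))⁻¹ = w⁻¹ * (v⁻¹ * w⁻¹ * v⁻¹) := by group
        rw [this, hvi, hwi]
      have e4 : w * (v * w * v) ∈ Γ.Z (a b) := by
        rw [e3]; exact Subgroup.inv_mem _ e2
      have e5 := hint _ e1 e4
      have e6 : w * v = v * w := by
        have : w * v = (w * (v * w * v)) * (v⁻¹ * w⁻¹) := by group
        rw [this, e5, one_mul, hvi, hwi]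
      exact h.low.mem_of_comm (by omega) hty1 hadjb hv hwf1 (hwf b (by omega) le_rfl) hwb1 e6
    obtain ⟨ε, ε', hε, hε', k12, k13, k23⟩ := Γ.others hadjb
    have hεty : Γ.ty ε = false := by rw [Γ.adj_ty hε, hty1]; rfl
    have hup : Γ.Z ε ≤ Γ.Z (a (b + 1)) := Γ.Z_up hεty (Γ.symm hε)
    have hnot : ∀ x1 ∈ Γ.Z ε, x1 ≠ 1 → x1 ∉ Γ.Q (a 1) := by
      intro x1 h1 h2 h3
      exact h2 (Γ.sib hty1 hadjb hε k12 (hv x1 (hup h1) h3) h1)
    have hK : ∀ x1 ∈ Γ.Z ε, ∀ x2 ∈ Γ.Z ε, x1 ≠ 1 → x2 ≠ 1 → x1 = x2 := by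
      intro x1 h1 x2 h2 n1 n2
      have h12 : Γ.adj (a 1) (a 2) := ha.adj' (Or.inl (by ring))
      have h3 : x1 * x2 ∈ Γ.Q (a 1) := Γ.mul_mem_Q h12
        (h.low.fix ha hty1 (by omega) (by omega) (hup h1))
        (h.low.fix ha hty1 (by omega) (by omega) (hup h1)) (hnot x1 h1 n1)
        (h.low.fix ha hty1 (by omega) (by omega) (hup h2))
        (h.low.fix ha hty1 (by omega) (by omega) (hup h2)) (hnot x2 h2 n2)
      have h4 := hv _ (Subgroup.mul_mem _ (hup h1) (hup h2)) h3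
      have h5 := Γ.sib hty1 hadjb hε k12 h4 (Subgroup.mul_mem _ h1 h2)
      have h6 := Γ.Z_sq2 hεty h2
      calc x1 = x1 * (x2 * x2) := by rw [h6, mul_one]
        _ = (x1 * x2) * x2 := by group
        _ = x2 := by rw [h5, one_mul]
    intro β hβ p hp q hq hp1 hq1
    obtain ⟨g, hg⟩ := Γ.trans (u := β) (v := ε) (by rw [hβ, hεty])
    have h1 := Γ.Z_conj g hp
    have h2 := Γ.Z_conj g hq
    rw [hg] at h1 h2
    have h3 := hK _ h1 _ h2 (by rw [Ne, conj_eq_one_iff]; exact hp1)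
      (by rw [Ne, conj_eq_one_iff]; exact hq1)
    simpa using h3

end Geo

end Cfsg.Agent.H48.Ge
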