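import Mathlib
import Cfsg.Agent.H48.KProd

set_option autoImplicit false
open Subgroup Cfsg.Agent.H47

namespace Cfsg.Agent.H48

variable {G : Type*} [Group G] {p : ℕ} [Finite G] [Fact p.Prime] {𝒦 : Set (Subgroup G)}

/-- minimality in the MSS sense inside the ambient group -/
theorem exists_gt_of_isMinimalOver {E S : Subgroup G} (hS : SylIn p S E)
    (h : ∀ T : Sylow p ↥E, Cfsg.IsMinimalOver (T : Subgroup ↥E)) :
    ncl S E = E ∧ ∃ M, Gt S E M := by
  obtain ⟨T, hT⟩ := hS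
  have h1 := h T
  have hSE : S ≤ E := by rw [← hT]; exact Subgroup.map_subtype_le _
  have hTS : (T : Subgroup E) = S.subgroupOf E := by
    apply Subgroup.map_injective E.subtype_injective
    rw [hT, map_subgroupOf_eq_of_le hSE]
  obtain ⟨M, hM1, hM2, hM3⟩ := Cfsg.Agent.H47.IsMinimalOver.exists_max h1
  refine ⟨?_, M.map E.subtype, ?_, ?_, ?_⟩
  · rw [← ncl_eq_map_normalClosure S E hSE, ← hTS, h1.1, ← MonoidHom.range_eq_map,
      Subgroup.range_subtype]
  · rw [← hT]; exact Subgroup.map_mono hM2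
  · refine lt_of_le_of_ne (Subgroup.map_subtype_le _) fun h2 => hM1.1 ?_
    apply Subgroup.map_injective E.subtype_injective
    rw [h2, ← MonoidHom.range_eq_map, Subgroup.range_subtype]
  · intro X hX hXE
    have h2 := hM3 (X.subgroupOf E) (by rw [hTS]; exact fun x hx => hX hx) (by
      intro h3
      rw [subgroupOf_eq_top] at h3
      exact absurd h3 (not_le_of_gt hXE))
    have h3 := Subgroup.map_mono (f := E.subtype) h2
    rwa [map_subgroupOf_eq_of_le hXE.le] at h3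

namespace KSetup

theorem exists_gt (h : KSetup p 𝒦) {T : Subgroup G} (hT : SylIn p T ⊤) {E : Subgroup G}
    (hE : E ∈ 𝒦) {M : Subgroup G} (hM : Gt (T ⊓ E) E M) :
    Gt (T ⊓ (E ⊔ pCore p G)) (E ⊔ pCore p G) (M ⊔ pCore p G) := by
  have hOT := core_le hT
  have hOE : pCore p G ⊓ E ≤ M := (inf_le_inf_right E hOT).trans hM.1
  refine ⟨(inf_sup_le hOT).trans (sup_le_sup_right hM.1 _), ?_, ?_⟩
  · refine lt_of_le_of_ne (sup_le_sup_right hM.2.1.le _) fun h1 => ?_
    apply not_le_of_gt hM.2.1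
    intro e he
    have he' : e ∈ M ⊔ pCore p G := h1.ge (mem_sup_left he)
    obtain ⟨m, hm, o, ho, rfl⟩ := (mem_sup_of_le_normalizer (le_normalizer_core M)).1 he'
    refine mul_mem hm (hOE (mem_inf.2 ⟨ho, ?_⟩))
    have := mul_mem (inv_mem (hM.2.1.le hm)) he
    simpa using this
  · intro X hX hXL
    have hOX : pCore p G ≤ X := (le_inf hOT le_sup_right).trans hX
    have h1 : X ⊓ E ≤ M := by
      apply hM.2.2
      · exact le_inf ((le_inf inf_le_left (inf_le_right.trans le_sup_left)).trans hX) inf_le_right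
      · refine lt_of_le_of_ne inf_le_right fun h2 => ?_
        apply not_le_of_gt hXL
        exact sup_le (h2.ge.trans inf_le_left) hOX
    intro x hx
    obtain ⟨e, he, o, ho, rfl⟩ := (mem_sup_of_le_normalizer (le_normalizer_core E)).1 (hXL.le hx)
    refine mul_mem (mem_sup_left (h1 (mem_inf.2 ⟨?_, he⟩))) (mem_sup_right ho)
    have := mul_mem hx (inv_mem (hOX ho))
    simpa using this

theorem map_conj_core (g : G) : (pCore p G).map (MulAut.conj g).toMonoidHom = pCore p G :=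
  norm_map_conj (le_normalizer_core ⊤ (mem_top g))

theorem part1 (h : KSetup p 𝒦)
    (hmin : ∀ E ∈ 𝒦, ∀ T : Sylow p ↥E, Cfsg.IsMinimalOver (T : Subgroup ↥E)) (T : Sylow p G) :
    Cfsg.IsMinimalOver (T : Subgroup G) := by
  have hT : SylIn p (T : Subgroup G) ⊤ := sylIn_top T
  set O := pCore p G with hO
  have hOT : O ≤ T := core_le hT
  set R := sSup 𝒦 with hR
  have hRn : R.Normal := h.normal
  have hRT : R ⊔ (T : Subgroup G) = ⊤ := h.sup_syl hT
  have hnclE : ∀ E ∈ 𝒦, ncl ((T : Subgroup G) ⊓ E) E = E := fun E hE =>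
    (exists_gt_of_isMinimalOver (h.sylIn_inf hT hE) (hmin E hE)).1
  have hGt : ∀ E ∈ 𝒦, ∃ M, Gt ((T : Subgroup G) ⊓ (E ⊔ O)) (E ⊔ O) M := fun E hE => by
    obtain ⟨M, hM⟩ := (exists_gt_of_isMinimalOver (h.sylIn_inf hT hE) (hmin E hE)).2
    exact ⟨_, h.exists_gt hT hE hM⟩
  set 𝓜 : Set (Subgroup G) := {M | ∃ E ∈ 𝒦, Gt ((T : Subgroup G) ⊓ (E ⊔ O)) (E ⊔ O) M} with h𝓜
  set R₀ : Subgroup G := R ⊓ ⨅ M ∈ 𝓜, normalizer (M : Set G) with hR₀
  have hmemR₀ : ∀ r, r ∈ R₀ ↔ r ∈ R ∧ ∀ M ∈ 𝓜, r ∈ normalizer (M : Set G) := by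
    intro r
    rw [hR₀, mem_inf, mem_iInf]
    simp only [mem_iInf]
  have hLn : ∀ E ∈ 𝒦, R ≤ normalizer ((E ⊔ O : Subgroup G) : Set G) := fun E hE =>
    le_sup_left.trans (h.norm E hE)
  have hconjL : ∀ (E : Subgroup G) (g : G), (E ⊔ O).map (MulAut.conj g).toMonoidHom =
      E.map (MulAut.conj g).toMonoidHom ⊔ O := by
    intro E g
    rw [Subgroup.map_sup, map_conj_core]
  have hconjT : ∀ t ∈ (T : Subgroup G), (T : Subgroup G).map (MulAut.conj t).toMonoidHom = T :=
    fun t ht => norm_map_conj (le_normalizer ht)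
  have hconjM : ∀ t ∈ (T : Subgroup G), ∀ E ∈ 𝒦, ∀ M,
      Gt ((T : Subgroup G) ⊓ (E ⊔ O)) (E ⊔ O) M →
      Gt ((T : Subgroup G) ⊓ (E.map (MulAut.conj t).toMonoidHom ⊔ O))
        (E.map (MulAut.conj t).toMonoidHom ⊔ O) (M.map (MulAut.conj t).toMonoidHom) := by
    intro t ht E _ M hM
    have h1 := hM.map_conj t
    rwa [Subgroup.map_inf _ _ _ (MulAut.conj t).injective, hconjT t ht, hconjL] at h1
  have hTR₀ : (T : Subgroup G) ≤ normalizer (R₀ : Set G) := by
    intro t ht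
    apply mem_normalizer_of_map_conj_le
    rintro _ ⟨r, hr, rfl⟩
    rw [SetLike.mem_coe, hmemR₀] at hr
    rw [hmemR₀]
    refine ⟨hRn.conj_mem r hr.1 t, ?_⟩
    rintro M ⟨E, hE, hM⟩
    have h1 := hconjM t⁻¹ (inv_mem ht) E hE M hM
    have h2 := hr.2 _ ⟨_, h.inv _ E hE, h1⟩
    rw [normalizer_map_conj] at h2
    obtain ⟨y, hy, hyr⟩ := h2
    simp only [MulEquiv.coe_toMonoidHom, MulAut.conj_apply] at hyr ⊢
    rw [← hyr]
    have : t * (t⁻¹ * y * t⁻¹⁻¹) * t⁻¹ = y := by group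
    rw [this]
    exact hy
  -- every proper overgroup of `T`
  have hover : ∀ X : Subgroup G, (T : Subgroup G) ≤ X → X ≠ ⊤ → X ≤ (T : Subgroup G) ⊔ R₀ := by
    intro X hTX hX
    have hnot : ∀ E ∈ 𝒦, ¬ (E ⊔ O) ≤ X := by
      intro E hE hEX
      apply hX
      rw [eq_top_iff, ← hRT]
      refine sup_le (sSup_le fun K hK => ?_) hTX
      obtain ⟨g, hg⟩ := h.tr E hE K hK
      have hgt : g ∈ R ⊔ (T : Subgroup G) := hRT ▸ mem_top g
      rw [sup_comm] at hgt
      obtain ⟨t, ht, r, hr, rfl⟩ := (mem_sup_of_le_normalizer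
        (le_normalizer_of_normal (H := R) (K := (T : Subgroup G)))).1 hgt
      have h1 : K ⊔ O ≤ X := by
        rw [hg, ← hconjL, map_conj_mul, norm_map_conj (hLn E hE hr),
          ← norm_map_conj (Subgroup.le_normalizer (hTX ht))]
        exact map_conj_mono hEX
      exact le_sup_left.trans h1
    have hXR : X ⊓ R ≤ R₀ := by
      intro r hr
      obtain ⟨hrX, hrR⟩ := mem_inf.1 hr
      rw [hmemR₀]
      refine ⟨hrR, ?_⟩
      rintro M ⟨E, hE, hM⟩
      set L := E ⊔ O with hL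
      have hXL : X ⊓ L ≤ M := by
        apply hM.2.2 _ (le_inf (inf_le_left.trans hTX) inf_le_right)
        refine lt_of_le_of_ne inf_le_right fun h2 => hnot E hE (h2.ge.trans inf_le_left)
      have hP : SylIn p ((T : Subgroup G) ⊓ L) (X ⊓ L) :=
        (hT.inf_subnormal (h.subnormal hE)).of_le (le_inf (inf_le_left.trans hTX) inf_le_right)
          inf_le_right
      have hrL : r ∈ normalizer (L : Set G) := hLn E hE hrR
      have hrXL : (X ⊓ L).map (MulAut.conj r).toMonoidHom = X ⊓ L :=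
        norm_map_conj ((le_normalizer_inf (inf_le_left : normalizer (X : Set G) ⊓ normalizer (L : Set G) ≤ _)
          inf_le_right) (mem_inf.2 ⟨Subgroup.le_normalizer hrX, hrL⟩))
      have hP' := hP.map_conj r
      rw [hrXL] at hP'
      obtain ⟨y, hy, hyP⟩ := hP.conj hP'
      have h3 := hM.map_conj r
      have h4 := hM.map_conj y
      rw [norm_map_conj hrL, ← hyP] at h3
      rw [norm_map_conj (Subgroup.le_normalizer (mem_inf.1 hy).2),
        norm_map_conj (Subgroup.le_normalizer (hXL hy))] at h4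
      exact mem_normalizer_of_map_conj (h3.unique h4)
    intro x hx
    have hx' : x ∈ (T : Subgroup G) ⊔ R := by rw [sup_comm, hRT]; exact mem_top x
    obtain ⟨t, ht, r, hr, rfl⟩ := (mem_sup_of_le_normalizer
      (le_normalizer_of_normal (H := R) (K := (T : Subgroup G)))).1 hx'
    refine mul_mem (mem_sup_left ht) (mem_sup_right (hXR (mem_inf.2 ⟨?_, hr⟩)))
    have := mul_mem (inv_mem (hTX ht)) hx
    simpa using this
  have hne : (T : Subgroup G) ⊔ R₀ ≠ ⊤ := by
    intro htop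
    obtain ⟨E, hE⟩ := h.ne
    obtain ⟨M, hM⟩ := hGt E hE
    have hTR : ∀ t ∈ (T : Subgroup G), t ∈ R → t ∈ R₀ := by
      intro t ht htR
      rw [hmemR₀]
      refine ⟨htR, ?_⟩
      rintro M' ⟨K, hK, hM'⟩
      have h1 := hM'.map_conj t
      rw [Subgroup.map_inf _ _ _ (MulAut.conj t).injective, hconjT t ht,
        norm_map_conj (hLn K hK htR)] at h1
      exact mem_normalizer_of_map_conj (h1.unique hM')
    have hRR₀ : R ≤ R₀ := by
      intro r hr
      have hr' : r ∈ (T : Subgroup G) ⊔ R₀ := htop ▸ mem_top r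
      obtain ⟨t, ht, r₀, hr₀, rfl⟩ := (mem_sup_of_le_normalizer hTR₀).1 hr'
      refine mul_mem (hTR t ht ?_) hr₀
      have := mul_mem hr (inv_mem ((hmemR₀ r₀).1 hr₀).1)
      simpa using this
    have hRM : R ≤ normalizer (M : Set G) := fun r hr =>
      ((hmemR₀ r).1 (hRR₀ hr)).2 M ⟨E, hE, hM⟩
    have hOM : O ≤ M := (le_inf hOT le_sup_right).trans hM.1
    have hLM : E ⊔ O ≤ normalizer (M : Set G) :=
      sup_le ((le_sSup hE).trans hRM) (hOM.trans Subgroup.le_normalizer)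
    apply not_le_of_gt hM.2.1
    refine sup_le ?_ hOM
    rw [← hnclE E hE]
    exact ncl_le ((inf_le_inf_left _ le_sup_left).trans hM.1) (le_sup_left.trans hLM)
  refine ⟨?_, (T : Subgroup G) ⊔ R₀, ⟨⟨hne, ?_⟩, le_sup_left⟩, ?_⟩
  · rw [← ncl_top, eq_top_iff]
    refine le_trans hRT.ge (sup_le (sSup_le fun E hE => ?_) (le_ncl _ _))
    rw [← hnclE E hE]
    exact ncl_le (inf_le_left.trans (le_ncl _ _)) (le_top.trans (le_normalizer_ncl _ _))
  · intro X hX
    by_contra hX'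
    exact not_le_of_gt hX (hover X (le_sup_left.trans hX.le) hX')
  · rintro X ⟨hX, hTX⟩
    have h1 := hover X hTX hX.1
    rcases h1.lt_or_eq with h2 | h2
    · exact absurd (hX.2 _ h2) hne
    · exact h2

end KSetup

end Cfsg.Agent.H48
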