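import Cfsg.Agent.H48.PiSub
import Cfsg.Agent.H59.PrimComp2

/-!
A non-abelian minimal normal subgroup as an internal direct product, with the embedding of the
external direct product.
-/

set_option autoImplicit false
set_option linter.unusedSectionVars false

namespace Cfsg.Agent.H48

open Subgroup
open scoped Pointwise

/-- `N` is the internal direct product of the non-abelian simple groups `L i`, transitively
permuted by `G`. -/
structure Sys {G : Type*} [Group G] (N : Subgroup G) {ι : Type*} (L : ι → Subgroup G) : Prop where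
  simple : ∀ i, IsSimpleGroup (L i)
  nonc : ∀ i, ¬ IsMulCommutative (L i)
  comm : Pairwise fun i j => ∀ x y : G, x ∈ L i → y ∈ L j → Commute x y
  sup : ⨆ i, L i = N
  norm : ∀ (g : G) (i : ι), ∃ j, MulAut.conj g • L i = L j
  trans : ∀ i j : ι, ∃ g : G, MulAut.conj g • L i = L j
  nonempty : Nonempty ι
  inj : Function.Injective L

variable {G : Type*} [Group G]

theorem sys_of_minComp {N T : Subgroup G} (h : Cfsg.Agent.H59.IsMinComp N T) :
    Sys N (fun i : {K : Subgroup G // ∃ g : G, MulAut.conj g • T = K} => (i : Subgroup G)) where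
  simple := by
    rintro ⟨_, g, rfl⟩
    have := h.simple
    exact (Subgroup.equivSMul (MulAut.conj g) T).symm.isSimpleGroup
  nonc := by
    rintro ⟨_, g, rfl⟩ hc
    apply h.noncomm
    refine ⟨⟨fun a b => ?_⟩⟩
    apply (Subgroup.equivSMul (MulAut.conj g) T).injective
    rw [map_mul, map_mul]
    exact hc.is_comm.comm _ _
  comm := by
    rintro ⟨_, g, rfl⟩ ⟨_, g', rfl⟩ hne x y hx hy
    have hne' : MulAut.conj g • T ≠ MulAut.conj g' • T := fun h => hne (Subtype.ext h)
    have hx' : g⁻¹ * x * g ∈ T := Cfsg.Agent.H59.mem_conj_smul.mp hx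
    have hy' : g'⁻¹ * y * g' ∈ T := Cfsg.Agent.H59.mem_conj_smul.mp hy
    rcases h.conj_eq_or_comm (g⁻¹ * g') with h1 | h1
    · exfalso
      apply hne'
      conv_lhs => rw [← h1]
      rw [← Cfsg.Agent.H59.conj_smul_mul, mul_inv_cancel_left]
    · have h2 : g⁻¹ * y * g ∈ MulAut.conj (g⁻¹ * g') • T := by
        rw [Cfsg.Agent.H59.mem_conj_smul]
        convert hy' using 1
        group
      have h3 := h1 _ hx' _ h2
      have h4 : g * (g⁻¹ * x * g * (g⁻¹ * y * g)) * g⁻¹ = g * (g⁻¹ * y * g * (g⁻¹ * x * g)) * g⁻¹ := by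
        rw [h3]
      have e1 : g * (g⁻¹ * x * g * (g⁻¹ * y * g)) * g⁻¹ = x * y := by group
      have e2 : g * (g⁻¹ * y * g * (g⁻¹ * x * g)) * g⁻¹ = y * x := by group
      rw [e1, e2] at h4
      exact h4
  sup := by
    rw [← h.iSup_eq]
    apply le_antisymm
    · apply iSup_le
      rintro ⟨_, g, rfl⟩
      exact le_iSup (fun g : G => MulAut.conj g • T) g
    · apply iSup_le
      intro g
      exact le_iSup (fun i : {K : Subgroup G // ∃ g : G, MulAut.conj g • T = K} => (i : Subgroup G))
        ⟨_, g, rfl⟩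
  norm := by
    rintro g ⟨_, g', rfl⟩
    exact ⟨⟨_, g * g', rfl⟩, (Cfsg.Agent.H59.conj_smul_mul T g g').symm⟩
  trans := by
    rintro ⟨_, g, rfl⟩ ⟨_, g', rfl⟩
    refine ⟨g' * g⁻¹, ?_⟩
    simp only
    rw [← Cfsg.Agent.H59.conj_smul_mul, inv_mul_cancel_right]
  nonempty := ⟨⟨T, 1, by simp⟩⟩
  inj := Subtype.val_injective

theorem exists_sys {G : Type*} [Group G] [Finite G] (N : Subgroup G) [hN : N.Normal] (hN1 : N ≠ ⊥)
    (hmin : ∀ M : Subgroup G, M.Normal → M ≤ N → M = ⊥ ∨ M = N) (hna : ¬ IsMulCommutative N) :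
    ∃ (k : ℕ) (L : Fin k → Subgroup G), Sys N L := by
  obtain ⟨T, hT⟩ := Cfsg.Agent.H59.exists_minComp N hN1 hmin hna
  have hS := sys_of_minComp hT
  have : Finite {K : Subgroup G // ∃ g : G, MulAut.conj g • T = K} := inferInstance
  obtain ⟨k, ⟨e⟩⟩ := Finite.exists_equiv_fin {K : Subgroup G // ∃ g : G, MulAut.conj g • T = K}
  refine ⟨k, fun i => (e.symm i : Subgroup G), ?_⟩
  exact
    { simple := fun i => hS.simple _
      nonc := fun i => hS.nonc _
      comm := fun i j hij => hS.comm (fun h => hij (e.symm.injective h))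
      sup := by rw [← hS.sup]; exact e.symm.iSup_congr (fun _ => rfl)
      norm := fun g i => by
        obtain ⟨j, hj⟩ := hS.norm g (e.symm i)
        exact ⟨e j, by rw [hj]; simp⟩
      trans := fun i j => hS.trans _ _
      nonempty := ⟨e ⟨T, 1, by simp⟩⟩
      inj := fun i j h => e.symm.injective (hS.inj h) }

namespace Sys

variable {N : Subgroup G} {k : ℕ} {L : Fin k → Subgroup G}

lemma le (h : Sys N L) (i : Fin k) : L i ≤ N := by
  rw [← h.sup]; exact le_iSup L i

lemma inf_cent (h : Sys N L) (i : Fin k) : L i ⊓ centralizer (L i : Set G) = ⊥ :=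
  Cfsg.Agent.H59.inf_centralizer_of_simple (h.simple i) (h.nonc i)

lemma ind (h : Sys N L) : iSupIndep L := by
  intro i
  rw [disjoint_iff, ← le_bot_iff, ← h.inf_cent i]
  refine inf_le_inf_left _ ?_
  refine iSup_le fun j => iSup_le fun hj => ?_
  intro y hy
  rw [Subgroup.mem_centralizer_iff]
  intro x hx
  exact h.comm hj.symm x y hx hy

/-- the embedding of the external product -/
noncomputable def emb (h : Sys N L) : (∀ i, L i) →* G := Subgroup.noncommPiCoprod h.comm

lemma emb_inj (h : Sys N L) : Function.Injective h.emb :=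
  Subgroup.injective_noncommPiCoprod_of_iSupIndep h.ind

lemma emb_range (h : Sys N L) : h.emb.range = N := by
  rw [emb, Subgroup.noncommPiCoprod_range, h.sup]

lemma emb_single (h : Sys N L) (i : Fin k) (t : L i) : h.emb (Pi.mulSingle i t) = (t : G) :=
  Subgroup.noncommPiCoprod_mulSingle i t

lemma emb_mem (h : Sys N L) (x : ∀ i, L i) : h.emb x ∈ N := by
  have : h.emb x ∈ h.emb.range := ⟨x, rfl⟩
  rwa [h.emb_range] at this

lemma exists_emb (h : Sys N L) {n : G} (hn : n ∈ N) : ∃ x, h.emb x = n := by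
  have h1 : n ∈ h.emb.range := by rw [h.emb_range]; exact hn
  exact h1

lemma mulSingle_commute {x : ∀ i, L i} {i : Fin k} (hx : x i = 1) (t : L i) :
    x * Pi.mulSingle i t = Pi.mulSingle i t * x := by
  funext j
  by_cases hj : j = i
  · subst hj; simp [hx]
  · simp [Pi.mulSingle_eq_of_ne hj]

/-- `emb x` centralises `L i` iff the `i`-th coordinate is trivial. -/
lemma emb_mem_centralizer (h : Sys N L) (x : ∀ i, L i) (i : Fin k) :
    h.emb x ∈ centralizer (L i : Set G) ↔ x i = 1 := by
  constructor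
  · intro hx
    have h1 : (x i : G) ∈ L i ⊓ centralizer (L i : Set G) := by
      refine ⟨(x i).2, Subgroup.mem_centralizer_iff.mpr ?_⟩
      intro t ht
      have h2 := Subgroup.mem_centralizer_iff.mp hx t ht
      have h3 : Pi.mulSingle i ⟨t, ht⟩ * x = x * Pi.mulSingle i ⟨t, ht⟩ := by
        apply h.emb_inj
        rw [map_mul, map_mul, h.emb_single]
        exact h2
      have h4 := congrArg (fun y : ∀ i, L i => ((y i : L i) : G)) h3
      simpa using h4
    rw [h.inf_cent, Subgroup.mem_bot] at h1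
    exact Subtype.ext h1
  · intro hx
    rw [Subgroup.mem_centralizer_iff]
    intro t ht
    have := mulSingle_commute hx ⟨t, ht⟩
    have h2 := congrArg h.emb this
    rw [map_mul, map_mul, h.emb_single] at h2
    exact h2.symm

lemma card (h : Sys N L) : Nat.card N = ∏ i, Nat.card (L i) := by
  have h1 : Nat.card N = Nat.card h.emb.range := by rw [h.emb_range]
  rw [h1, ← Nat.card_congr (MonoidHom.ofInjective h.emb_inj).toEquiv, Nat.card_pi]

lemma card_eq (h : Sys N L) (i j : Fin k) : Nat.card (L i) = Nat.card (L j) := by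
  obtain ⟨g, hg⟩ := h.trans i j
  rw [← hg]
  exact Nat.card_congr (Subgroup.equivSMul (MulAut.conj g) (L i)).toEquiv

lemma normal_of_mem (h : Sys N L) (i : Fin k) {n : G} (hn : n ∈ N) {x : G} (hx : x ∈ L i) :
    n * x * n⁻¹ ∈ L i := by
  obtain ⟨y, rfl⟩ := h.exists_emb hn
  have : h.emb y * x * (h.emb y)⁻¹ = ((y i * ⟨x, hx⟩ * (y i)⁻¹ : L i) : G) := by
    have e : (x : G) = h.emb (Pi.mulSingle i ⟨x, hx⟩) := (h.emb_single i ⟨x, hx⟩).symm
    rw [← h.emb_single i]
    conv_lhs => rw [e]
    rw [← map_mul, ← map_inv, ← map_mul]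
    congr 1
    funext j
    by_cases hj : j = i
    · subst hj; simp
    · simp [Pi.mulSingle_eq_of_ne hj]
  rw [this]
  exact (y i * ⟨x, hx⟩ * (y i)⁻¹).2

lemma conj_eq (h : Sys N L) (i : Fin k) {n : G} (hn : n ∈ N) : MulAut.conj n • L i = L i := by
  ext x
  rw [Cfsg.Agent.H59.mem_conj_smul]
  constructor
  · intro hx
    have := h.normal_of_mem i hn hx
    convert this using 1
    group
  · intro hx
    have := h.normal_of_mem i (N.inv_mem hn) hx
    rwa [inv_inv] at this

end Sys

end Cfsg.Agent.H48
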