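import Mathlib
import Cfsg.Prelude.Def_Transfer
import Cfsg.Agent.H48.Basic

set_option autoImplicit false

namespace Cfsg.Agent.H48

variable {G : Type*} [Group G]

theorem pResidual_normal (p : ℕ) : (Cfsg.pResidual p G).Normal := by
  unfold Cfsg.pResidual
  constructor
  intro n hn g
  have hle : (Subgroup.closure {g : G | Nat.Coprime (orderOf g) p}).map (MulAut.conj g).toMonoidHom ≤
      Subgroup.closure {g : G | Nat.Coprime (orderOf g) p} := by
    rw [MonoidHom.map_closure, Subgroup.closure_le]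
    rintro _ ⟨x, hx, rfl⟩
    apply Subgroup.subset_closure
    have : orderOf ((MulAut.conj g).toMonoidHom x) = orderOf x :=
      orderOf_injective (MulAut.conj g).toMonoidHom (MulAut.conj g).injective x
    change Nat.Coprime (orderOf ((MulAut.conj g).toMonoidHom x)) p
    rw [this]; exact hx
  exact hle ⟨n, hn, rfl⟩

/-- For every `g` in a finite group some `p`-power of `g` lies in `O^p(G)`. -/
theorem exists_pow_mem_pResidual [Finite G] {p : ℕ} [Fact p.Prime] (g : G) :
    ∃ k : ℕ, g ^ (p ^ k) ∈ Cfsg.pResidual p G := by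
  obtain ⟨k, m, hm, hk⟩ := Nat.exists_eq_pow_mul_and_not_dvd (n := orderOf g) (orderOf_pos g).ne' p
    (Fact.out : p.Prime).ne_one
  refine ⟨k, Subgroup.subset_closure ?_⟩
  change Nat.Coprime (orderOf (g ^ (p ^ k))) p
  have h1 : orderOf (g ^ (p ^ k)) = m := by
    rw [orderOf_pow' g (pow_ne_zero k (Fact.out : p.Prime).ne_zero), hk]
    rw [Nat.gcd_eq_right (Dvd.intro m rfl)]
    exact Nat.mul_div_cancel_left m (pow_pos (Fact.out : p.Prime).pos k)
  rw [h1]
  exact ((Nat.Prime.coprime_iff_not_dvd (Fact.out : p.Prime)).mpr hm).symm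

theorem isPGroup_quotient_of_pResidual_le [Finite G] {p : ℕ} [Fact p.Prime] (N : Subgroup G) [N.Normal]
    (hN : Cfsg.pResidual p G ≤ N) : IsPGroup p (G ⧸ N) := by
  intro q
  obtain ⟨g, rfl⟩ := QuotientGroup.mk'_surjective N q
  obtain ⟨k, hk⟩ := exists_pow_mem_pResidual (p := p) g
  refine ⟨k, ?_⟩
  rw [← map_pow]
  exact (QuotientGroup.eq_one_iff _).mpr (hN hk)

/-- If `G/N` is a `p`-group then `O^p(G) ≤ N`. -/
theorem pResidual_le_of_isPGroup {p : ℕ} [Fact p.Prime] (N : Subgroup G) [N.Normal]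
    (hN : IsPGroup p (G ⧸ N)) : Cfsg.pResidual p G ≤ N := by
  unfold Cfsg.pResidual
  rw [Subgroup.closure_le]
  intro g hg
  obtain ⟨k, hk⟩ := hN (g : G ⧸ N)
  have h1 : orderOf (g : G ⧸ N) ∣ p ^ k := orderOf_dvd_of_pow_eq_one hk
  have h2 : orderOf (g : G ⧸ N) ∣ orderOf g := orderOf_map_dvd (QuotientGroup.mk' N) g
  have h3 : Nat.Coprime (orderOf g) (p ^ k) := Nat.Coprime.pow_right k hg
  have h4 := Nat.dvd_gcd h2 h1
  rw [h3] at h4
  have h5 := orderOf_eq_one_iff.mp (Nat.dvd_one.mp h4)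
  exact (QuotientGroup.eq_one_iff g).mp h5

theorem exists_normal_index_eq_of_pResidual_ne_top [Finite G] {p : ℕ} [Fact p.Prime]
    (h : Cfsg.pResidual p G ≠ ⊤) : ∃ H : Subgroup G, H.Normal ∧ H.index = p := by
  have hn := pResidual_normal (G := G) p
  have hQ := isPGroup_quotient_of_pResidual_le (p := p) (Cfsg.pResidual p G) le_rfl
  have hne : (⊥ : Subgroup (G ⧸ Cfsg.pResidual p G)) ≠ ⊤ := by
    intro h0
    apply h
    rw [eq_top_iff]
    intro x _
    have h1 : (x : G ⧸ Cfsg.pResidual p G) ∈ (⊤ : Subgroup (G ⧸ Cfsg.pResidual p G)) := Subgroup.mem_top _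
    rw [← h0, Subgroup.mem_bot] at h1
    exact (QuotientGroup.eq_one_iff x).mp h1
  obtain ⟨M, hM, _⟩ := (eq_top_or_exists_le_coatom (⊥ : Subgroup (G ⧸ Cfsg.pResidual p G))).resolve_left hne
  have hMn := normal_of_isCoatom_of_isPGroup hQ hM
  refine ⟨M.comap (QuotientGroup.mk' _), inferInstance, ?_⟩
  rw [Subgroup.index_comap_of_surjective _ (QuotientGroup.mk'_surjective _)]
  exact index_eq_of_isCoatom hQ hM

end Cfsg.Agent.H48
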