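import Mathlib
import Cfsg.Prelude.Def_LocalEven
import Cfsg.Agent.H48.PResidual
import Cfsg.Agent.H48.PCore
import Cfsg.Agent.H48.Basic
import Cfsg.Agent.H47.Syl
import Cfsg.Agent.H62.Subnormal

set_option autoImplicit false
open Cfsg Cfsg.Agent.H47
open scoped Pointwise

namespace Cfsg.Agent.H48

variable {P : Type*} [Group P] [Finite P] {p : ℕ} [Fact p.Prime]

theorem PMin.eq_top_or_le (hP : Cfsg.IsPMinimal p P) (S : Sylow p P) (M : Subgroup P) (hM : IsCoatom M)
    (hSM : (S : Subgroup P) ≤ M) {X : Subgroup P} (hX : (S : Subgroup P) ≤ X) : X = ⊤ ∨ X ≤ M := by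
  rcases eq_top_or_exists_le_coatom X with h | ⟨M', hM', hle⟩
  · exact Or.inl h
  · obtain ⟨M₀, -, huniq⟩ := (hP S).2
    rw [huniq M ⟨hM, hSM⟩, ← huniq M' ⟨hM', hX.trans hle⟩]
    exact Or.inr hle

/-- A subnormal `S`-invariant subgroup of `M` has its normal closure in `M`. -/
theorem PMin.normalClosure_le (hP : Cfsg.IsPMinimal p P) (S : Sylow p P) (M : Subgroup P) (hM : IsCoatom M)
    (hSM : (S : Subgroup P) ≤ M) {X : Subgroup P} (hX : X.IsSubnormal) (hXM : X ≤ M)
    (hS : ∀ s ∈ (S : Subgroup P), ∀ x ∈ X, s * x * s⁻¹ ∈ X) : Subgroup.normalClosure (X : Set P) ≤ M := by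
  set K := Subgroup.normalClosure (X : Set P) with hK
  have hXK : X ≤ K := Subgroup.le_normalClosure
  rcases PMin.eq_top_or_le hP S M hM hSM (X := (S : Subgroup P) ⊔ K) le_sup_left with h | h
  · have hsub : (X.subgroupOf K).IsSubnormal := hX.subgroupOf
    rcases hsub.lt_normal with h1 | ⟨N, hN, hle, hlt⟩
    · rw [Subgroup.subgroupOf_eq_top] at h1
      exact h1.trans hXM
    · exfalso
      have hNK : (N.map K.subtype) < K := by
        apply lt_of_le_of_ne (Subgroup.map_subtype_le N)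
        intro h2
        apply hlt.ne
        rw [eq_top_iff]
        intro x _
        have h3 : (x : P) ∈ N.map K.subtype := by rw [h2]; exact x.2
        obtain ⟨y, hy, hyx⟩ := h3
        have : y = x := Subtype.ext hyx
        exact this ▸ hy
      have hKN : K ≤ N.map K.subtype := by
        have h0 : K = Subgroup.closure (Group.conjugatesOfSet (X : Set P)) := hK
        have h0' : Subgroup.closure (Group.conjugatesOfSet (X : Set P)) ≤ N.map K.subtype → K ≤ N.map K.subtype :=
          fun h => h0.le.trans h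
        apply h0'
        rw [Subgroup.closure_le]
        intro y hy
        rw [Group.mem_conjugatesOfSet_iff] at hy
        obtain ⟨x, hx, hxy⟩ := hy
        rw [isConj_iff] at hxy
        obtain ⟨g, rfl⟩ := hxy
        have hg : g ∈ K ⊔ (S : Subgroup P) := by rw [sup_comm, h]; trivial
        rw [Subgroup.mem_sup_of_normal_left] at hg
        obtain ⟨k, hk, s, hs, rfl⟩ := hg
        have h4 := hS s hs x hx
        have h5 : (⟨s * x * s⁻¹, hXK h4⟩ : K) ∈ N := hle h4
        have h6 := hN.conj_mem _ h5 ⟨k, hk⟩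
        refine ⟨_, h6, ?_⟩
        simp [mul_assoc]
      exact absurd hKN hNK.not_ge
  · exact le_sup_right.trans h

/-- Normal subgroups in `M`: their Sylow `p`-subgroups are in `O_p(P)`. -/
theorem PMin.normal_inf_le (hP : Cfsg.IsPMinimal p P) (S : Sylow p P) (M : Subgroup P) (hM : IsCoatom M)
    (hSM : (S : Subgroup P) ≤ M) {N : Subgroup P} (hN : N.Normal) (hNM : N ≤ M) :
    N ⊓ (S : Subgroup P) ≤ Cfsg.pCore p P := by
  have h1 : SylIn p ((S : Subgroup P) ⊓ N) N :=
    (sylIn_top S).inf_normal le_top Subgroup.le_normalizer_of_normal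
  have h2 := h1.frattini_sup le_top Subgroup.le_normalizer_of_normal
  have hSn : (S : Subgroup P) ≤ ⊤ ⊓ Subgroup.normalizer ((((S : Subgroup P) ⊓ N : Subgroup P)) : Set P) := by
    rw [top_inf_eq]
    exact le_normalizer_inf Subgroup.le_normalizer Subgroup.le_normalizer_of_normal
  rcases PMin.eq_top_or_le hP S M hM hSM hSn with h | h
  · rw [inf_comm]
    apply le_pCore _ (S.2.to_le inf_le_left)
    rw [top_inf_eq] at h
    exact Subgroup.normalizer_eq_top_iff.mp h
  · exfalso
    apply hM.1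
    rw [eq_top_iff, ← h2]
    exact sup_le hNM h

theorem PMin.subnormal_inf_le (hP : Cfsg.IsPMinimal p P) (S : Sylow p P) (M : Subgroup P) (hM : IsCoatom M)
    (hSM : (S : Subgroup P) ≤ M) {N : Subgroup P} (hN : N.IsSubnormal) (hNM : N ≤ M) :
    N ≤ M.normalCore := by
  set X : Subgroup P := sSup {K : Subgroup P | K.IsSubnormal ∧ K ≤ M} with hXdef
  have hX : X.IsSubnormal := H62.isSubnormal_sSup _ (fun K hK => hK.1)
  have hXM : X ≤ M := sSup_le (fun K hK => hK.2)
  have hS : ∀ s ∈ (S : Subgroup P), ∀ x ∈ X, s * x * s⁻¹ ∈ X := by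
    intro s hs x hx
    have h1 : (MulAut.conj s • X) ≤ X := by
      apply le_sSup
      refine ⟨hX.smul _, ?_⟩
      intro y hy
      rw [Subgroup.mem_pointwise_smul_iff_inv_smul_mem] at hy
      have h2 := hXM hy
      have h3 : y = s * ((MulAut.conj s)⁻¹ • y) * s⁻¹ := by
        simp [MulAut.smul_def, mul_assoc]
      rw [h3]
      exact mul_mem (mul_mem (hSM hs) h2) (inv_mem (hSM hs))
    exact h1 (conj_mem_of_mem_smul.mpr hx)
  have h1 := PMin.normalClosure_le hP S M hM hSM hX hXM hS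
  have h2 : Subgroup.normalClosure (X : Set P) ≤ M.normalCore := Subgroup.normal_le_normalCore.mpr h1
  have h3 : N ≤ X := le_sSup ⟨hN, hNM⟩
  exact (h3.trans Subgroup.le_normalClosure).trans h2

theorem PMin.pResidual_le_or (hP : Cfsg.IsPMinimal p P) (S : Sylow p P) (M : Subgroup P) (hM : IsCoatom M)
    (hSM : (S : Subgroup P) ≤ M) {N : Subgroup P} (hN : N.Normal) :
    Cfsg.pResidual p P ≤ N ∨ N ≤ M.normalCore := by
  rcases PMin.eq_top_or_le hP S M hM hSM (X := (S : Subgroup P) ⊔ N) le_sup_left with h | h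
  · left
    apply pResidual_le_of_isPGroup
    intro q
    obtain ⟨g, rfl⟩ := QuotientGroup.mk'_surjective N q
    have hg : g ∈ (S : Subgroup P) ⊔ N := by rw [h]; trivial
    rw [Subgroup.mem_sup_of_normal_right] at hg
    obtain ⟨s, hs, n, hn, rfl⟩ := hg
    obtain ⟨k, hk⟩ := S.2 ⟨s, hs⟩
    refine ⟨k, ?_⟩
    have h1 : QuotientGroup.mk' N (s * n) = QuotientGroup.mk' N s := by
      rw [map_mul]
      have : QuotientGroup.mk' N n = 1 := (QuotientGroup.eq_one_iff n).mpr hn
      rw [this, mul_one]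
    rw [h1, ← map_pow]
    have h2 : s ^ p ^ k = 1 := congrArg Subtype.val hk
    rw [h2, map_one]
  · right
    exact Subgroup.normal_le_normalCore.mpr (le_sup_right.trans h)

theorem PMin.not_pResidual_le (hP : Cfsg.IsPMinimal p P) (S : Sylow p P) (M : Subgroup P) (hM : IsCoatom M)
    (hSM : (S : Subgroup P) ≤ M) : ¬ Cfsg.pResidual p P ≤ M := by
  intro h
  apply hM.1
  rw [eq_top_iff, ← (sylIn_top S).pRes_sup, pRes_top]
  exact sup_le h hSM

/-- A `p`-subgroup has a fixed point on cosets of a subgroup of index prime to `p`. -/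
theorem exists_conj_le_of_not_dvd_index {S : Subgroup P} (hS : IsPGroup p S) (N : Subgroup P)
    (hN : ¬ p ∣ N.index) : ∃ g : P, ∀ s ∈ S, g⁻¹ * s * g ∈ N := by
  obtain ⟨x, hx⟩ := hS.nonempty_fixed_point_of_prime_not_dvd_card (P ⧸ N) hN
  obtain ⟨g, rfl⟩ := QuotientGroup.mk_surjective x
  refine ⟨g, fun s hs => ?_⟩
  have := hx ⟨s, hs⟩
  have h2 : ((s * g : P) : P ⧸ N) = (g : P ⧸ N) := this
  rw [eq_comm, QuotientGroup.eq] at h2
  rwa [mul_assoc]

theorem index_mul_card_inf_of_sup_eq_top {N K : Subgroup P} [K.Normal] (h : N ⊔ K = ⊤) :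
    N.index * Nat.card ↥(K ⊓ N) = Nat.card K := by
  have h1 : K.index = K.relIndex N := by
    rw [← Subgroup.relIndex_sup_right, h, Subgroup.relIndex_top_right]
  have h2 : Nat.card ↥(K ⊓ N) * K.relIndex N = Nat.card N := by
    have := Subgroup.relIndex_mul_relIndex (⊥ : Subgroup P) (K ⊓ N) N bot_le inf_le_right
    simpa [Subgroup.relIndex_bot_left, Subgroup.inf_relIndex_right] using this
  have h3 := Subgroup.index_mul_card N
  have h4 := Subgroup.index_mul_card K
  have h5 : K.relIndex N ≠ 0 := by rw [← h1]; exact Subgroup.index_ne_zero_of_finite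
  have h6 : (N.index * Nat.card ↥(K ⊓ N)) * K.relIndex N = Nat.card K * K.relIndex N := by
    rw [mul_assoc, h2, h3, ← h4, h1, mul_comm]
  exact Nat.eq_of_mul_eq_mul_right (Nat.pos_of_ne_zero h5) h6

end Cfsg.Agent.H48
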