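import Mathlib
import Cfsg.Agent.H48.PMin
import Cfsg.Agent.H48.SPE2
import Cfsg.Agent.FStar.AxB
import Cfsg.Agent.Cop.Basic

set_option autoImplicit false
open Subgroup Cfsg Cfsg.Agent.H47
open scoped Pointwise

namespace Cfsg.Agent.H48

universe u

section
variable {P : Type u} [Group P] [Finite P] {p : ℕ} [Fact p.Prime]

/-- An `S`-invariant Sylow `r`-subgroup of a normal `p'`-subgroup. -/
theorem exists_inv_sylow (S : Sylow p P) (N : Subgroup P) [N.Normal] (hN : ¬ p ∣ Nat.card N) (r : ℕ)
    [Fact r.Prime] : ∃ R : Sylow r N, (S : Subgroup P) ≤ normalizer ((R : Subgroup N).map N.subtype : Set P) := by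
  have hcop : (Nat.card (S : Subgroup P)).Coprime (Nat.card N) := by
    obtain ⟨k, hk⟩ := S.2.exists_card_eq
    change (Nat.card (S : Subgroup P)) = _ at hk
    rw [hk]
    exact Nat.Coprime.pow_left _ ((Nat.Prime.coprime_iff_not_dvd Fact.out).mpr hN)
  have hsolv : Group.IsSolvable (S : Subgroup P) := by
    have := S.2.isNilpotent
    infer_instance
  exact Cop.exists_invariant_sylow (A := (S : Subgroup P)) (K := N) le_normalizer_of_normal hcop (Or.inl hsolv) r

/-- Normal `p'`-subgroups of a `p`-minimal group are nilpotent. -/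
theorem PMin.isNilpotent_of_normal (hP : Cfsg.IsPMinimal p P) (N : Subgroup P) [hNn : N.Normal]
    (hN : ¬ p ∣ Nat.card N) : Group.IsNilpotent N := by
  obtain ⟨S⟩ : Nonempty (Sylow p P) := inferInstance
  obtain ⟨M, ⟨hM, hSM⟩, -⟩ := (hP S).2
  by_cases hNM : N ≤ M
  · -- all Sylows of N are normal
    have h4 := (Group.isNilpotent_of_finite_tfae (G := N)).out 0 3
    rw [h4]
    intro r hr R
    haveI := hr
    obtain ⟨R₀, hR₀⟩ := exists_inv_sylow S N hN r
    have hfr := Sylow.normalizer_sup_eq_top R₀
    have hR₀n : (R₀ : Subgroup N).Normal := by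
      rcases PMin.eq_top_or_le hP S M hM hSM hR₀ with h | h
      · have h5 : ((R₀ : Subgroup N).map N.subtype).Normal := normalizer_eq_top_iff.mp h
        have h6 : (R₀ : Subgroup N) = ((R₀ : Subgroup N).map N.subtype).subgroupOf N := by
          rw [Subgroup.subgroupOf, comap_map_eq_self_of_injective N.subtype_injective]
        rw [h6]
        infer_instance
      · exfalso
        apply hM.1
        rw [eq_top_iff, ← hfr]
        exact sup_le h hNM
    obtain ⟨g, rfl⟩ := MulAction.exists_smul_eq N R₀ R
    rw [Sylow.smul_eq_of_normal]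
    exact hR₀n
  · -- N S = P
    by_cases hall : ∀ (r : ℕ) [Fact r.Prime] (R : Sylow r N),
        (S : Subgroup P) ≤ normalizer ((R : Subgroup N).map N.subtype : Set P) → (R : Subgroup N).map N.subtype ≤ M
    · exfalso
      apply hNM
      rw [← relIndex_eq_one]
      by_contra hne
      obtain ⟨r, hr, hrd⟩ := Nat.exists_prime_and_dvd hne
      haveI := Fact.mk hr
      obtain ⟨R, hR⟩ := exists_inv_sylow S N hN r
      have h1 := hall r R hR
      apply R.not_dvd_index
      refine hrd.trans ?_
      change (M.subgroupOf N).index ∣ _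
      apply index_dvd_of_le
      rw [Subgroup.subgroupOf, ← map_le_iff_le_comap]
      exact h1
    · push Not at hall
      obtain ⟨r, hr, R, hR, hRM⟩ := hall
      rcases PMin.eq_top_or_le hP S M hM hSM (X := (S : Subgroup P) ⊔ (R : Subgroup N).map N.subtype) le_sup_left with h | h
      · -- N = R
        have hNR : N ≤ (R : Subgroup N).map N.subtype := by
          intro n hn
          have h1 : n ∈ (S : Subgroup P) ⊔ (R : Subgroup N).map N.subtype := by rw [h]; trivial
          rw [mem_sup_of_le_normalizer hR] at h1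
          obtain ⟨s, hs, x, hx, rfl⟩ := h1
          have hxN : x ∈ N := (Subgroup.map_subtype_le _) hx
          have hsN : s ∈ N := by
            have := mul_mem hn (inv_mem hxN)
            simpa using this
          have hs1 : s = 1 := by
            have hd : Disjoint (S : Subgroup P) N := by
              apply Subgroup.disjoint_of_coprime_natCard
              obtain ⟨k, hk⟩ := S.2.exists_card_eq
              change (Nat.card (S : Subgroup P)) = _ at hk
              rw [hk]
              exact Nat.Coprime.pow_left _ ((Nat.Prime.coprime_iff_not_dvd Fact.out).mpr hN)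
            have : s ∈ (S : Subgroup P) ⊓ N := ⟨hs, hsN⟩
            rwa [disjoint_iff.mp hd, mem_bot] at this
          rw [hs1, one_mul]
          exact hx
        have hp : IsPGroup r N := (R.2.map N.subtype).to_le hNR
        exact hp.isNilpotent
      · exact absurd (le_sup_right.trans h) hRM

/-- From one Sylow subgroup to all. -/
theorem isPMinimal_of_sylow (S : Sylow p P) (hS : ¬ (S : Subgroup P).Normal)
    (M : Subgroup P) (hM : IsCoatom M) (hSM : (S : Subgroup P) ≤ M)
    (huniq : ∀ X : Subgroup P, (S : Subgroup P) ≤ X → X ≠ ⊤ → X ≤ M) : Cfsg.IsPMinimal p P := by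
  intro S'
  obtain ⟨g, rfl⟩ := MulAction.exists_smul_eq P S S'
  refine ⟨?_, MulAut.conj g • M, ⟨?_, ?_⟩, ?_⟩
  · intro h
    apply hS
    rw [Sylow.coe_subgroup_smul] at h
    have h1 := h
    have : MulAut.conj g • (S : Subgroup P) = (S : Subgroup P) := by
      have h2 := Subgroup.Normal.conj_smul_eq_self g⁻¹ (MulAut.conj g • (S : Subgroup P))
      rw [← h2, smul_smul]
      simp
    rwa [this] at h
  · constructor
    · intro h
      apply hM.1
      have : MulAut.conj g⁻¹ • MulAut.conj g • M = MulAut.conj g⁻¹ • (⊤ : Subgroup P) := by rw [h]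
      rw [smul_smul, ← map_mul, inv_mul_cancel, map_one, one_smul] at this
      rw [this]
      exact Subgroup.Normal.conj_smul_eq_self g⁻¹ ⊤
    · intro X hX
      have h1 : M < MulAut.conj g⁻¹ • X := by
        have h2 := (Subgroup.pointwise_smul_le_pointwise_smul_iff (a := MulAut.conj g⁻¹)).mpr hX.le
        have h3 : MulAut.conj g⁻¹ • MulAut.conj g • M ≠ MulAut.conj g⁻¹ • X := by
          intro h
          apply hX.ne
          exact (smul_left_cancel _ h)
        have := lt_of_le_of_ne h2 h3
        rwa [smul_smul, ← map_mul, inv_mul_cancel, map_one, one_smul] at this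
      have h2 := hM.2 _ h1
      have : MulAut.conj g • MulAut.conj g⁻¹ • X = MulAut.conj g • (⊤ : Subgroup P) := by rw [h2]
      rw [smul_smul, ← map_mul, mul_inv_cancel, map_one, one_smul] at this
      rw [this]
      exact Subgroup.Normal.conj_smul_eq_self g ⊤
  · rw [Sylow.coe_subgroup_smul]
    exact Subgroup.pointwise_smul_le_pointwise_smul_iff.mpr hSM
  · rintro X ⟨hX, hSX⟩
    rw [Sylow.coe_subgroup_smul] at hSX
    have h1 : (S : Subgroup P) ≤ MulAut.conj g⁻¹ • X := by
      have := (Subgroup.pointwise_smul_le_pointwise_smul_iff (a := MulAut.conj g⁻¹)).mpr hSX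
      rwa [smul_smul, ← map_mul, inv_mul_cancel, map_one, one_smul] at this
    have h2 : MulAut.conj g⁻¹ • X ≠ ⊤ := by
      intro h2
      apply hX.1
      have : MulAut.conj g • MulAut.conj g⁻¹ • X = MulAut.conj g • (⊤ : Subgroup P) := by rw [h2]
      rw [smul_smul, ← map_mul, mul_inv_cancel, map_one, one_smul] at this
      rw [this]
      exact Subgroup.Normal.conj_smul_eq_self g ⊤
    have h3 := huniq _ h1 h2
    have h4 : X ≤ MulAut.conj g • M := by
      have := (Subgroup.pointwise_smul_le_pointwise_smul_iff (a := MulAut.conj g)).mpr h3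
      rwa [smul_smul, ← map_mul, mul_inv_cancel, map_one, one_smul] at this
    by_contra hne
    have h5 : X < MulAut.conj g • M := lt_of_le_of_ne h4 hne
    have h6 := hX.2 _ h5
    apply hM.1
    have : MulAut.conj g⁻¹ • MulAut.conj g • M = MulAut.conj g⁻¹ • (⊤ : Subgroup P) := by rw [h6]
    rw [smul_smul, ← map_mul, inv_mul_cancel, map_one, one_smul] at this
    rw [this]
    exact Subgroup.Normal.conj_smul_eq_self g⁻¹ ⊤

end

end Cfsg.Agent.H48
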