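import Mathlib
import Cfsg.Prelude.Def_LocalStructure
import Cfsg.Agent.H47.Cop
import Cfsg.Agent.H49.CharP
import Cfsg.Agent.FStar.AxB
import Cfsg.Agent.Cop.Basic
import Cfsg.Agent.H48.Basic
import Cfsg.Agent.H48.SPE

set_option autoImplicit false
open Subgroup Cfsg.Agent.H47

namespace Cfsg.Agent.H48

section
variable {X : Type*} [Group X] [Finite X] {p : ℕ} [Fact p.Prime]

/-- `F*(X) = O_p(X)` iff `C_X(O_p(X)) ≤ O_p(X)`. -/
theorem generalizedFitting_eq_pCore_iff_charP :
    Cfsg.generalizedFittingSubgroup X = Cfsg.pCore p X ↔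
      centralizer (Cfsg.pCore p X : Set X) ≤ Cfsg.pCore p X := by
  constructor
  · intro h
    rw [← h]
    exact FStar.centralizer_generalizedFitting_le
  · intro h
    rw [FStar.generalizedFitting_eq_pCore_iff]
    apply FStar.isPGroup_generalizedFitting_of
    · apply FStar.layer_eq_bot_of_isPGroup (p := p)
      apply (Solv.pCore_isPGroup (G := X) p).to_le
      refine le_trans ?_ h
      rw [← commutator_eq_bot_iff_le_centralizer, eq_bot_iff, ← FStar.layer_commute_fitting (G := X)]
      exact commutator_mono le_rfl (Solv.pCore_le_fitting p)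
    · intro q hq hqp
      haveI := Fact.mk hq
      apply FStar.eq_bot_of_isPGroup_of_isPGroup (p := p) (q := q) hqp _ (Solv.pCore_isPGroup q)
      apply (Solv.pCore_isPGroup (G := X) p).to_le
      refine le_trans ?_ h
      rw [← commutator_eq_bot_iff_le_centralizer]
      apply FStar.coprime_commutator_eq_bot
      obtain ⟨a, ha⟩ := IsPGroup.iff_card.1 (Solv.pCore_isPGroup (G := X) p)
      obtain ⟨b, hb⟩ := IsPGroup.iff_card.1 (Solv.pCore_isPGroup (G := X) q)
      rw [ha, hb]
      exact Nat.Coprime.pow _ _ ((Nat.coprime_primes hq Fact.out).2 hqp)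
end

section
variable {G : Type*} [Group G] [Finite G] {p : ℕ} [Fact p.Prime]

theorem fstar_iff_charP' {L : Subgroup G} :
    Cfsg.generalizedFittingSubgroup L = Cfsg.pCore p L ↔ CharP' p L := by
  rw [generalizedFitting_eq_pCore_iff_charP, charP'_iff]

theorem CharP'.map_conj {L : Subgroup G} (h : CharP' p L) (g : G) :
    CharP' p (L.map (MulAut.conj g).toMonoidHom) := by
  unfold CharP' at h ⊢
  rw [pCoreOf_map_conj, centralizer_map_conj, ← Subgroup.map_inf _ _ _ (MulAut.conj g).injective]
  exact map_conj_mono h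

theorem centralizer_singleton_map_conj (z g : G) :
    centralizer ({g * z * g⁻¹} : Set G) = (centralizer ({z} : Set G)).map (MulAut.conj g).toMonoidHom := by
  ext x
  rw [mem_map_conj, mem_centralizer_singleton_iff, mem_centralizer_singleton_iff]
  constructor
  · intro h
    calc g⁻¹ * x * g * z = g⁻¹ * (x * (g * z * g⁻¹)) * g := by group
      _ = g⁻¹ * ((g * z * g⁻¹) * x) * g := by rw [h]
      _ = z * (g⁻¹ * x * g) := by group
  · intro h
    calc x * (g * z * g⁻¹) = g * ((g⁻¹ * x * g) * z) * g⁻¹ := by group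
      _ = g * (z * (g⁻¹ * x * g)) * g⁻¹ := by rw [h]
      _ = (g * z * g⁻¹) * x := by group

theorem charP'_centralizer_of_conj {z g : G} (h1 : CharP' p (centralizer ({g * z * g⁻¹} : Set G))) :
    CharP' p (centralizer ({z} : Set G)) := by
  have h3 := CharP'.map_conj h1 g⁻¹
  rw [← centralizer_singleton_map_conj] at h3
  have : g⁻¹ * (g * z * g⁻¹) * g⁻¹⁻¹ = (z : G) := by group
  rwa [this] at h3

/-- If `z ∈ Z(X)` and `C(z)` has characteristic `p` so has `N(X)`. -/
theorem charP'_normalizer {X : Subgroup G} (hX : IsPGroup p X) {z : G} (hz : z ∈ X)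
    (hzc : ∀ x ∈ X, x * z = z * x) (h : CharP' p (centralizer ({z} : Set G))) :
    CharP' p (normalizer (X : Set G)) := by
  rw [← charP'_iff]
  apply H49.charP_of_coprime_eq_one
  intro c hcN hcop hcc
  change c ∈ centralizer (Cfsg.pCoreOf p (normalizer (X : Set G)) : Set G) at hcc
  set N := normalizer (X : Set G) with hN
  set C := centralizer ({z} : Set G) with hC
  have hXC : X ≤ C := fun x hx => mem_centralizer_singleton_iff.mpr (hzc x hx)
  have hXQ : X ≤ Cfsg.pCoreOf p N := le_pCoreOf le_normalizer le_rfl hX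
  have hCXC : centralizer (X : Set G) ≤ C := by
    rw [hC]
    exact centralizer_le (by simpa using hz)
  have hcX : c ∈ centralizer (X : Set G) := centralizer_le hXQ hcc
  have hcC : c ∈ C := hCXC hcX
  set R := Cfsg.pCoreOf p C with hR
  have hRp : IsPGroup p R := pCoreOf_isPGroup p C
  have hCR : C ≤ normalizer (R : Set G) := le_normalizer_pCoreOf p C
  -- C_R(X) ≤ Q
  have h1 : R ⊓ centralizer (X : Set G) ≤ Cfsg.pCoreOf p N := by
    refine le_trans (b := Cfsg.pCoreOf p (centralizer (X : Set G))) ?_ ?_
    · exact le_pCoreOf inf_le_right (le_normalizer_inf (hCXC.trans hCR) le_normalizer) (hRp.to_le inf_le_left)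
    · apply le_pCoreOf ((pCoreOf_le _ _).trans (centralizer_le_normalizer _))
      · exact le_normalizer_pCoreOf_of_le (normalizer_le_normalizer_centralizer X)
      · exact pCoreOf_isPGroup _ _
  have hcop' : (Nat.card (zpowers c)).Coprime p := by rw [Nat.card_zpowers]; exact hcop
  have hzle : zpowers c ≤ centralizer (R : Set G) := by
    apply Cfsg.Agent.Cop.le_centralizer_of_AxB p (P := X) (Q := zpowers c) (U := R) hX hcop' hRp
    · rw [le_centralizer_iff, zpowers_le]
      exact hcX
    · exact hXC.trans hCR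
    · rw [zpowers_le]; exact hCR hcC
    · rw [le_centralizer_iff, zpowers_le]
      exact centralizer_le h1 hcc
  have hcR : c ∈ R := h ⟨hcC, hzle (mem_zpowers c)⟩
  have h2 : (orderOf c).Coprime p := hcop
  obtain ⟨k, hk⟩ := hRp ⟨c, hcR⟩
  have h3 : c ^ p ^ k = 1 := congrArg Subtype.val hk
  have h4 : orderOf c ∣ p ^ k := orderOf_dvd_of_pow_eq_one h3
  have h5 : (orderOf c).Coprime (orderOf c) := Nat.Coprime.coprime_dvd_right h4 (h2.pow_right k)
  exact orderOf_eq_one_iff.mp ((Nat.coprime_self _).mp h5)

theorem mem_omegaOne_iff_of_comm {A : Subgroup G} (hA : ∀ x ∈ A, ∀ y ∈ A, x * y = y * x) {z : G} :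
    z ∈ Cfsg.omegaOne p A ↔ z ∈ A ∧ z ^ p = 1 := by
  constructor
  · intro hz
    induction hz using Subgroup.closure_induction with
    | mem x hx => exact hx
    | one => exact ⟨one_mem _, one_pow _⟩
    | mul x y _ _ ihx ihy =>
      refine ⟨mul_mem ihx.1 ihy.1, ?_⟩
      have : Commute x y := hA x ihx.1 y ihy.1
      rw [this.mul_pow, ihx.2, ihy.2, one_mul]
    | inv x _ ih => exact ⟨inv_mem ih.1, by rw [inv_pow, ih.2, inv_one]⟩
  · intro h
    exact subset_closure h

theorem comm_center {S : Subgroup G} : ∀ x ∈ S ⊓ centralizer (S : Set G), ∀ y ∈ S ⊓ centralizer (S : Set G),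
    x * y = y * x := by
  intro x hx y hy
  exact (mem_centralizer_iff.mp hy.2 x hx.1)

/-- Criterion for parabolic characteristic. -/
theorem parabolicChar_iff (S : Sylow p G) : Cfsg.IsOfParabolicCharacteristic p G ↔
    ∀ z : G, z ≠ 1 → z ∈ Cfsg.omegaOne p ((S : Subgroup G) ⊓ Subgroup.centralizer ((S : Subgroup G) : Set G)) →
      CharP' p (centralizer ({z} : Set G)) := by
  constructor
  · intro h z hz1 hz
    rw [mem_omegaOne_iff_of_comm comm_center] at hz
    obtain ⟨⟨hzS, hzC⟩, hzp⟩ := hz
    have hCN : centralizer ({z} : Set G) ≤ normalizer (zpowers z : Set G) := centralizer_le_normalizer_zpowers z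
    have hzpg : IsPGroup p (zpowers z) := S.2.to_le ((zpowers_le).mpr hzS)
    have h1 := h (zpowers z) hzpg (by rwa [Ne, zpowers_eq_bot]) ⟨S, ?_⟩
    · have h2 : CharP' p (normalizer (zpowers z : Set G)) := charP'_iff.mp h1
      apply h2.of_normal hCN
      -- N(⟨z⟩) normalizes C(z)
      have : centralizer ({z} : Set G) = centralizer (zpowers z : Set G) := by
        apply le_antisymm
        · rw [le_centralizer_iff, zpowers_le, mem_centralizer_iff]
          intro x hx
          exact mem_centralizer_singleton_iff.mp hx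
        · apply centralizer_le
          simp
      rw [this]
      exact normalizer_le_normalizer_centralizer _
    · refine le_trans ?_ hCN
      intro s hs
      rw [mem_centralizer_singleton_iff]
      exact mem_centralizer_iff.mp hzC s hs
  · intro h R hR hRne ⟨T, hT⟩
    rw [charP'_iff]
    -- R ≤ T
    have hRT : R ≤ (T : Subgroup G) := by
      have h1 : IsPGroup p ↥((T : Subgroup G) ⊔ R) := T.2.to_sup_of_normal_right' hR hT
      have h2 := T.3 h1 le_sup_left
      rw [← h2]; exact le_sup_right
    have hRn : (R.subgroupOf (T : Subgroup G)).Normal := normal_subgroupOf_of_le hT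
    obtain ⟨z, hzR, hzc, hzo⟩ := exists_central_in_normal T.2 (R.subgroupOf (T : Subgroup G)) (by
      intro h0
      apply hRne
      rw [subgroupOf_eq_bot] at h0
      rw [eq_bot_iff]
      intro x hx
      have : x ∈ R ⊓ (T : Subgroup G) := ⟨hx, hRT hx⟩
      exact (disjoint_iff.mp h0) ▸ this)
    have hzo' : orderOf (z : G) = p := (Subgroup.orderOf_coe z).trans hzo
    have hzp' : (z : G) ^ p = 1 := orderOf_dvd_iff_pow_eq_one.mp hzo'.dvd
    have hzT : ∀ t ∈ (T : Subgroup G), t * z = z * t := fun t ht =>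
      congrArg Subtype.val (mem_center_iff.mp hzc ⟨t, ht⟩)
    obtain ⟨g, hg⟩ := MulAction.exists_smul_eq G T S
    have hgS : ∀ s ∈ (S : Subgroup G), g⁻¹ * s * g ∈ (T : Subgroup G) := by
      intro s hs
      rw [← hg, Sylow.coe_subgroup_smul, mem_pointwise_smul_iff_inv_smul_mem] at hs
      simpa [MulAut.smul_def, mul_assoc] using hs
    have h1 : CharP' p (centralizer ({g * z * g⁻¹} : Set G)) := by
      apply h
      · intro h0
        rw [conj_eq_one_iff] at h0
        rw [h0, orderOf_one] at hzo'
        exact (Fact.out : p.Prime).one_lt.ne hzo'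
      · rw [mem_omegaOne_iff_of_comm comm_center]
        refine ⟨⟨?_, ?_⟩, ?_⟩
        · rw [← hg, Sylow.coe_subgroup_smul]
          exact conj_mem_of_mem_smul.mpr z.2
        · change g * (z : G) * g⁻¹ ∈ centralizer ((S : Subgroup G) : Set G)
          rw [mem_centralizer_iff]
          intro s hs
          have h3 := hzT _ (hgS s hs)
          calc s * (g * z * g⁻¹) = g * ((g⁻¹ * s * g) * z) * g⁻¹ := by group
            _ = g * (z * (g⁻¹ * s * g)) * g⁻¹ := by rw [h3]
            _ = (g * z * g⁻¹) * s := by group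
        · rw [conj_pow, hzp', mul_one, mul_inv_cancel]
    have h2 : CharP' p (centralizer ({(z : G)} : Set G)) := charP'_centralizer_of_conj h1
    exact charP'_normalizer hR hzR (fun x hx => hzT x (hRT hx)) h2

/-- If `C(z)` has characteristic `p` for all `z` of order `p` in a Sylow subgroup, then all `p`-locals have. -/
theorem localChar_of (S : Sylow p G) (h : ∀ z : G, z ∈ (S : Subgroup G) → orderOf z = p →
      CharP' p (centralizer ({z} : Set G))) (T : Subgroup G) (hT : IsPGroup p T) (hne : T ≠ ⊥) :
    CharP' p (normalizer (T : Set G)) := by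
  obtain ⟨z, hz, hzo, hzc⟩ := exists_central_orderOf_eq hT hne
  obtain ⟨g, hg⟩ := exists_conj_mem_sylow S z hzo
  have h1 : CharP' p (centralizer ({g * z * g⁻¹} : Set G)) := by
    apply h _ hg
    rw [← MulAut.conj_apply, MulEquiv.orderOf_eq, hzo]
  exact charP'_normalizer hT hz hzc (charP'_centralizer_of_conj h1)

end

end Cfsg.Agent.H48
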