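import Cfsg.Agent.H48.CompLen

/-!
Subgroups of direct products of simple groups: composition length and orders.
-/

set_option autoImplicit false
set_option linter.unusedSectionVars false

namespace Cfsg.Agent.H48.PiSub

open Subgroup

variable {ι : Type*} [Fintype ι] [DecidableEq ι] {T : ι → Type*} [∀ i, Group (T i)] [∀ i, Finite (T i)]

/-- elements supported on `s` -/
def P (T : ι → Type*) [∀ i, Group (T i)] (s : Finset ι) : Subgroup (∀ i, T i) where
  carrier := {x | ∀ i, i ∉ s → x i = 1}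
  mul_mem' := by
    intro a b ha hb i hi
    rw [Pi.mul_apply, ha i hi, hb i hi, one_mul]
  one_mem' := fun i _ => rfl
  inv_mem' := by
    intro a ha i hi
    rw [Pi.inv_apply, ha i hi, inv_one]

lemma mem_P {s : Finset ι} {x : ∀ i, T i} : x ∈ P T s ↔ ∀ i, i ∉ s → x i = 1 := Iff.rfl

lemma P_empty : P T ∅ = ⊥ := by
  rw [eq_bot_iff]
  intro x hx
  rw [Subgroup.mem_bot]
  funext i
  exact hx i (by simp)

lemma P_univ : P T Finset.univ = ⊤ := by
  rw [eq_top_iff]
  intro x _ i hi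
  exact absurd (Finset.mem_univ i) hi

lemma P_normal (s : Finset ι) (x y : ∀ i, T i) (hx : x ∈ P T s) : y * x * y⁻¹ ∈ P T s := by
  intro i hi
  rw [Pi.mul_apply, Pi.mul_apply, hx i hi, mul_one, Pi.inv_apply, mul_inv_cancel]

lemma cl_P_le (hs : ∀ i, IsSimpleGroup (T i)) (s : Finset ι) : cl (P T s) ≤ s.card := by
  induction s using Finset.induction_on with
  | empty => rw [P_empty, cl_bot]; simp
  | insert j s hj ih =>
    rw [cl_add (Pi.evalMonoidHom T j) (P T (insert j s)), Finset.card_insert_of_notMem hj]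
    have h1 : P T (insert j s) ⊓ (Pi.evalMonoidHom T j).ker = P T s := by
      ext x
      constructor
      · rintro ⟨hx, hx2⟩ i hi
        by_cases h : i = j
        · subst h; exact hx2
        · exact hx i (by simp [h, hi])
      · intro hx
        refine ⟨fun i hi => hx i (fun h => hi (by simp [h])), ?_⟩
        exact hx j hj
    have h2 : (P T (insert j s)).map (Pi.evalMonoidHom T j) = ⊤ := by
      rw [eq_top_iff]
      intro t _
      refine ⟨Pi.mulSingle j t, ?_, ?_⟩
      · intro i hi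
        have : i ≠ j := by rintro rfl; simp at hi
        exact Pi.mulSingle_eq_of_ne this t
      · simp
    rw [h1, h2]
    have := hs j
    have := cl_le_one_of_simple (G := T j)
    omega

lemma cl_top_le (hs : ∀ i, IsSimpleGroup (T i)) : cl (⊤ : Subgroup (∀ i, T i)) ≤ Fintype.card ι := by
  rw [← P_univ]; exact cl_P_le hs _

lemma card_le_cl (D : Subgroup (∀ i, T i)) (h : ∀ i, ∃ d ∈ D, d ≠ 1 ∧ ∀ j, j ≠ i → d j = 1) :
    Fintype.card ι ≤ cl D := by
  have key : ∀ s : Finset ι, s.card ≤ cl (D ⊓ P T s) := by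
    intro s
    induction s using Finset.induction_on with
    | empty => simp
    | insert j s hj ih =>
      rw [Finset.card_insert_of_notMem hj]
      refine (Nat.add_le_add_right ih 1).trans (cl_lt_of_lt ?_ ?_)
      · refine lt_of_le_of_ne ?_ ?_
        · rintro x ⟨hx, hx2⟩
          exact ⟨hx, fun i hi => hx2 i (fun h => hi (by simp [h]))⟩
        · intro he
          obtain ⟨d, hd, hd1, hd2⟩ := h j
          have : d ∈ D ⊓ P T (insert j s) := ⟨hd, fun i hi => hd2 i (by rintro rfl; simp at hi)⟩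
          rw [← he] at this
          apply hd1
          funext i
          by_cases hij : i = j
          · subst hij; exact this.2 i hj
          · exact hd2 i hij
      · rintro x hx k hk
        exact ⟨D.mul_mem (D.mul_mem hx.1 hk.1) (D.inv_mem hx.1), P_normal s k x hk.2⟩
  have := key Finset.univ
  rwa [P_univ, inf_top_eq] at this

/-- order bound for subgroups projecting onto all the factors and meeting them trivially. -/
lemma card_sq_le (hs : ∀ i, IsSimpleGroup (T i)) (hnc : ∀ i, ¬ IsMulCommutative (T i))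
    (D : Subgroup (∀ i, T i)) (hproj : ∀ i, ∀ t : T i, ∃ d ∈ D, d i = t)
    (hint : ∀ i, ∀ d ∈ D, (∀ j, j ≠ i → d j = 1) → d = 1) :
    Nat.card D ^ 2 ≤ ∏ i, Nat.card (T i) := by
  classical
  obtain ⟨J, hJ, hmin⟩ := exists_minimal_of_wellFoundedLT
    (fun J : Finset ι => ∀ d ∈ D, (∀ j ∈ J, d j = 1) → d = 1)
    ⟨Finset.univ, fun d _ h => funext fun i => h i (Finset.mem_univ i)⟩
  let K : ι → Subgroup (∀ i, T i) := fun j => D ⊓ P T (J.erase j)ᶜ
  have hKmem : ∀ j x, x ∈ K j ↔ x ∈ D ∧ ∀ i ∈ J, i ≠ j → x i = 1 := by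
    intro j x
    constructor
    · rintro ⟨h1, h2⟩
      exact ⟨h1, fun i hi hij => h2 i (by simp [hi, hij])⟩
    · rintro ⟨h1, h2⟩
      refine ⟨h1, fun i hi => ?_⟩
      simp only [Finset.mem_compl, Finset.mem_erase, not_not] at hi
      exact h2 i hi.2 hi.1
  have hKne : ∀ j ∈ J, ∃ d ∈ K j, d ≠ 1 := by
    intro j hj
    by_contra h
    push Not at h
    have : J ≤ J.erase j := by
      apply hmin _ (Finset.erase_subset _ _)
      intro d hd hd2
      exact h d ((hKmem j d).mpr ⟨hd, fun i hi hij => hd2 i (by simp [hi, hij])⟩)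
    have := this hj
    simp at this
  have himg : ∀ (L : Subgroup (∀ i, T i)), (∀ e ∈ D, ∀ x ∈ L, e * x * e⁻¹ ∈ L) → ∀ i,
      (∃ d ∈ L, d i ≠ 1) → ∀ t : T i, ∃ d ∈ L, d i = t := by
    intro L hL i hd t
    have hn : (L.map (Pi.evalMonoidHom T i)).Normal := by
      constructor
      rintro _ ⟨x, hx, rfl⟩ s
      obtain ⟨e, he, hes⟩ := hproj i s
      exact ⟨e * x * e⁻¹, hL e he x hx, by simp [hes]⟩
    have := hs i
    rcases hn.eq_bot_or_eq_top with h | h
    · exfalso
      obtain ⟨d, hd, hd1⟩ := hd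
      apply hd1
      have : Pi.evalMonoidHom T i d ∈ L.map (Pi.evalMonoidHom T i) := ⟨d, hd, rfl⟩
      rw [h, Subgroup.mem_bot] at this
      exact this
    · have : t ∈ L.map (Pi.evalMonoidHom T i) := by rw [h]; trivial
      obtain ⟨d, hd, hdt⟩ := this
      exact ⟨d, hd, hdt⟩
  have hKD : ∀ j, ∀ e ∈ D, ∀ x ∈ K j, e * x * e⁻¹ ∈ K j := by
    intro j e he x hx
    exact ⟨D.mul_mem (D.mul_mem he hx.1) (D.inv_mem he), P_normal _ x e hx.2⟩
  have hinj : ∀ j ∈ J, ∀ x ∈ K j, x j = 1 → x = 1 := by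
    intro j hj x hx hxj
    rw [hKmem] at hx
    apply hJ x hx.1
    intro i hi
    by_cases hij : i = j
    · subst hij; exact hxj
    · exact hx.2 i hi hij
  have hf : ∀ j : J, ∃ i, i ∉ J ∧ ∃ d ∈ K j, d i ≠ 1 := by
    rintro ⟨j, hj⟩
    obtain ⟨d, hd, hd1⟩ := hKne j hj
    by_contra h
    push Not at h
    apply hd1
    apply hint j d ((hKmem j d).mp hd).1
    intro i hi
    by_cases hiJ : i ∈ J
    · exact ((hKmem j d).mp hd).2 i hiJ hi
    · exact h i hiJ d hd
  choose f hfJ hfd using hf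
  have hfinj : Function.Injective f := by
    rintro ⟨j, hj⟩ ⟨j', hj'⟩ he
    by_contra hne
    have hne' : j ≠ j' := fun h => hne (Subtype.ext h)
    apply hnc (f ⟨j, hj⟩)
    refine ⟨⟨fun a b => ?_⟩⟩
    obtain ⟨x, hx, hxa⟩ := himg (K j) (hKD j) _ (hfd ⟨j, hj⟩) a
    obtain ⟨y, hy, hyb⟩ := himg (K j') (hKD j') (f ⟨j, hj⟩) (by rw [he]; exact hfd ⟨j', hj'⟩) b
    have hc : x * y * x⁻¹ * y⁻¹ = 1 := by
      rw [hKmem] at hx hy
      apply hJ _ (D.mul_mem (D.mul_mem (D.mul_mem hx.1 hy.1) (D.inv_mem hx.1)) (D.inv_mem hy.1))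
      intro l hl
      simp only [Pi.mul_apply, Pi.inv_apply]
      by_cases hlj : l = j
      · have : y l = 1 := hy.2 l hl (by rintro rfl; exact hne' hlj.symm)
        rw [this]; simp
      · rw [hx.2 l hl hlj]; simp
    have hc2 : x * y = y * x := by
      have := mul_inv_eq_one.mp hc
      rwa [mul_inv_eq_iff_eq_mul] at this
    have := congrFun hc2 (f ⟨j, hj⟩)
    simpa [hxa, hyb] using this
  have hcard : ∀ j : J, Nat.card (T j) ≤ Nat.card (T (f j)) := by
    rintro ⟨j, hj⟩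
    have hK1 : ∃ d ∈ K j, d j ≠ 1 := by
      obtain ⟨d, hd, hd1⟩ := hKne j hj
      exact ⟨d, hd, fun h => hd1 (hinj j hj d hd h)⟩
    have hKT := himg (K j) (hKD j) j hK1
    -- the kernel of `K j → T (f j)` is trivial
    let L : Subgroup (∀ i, T i) := K j ⊓ (Pi.evalMonoidHom T (f ⟨j, hj⟩)).ker
    have hLD : ∀ e ∈ D, ∀ x ∈ L, e * x * e⁻¹ ∈ L := by
      rintro e he x ⟨hx1, hx2⟩
      refine ⟨hKD j e he x hx1, ?_⟩
      have hx3 : x (f ⟨j, hj⟩) = 1 := hx2
      change (e * x * e⁻¹) (f ⟨j, hj⟩) = 1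
      simp [hx3]
    have hL1 : ∀ x ∈ L, x j = 1 := by
      by_contra h
      push Not at h
      obtain ⟨x, hx, hxj⟩ := h
      have hLT := himg L hLD j ⟨x, hx, hxj⟩
      obtain ⟨d, hd, hd1⟩ := hfd ⟨j, hj⟩
      obtain ⟨y, hy, hyd⟩ := hLT (d j)
      have : y = d := by
        have h3 : d * y⁻¹ = 1 := hinj j hj _ ((K j).mul_mem hd ((K j).inv_mem hy.1)) (by
          rw [Pi.mul_apply, Pi.inv_apply, hyd, mul_inv_cancel])
        exact (mul_inv_eq_one.mp h3).symm
      apply hd1
      rw [← this]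
      exact hy.2
    choose s hs1 hs2 using hKT
    refine Nat.card_le_card_of_injective (fun t : T j => s t (f ⟨j, hj⟩)) ?_
    intro t t' ht
    simp only at ht
    have h4 : (s t)⁻¹ * s t' ∈ L := by
      refine ⟨(K j).mul_mem ((K j).inv_mem (hs1 t)) (hs1 t'), ?_⟩
      change ((s t)⁻¹ * s t') (f ⟨j, hj⟩) = 1
      rw [Pi.mul_apply, Pi.inv_apply, ht, inv_mul_cancel]
    have h5 := hL1 _ h4
    rw [Pi.mul_apply, Pi.inv_apply, hs2, hs2, inv_mul_eq_one] at h5
    exact h5
  have hD : Nat.card D ≤ ∏ j ∈ J, Nat.card (T j) := by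
    have : Nat.card (∀ j : J, T j) = ∏ j ∈ J, Nat.card (T j) := by
      rw [Nat.card_pi, Finset.prod_coe_sort J (fun j => Nat.card (T j))]
    rw [← this]
    refine Nat.card_le_card_of_injective (fun (d : D) (j : J) => (d : ∀ i, T i) j) ?_
    intro d e h
    have h3 : (d : ∀ i, T i)⁻¹ * e = 1 := by
      apply hJ _ (D.mul_mem (D.inv_mem d.2) e.2)
      intro j hj
      have := congrFun h ⟨j, hj⟩
      simp only at this
      rw [Pi.mul_apply, Pi.inv_apply, this, inv_mul_cancel]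
    rw [inv_mul_eq_one] at h3
    exact Subtype.ext h3
  have h6 : ∏ j ∈ J, Nat.card (T j) ≤ ∏ j : J, Nat.card (T (f j)) := by
    rw [← Finset.prod_coe_sort J (fun j => Nat.card (T j))]
    exact Finset.prod_le_prod (fun _ _ => Nat.zero_le _) (fun j _ => hcard j)
  have h7 : ∏ j : J, Nat.card (T (f j)) = ∏ i ∈ Finset.univ.image f, Nat.card (T i) := by
    rw [Finset.prod_image (fun a _ b _ h => hfinj h)]
  have hdisj : Disjoint J (Finset.univ.image f) := by
    rw [Finset.disjoint_left]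
    intro i hi hi2
    rw [Finset.mem_image] at hi2
    obtain ⟨j, -, rfl⟩ := hi2
    exact hfJ j hi
  calc Nat.card D ^ 2 = Nat.card D * Nat.card D := sq _
    _ ≤ (∏ j ∈ J, Nat.card (T j)) * ∏ i ∈ Finset.univ.image f, Nat.card (T i) := by
      rw [← h7]
      exact Nat.mul_le_mul hD (hD.trans h6)
    _ = ∏ i ∈ J ∪ Finset.univ.image f, Nat.card (T i) := (Finset.prod_union hdisj).symm
    _ ≤ ∏ i, Nat.card (T i) :=
      Finset.prod_le_prod_of_subset_of_one_le' (Finset.subset_univ _) (fun i _ _ => Nat.card_pos)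

end Cfsg.Agent.H48.PiSub
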