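import Mathlib
import Cfsg.Agent.H48.Basic

set_option autoImplicit false

namespace Cfsg.Agent.H48

open MonoidHom MulAction

variable {G : Type*} [Group G]

/-- The set of elements of `S` mapped to `-1`. -/
def negSet {S : Subgroup G} (χ : S →* ℤˣ) : Set G := {s | ∃ h : s ∈ S, χ ⟨s, h⟩ = -1}

theorem conj_mem_negSet_iff {S : Subgroup G} (χ : S →* ℤˣ) {g s : G} (hs : s ∈ S) :
    s⁻¹ * g * s ∈ negSet χ ↔ g ∈ negSet χ := by
  constructor
  · rintro ⟨h1, h2⟩
    have h3 : g ∈ S := by
      have := S.mul_mem (S.mul_mem hs h1) (S.inv_mem hs)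
      simpa [mul_assoc] using this
    refine ⟨h3, ?_⟩
    have h4 : (⟨s⁻¹ * g * s, h1⟩ : S) = ⟨s, hs⟩⁻¹ * ⟨g, h3⟩ * ⟨s, hs⟩ := rfl
    rw [h4, map_mul, map_mul, map_inv, mul_comm, ← mul_assoc, mul_inv_cancel, one_mul] at h2
    exact h2
  · rintro ⟨h3, h2⟩
    refine ⟨S.mul_mem (S.mul_mem (S.inv_mem hs) h3) hs, ?_⟩
    have h4 : (⟨s⁻¹ * g * s, S.mul_mem (S.mul_mem (S.inv_mem hs) h3) hs⟩ : S) = ⟨s, hs⟩⁻¹ * ⟨g, h3⟩ * ⟨s, hs⟩ := rfl
    rw [h4, map_mul, map_mul, map_inv, mul_comm, ← mul_assoc, mul_inv_cancel, one_mul]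
    exact h2

theorem negSet_of_mk_eq {S : Subgroup G} (χ : S →* ℤˣ) {z g g' : G}
    (h : (g : G ⧸ S) = (g' : G ⧸ S)) : g⁻¹ * z * g ∈ negSet χ ↔ g'⁻¹ * z * g' ∈ negSet χ := by
  have hs : g⁻¹ * g' ∈ S := QuotientGroup.eq.mp h
  have h1 : g'⁻¹ * z * g' = (g⁻¹ * g')⁻¹ * (g⁻¹ * z * g) * (g⁻¹ * g') := by group
  rw [h1, conj_mem_negSet_iff χ hs]

/-- The transfer of an involution into a group of order two. -/
theorem transfer_involution [Finite G] (S : Subgroup G) (χ : S →* ℤˣ) (z : G) (hz : z * z = 1) :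
    transfer χ z = (-1) ^ (Nat.card {q : G ⧸ S // q.out⁻¹ * z * q.out ∈ negSet χ}) := by
  classical
  have := Fintype.ofFinite G
  have : Fintype (Quotient (orbitRel (Subgroup.zpowers z) (G ⧸ S))) := Fintype.ofFinite _
  have := Fintype.ofFinite (G ⧸ S)
  rw [transfer_eq_prod_quotient_orbitRel_zpowers_quot]
  have hfix : ∀ q : G ⧸ S, q.out⁻¹ * z * q.out ∈ negSet χ → z • q = q := by
    rintro q ⟨h1, _⟩
    have h2 : ((z * q.out : G) : G ⧸ S) = (q.out : G ⧸ S) := by
      rw [QuotientGroup.eq]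
      have := S.inv_mem h1
      have h3 : (z * q.out)⁻¹ * q.out = (q.out⁻¹ * z * q.out)⁻¹ := by group
      rw [h3]; exact this
    have h4 : (q.out : G ⧸ S) = q := QuotientGroup.out_eq' q
    calc z • q = z • ((q.out : G) : G ⧸ S) := by rw [h4]
      _ = ((z * q.out : G) : G ⧸ S) := rfl
      _ = q := by rw [h2, h4]
  have hterm : ∀ o : Quotient (orbitRel (Subgroup.zpowers z) (G ⧸ S)),
      χ ⟨o.out.out⁻¹ * z ^ Function.minimalPeriod (z • ·) o.out * o.out.out,
            QuotientGroup.out_conj_pow_minimalPeriod_mem S z o.out⟩ =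
        if o.out.out⁻¹ * z * o.out.out ∈ negSet χ then -1 else 1 := by
    intro o
    set q := o.out
    split_ifs with h
    · have h1 : Function.minimalPeriod (z • ·) q = 1 :=
        Function.minimalPeriod_eq_one_iff_isFixedPt.mpr (hfix q h)
      obtain ⟨h2, h3⟩ := h
      rw [← h3]
      congr 1
      ext
      simp [h1]
    · have h2 : Function.minimalPeriod (z • · : G ⧸ S → G ⧸ S) q ∣ 2 := by
        apply Function.IsPeriodicPt.minimalPeriod_dvd
        change (fun x : G ⧸ S => z • x)^[2] q = q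
        have h0 : (fun x : G ⧸ S => z • x)^[2] q = z • (z • q) := rfl
        rw [h0, ← mul_smul, hz, one_smul]
      rcases (Nat.dvd_prime Nat.prime_two).mp h2 with h3 | h3
      · have hmem := QuotientGroup.out_conj_pow_minimalPeriod_mem S z q
        rcases Int.units_eq_one_or (χ ⟨q.out⁻¹ * z ^ Function.minimalPeriod (z • ·) q * q.out, hmem⟩) with h4 | h4
        · exact h4
        · exfalso
          apply h
          have h5 : q.out⁻¹ * z ^ Function.minimalPeriod (z • · : G ⧸ S → G ⧸ S) q * q.out = q.out⁻¹ * z * q.out := by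
            rw [h3, pow_one]
          rw [← h5]
          exact ⟨hmem, h4⟩
      · have h4 : (⟨q.out⁻¹ * z ^ Function.minimalPeriod (z • · : G ⧸ S → G ⧸ S) q * q.out,
            QuotientGroup.out_conj_pow_minimalPeriod_mem S z q⟩ : S) = 1 := by
          ext
          simp only [h3, pow_two, hz, Subgroup.coe_one]
          group
        rw [h4, map_one]
  rw [Finset.prod_congr rfl (fun o _ => hterm o), Finset.prod_ite, Finset.prod_const_one, mul_one,
    Finset.prod_const]
  congr 1
  rw [Nat.card_eq_fintype_card, Fintype.card_subtype]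
  apply Finset.card_nbij (fun o => o.out)
  · intro o ho
    simpa using ho
  · intro o _ o' _ h
    exact Quotient.out_injective h
  · intro q hq
    simp only [Finset.coe_filter, Finset.mem_univ, true_and, Set.mem_ofPred_eq] at hq
    have h1 : (Quotient.mk (orbitRel (Subgroup.zpowers z) (G ⧸ S)) q).out = q := by
      have h2 : (orbitRel (Subgroup.zpowers z) (G ⧸ S)).r (Quotient.mk (orbitRel (Subgroup.zpowers z) (G ⧸ S)) q).out q :=
        Quotient.exact (Quotient.out_eq _)
      obtain ⟨⟨k, hk⟩, hk2⟩ := h2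
      obtain ⟨n, rfl⟩ := hk
      have h3 : z ∈ stabilizer G q := hfix q hq
      have h4 := (stabilizer G q).zpow_mem h3 n
      have h5 : (z ^ n) • q = q := h4
      rw [← hk2]
      exact h5
    refine ⟨Quotient.mk _ q, ?_, h1⟩
    simp only [Finset.coe_filter, Finset.mem_univ, true_and, Set.mem_ofPred_eq]
    rw [h1]
    exact hq

/-- The sign character attached to a subgroup of index two. -/
noncomputable def signHom {S : Type*} [Group S] (M : Subgroup S) (hM : M.index = 2) : S →* ℤˣ := by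
  classical
  exact
  { toFun := fun s => if s ∈ M then 1 else -1
    map_one' := by simp [M.one_mem]
    map_mul' := by
      intro a b
      have := Subgroup.mul_mem_iff_of_index_two hM (a := a) (b := b)
      by_cases ha : a ∈ M <;> by_cases hb : b ∈ M <;> simp_all }

theorem signHom_apply {S : Type*} [Group S] (M : Subgroup S) (hM : M.index = 2) (s : S) :
    signHom M hM s = -1 ↔ s ∉ M := by
  classical
  unfold signHom
  by_cases h : s ∈ M
  · simp [h]
  · simp [h]

end Cfsg.Agent.H48
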